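import Mathlib
import Cfsg.Agent.Lib.McLRec.LocD
import Cfsg.Agent.Lib.Amalg.Aut

/-! Search for the twisting element (generated). -/

set_option autoImplicit false
set_option maxRecDepth 100000
set_option Elab.async false

namespace CfsgLib.McLRec

open CfsgLib.Comput CfsgLib.Amalg

def AK : ℕ := 0x11fc0000000000000000000000000040

def extK : Ext := [(120, 0, 0x7878), (124, 0, 0x7307)]

theorem extK_eq : allL chk extK.eqns = true := by decide +kernel

theorem extK_mask : Nat.beq (extK.mask (lettersOf (gsK.map Prod.fst))) AK = true := by decide +kernel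

def sv1 : List (ℕ × ℕ × ℕ) := [(1, 1, 0), (2, 0, 0), (4, 1, 118), (5, 0, 0x7677), (7, 1, 0x7677), (8, 0, 119), (10, 1, 119), (11, 0, 118), (13, 1, 116), (14, 0, 0x7475), (25, 1, 0x7475), (26, 0, 117), (37, 1, 117), (38, 0, 116), (65, 0, 0x74777576), (67, 1, 0x767774), (80, 0, 0x7775), (82, 1, 0x777475), (88, 1, 0x7675), (95, 0, 0x7674), (116, 0, 0x777475), (118, 1, 0x7774), (124, 1, 0x767475), (131, 0, 0x7675), (137, 0, 0x767774), (139, 1, 0x767775), (160, 1, 0x7674), (167, 0, 0x767475), (173, 0, 0x767775), (175, 1, 0x74777576), (188, 0, 0x7774), (190, 1, 0x7775)]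

theorem lev1 : levelB st x0 AK gsK [[7], [115]] [[115], [7]] [[121], [120]] [120]
    [(true, [0x10101], [0]), (false, [1], [0])] sv1 = true := by decide +kernel

def sv20 : List (ℕ × ℕ × ℕ) := [(3, 1, 121), (6, 1, 0), (9, 1, 120), (12, 0, 120), (24, 0, 121), (36, 0, 0)]

theorem lev20 : levelB st x0 AK gsK [[120], [7], [115]] [[121], [115], [7]] [[0x7475], [118]] [116]
    [(true, [0x101], [0]), (true, [0x10201020102], [0]), (false, [1], [0])] sv20 = true := by decide +kernel

def sv300 : List (ℕ × ℕ × ℕ) := [(6, 0, 0)]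

theorem lev300 : levelB st x0 AK gsK [[116], [120], [7], [115]] [[0x7475], [121], [115], [7]] [[118]] [118]
    [(true, [0x101], [0]), (true, [0x1020102], [4]), (true, [0x10301030103], [0])] sv300 = true := by decide +kernel

def sv301 : List (ℕ × ℕ × ℕ) := []

theorem lev301 : levelB st x0 AK gsK [[116], [120], [7], [115]] [[118], [121], [115], [7]] [] [118]
    [(true, [0x101], [0]), (true, [0x1020102], [4]), (true, [0x203010203], [0x301030205])] sv301 = true := by decide +kernel

def sv21 : List (ℕ × ℕ × ℕ) := [(3, 1, 121), (6, 1, 0), (9, 1, 120), (12, 0, 120), (24, 0, 121), (36, 0, 0)]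

theorem lev21 : levelB st x0 AK gsK [[120], [7], [115]] [[120], [115], [7]] [[0x7475], [118]] [116]
    [(true, [0x101], [0]), (true, [0x10201020102], [0]), (false, [1], [0])] sv21 = true := by decide +kernel

def sv310 : List (ℕ × ℕ × ℕ) := []

theorem lev310 : levelB st x0 AK gsK [[116], [120], [7], [115]] [[0x7475], [120], [115], [7]] [] [118]
    [(true, [0x101], [0]), (true, [0x1020102], [4]), (true, [0x1030302030103030203], [5])] sv310 = true := by decide +kernel

def sv311 : List (ℕ × ℕ × ℕ) := [(36, 0, 0)]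

theorem lev311 : levelB st x0 AK gsK [[116], [120], [7], [115]] [[118], [120], [115], [7]] [[0x7475]] [118]
    [(true, [0x101], [0]), (true, [0x1020102], [4]), (true, [0x10301030103], [0])] sv311 = true := by decide +kernel

def srcs : List (List ℕ) := [[118], [116], [120], [7], [115]]

def imgs : List (List ℕ) := [[118], [0x7475], [121], [115], [7]]

theorem cubbad : powB st x0 gsK srcs [[0x7475], [118], [120], [115], [7]] 122 3
    [((116, 0x7677), [(0x3020303, 119), (1, 0x7475), (0x3030203, 0x7677)]), ((7, 7), [(4, 115), (0x405, 125), (5, 7)]), ((115, 115), [(0x405, 125), (5, 7), (4, 115)])]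
    [] [] = true := by decide +kernel

theorem sq1 : powB st x0 gsK srcs imgs 0 2
    [((120, 120), [(3, 121), (0x303, 120)]), ((116, 116), [(2, 0x7475), (0x3030203, 116)]), ((118, 118), [(1, 118), (1, 118)]), ((7, 7), [(4, 115), (5, 7)]), ((115, 115), [(5, 7), (4, 115)])]
    [(0, 0, 0), (7, 4, 115), (115, 5, 7), (125, 0x405, 125)] [0, 125] = true := by decide +kernel

theorem cub0 : powB st x0 gsK srcs imgs 122 3
    [((120, 120), [(0x303, 120), (0x303, 120), (0x303, 120)]), ((116, 116), [(0x3020303, 117), (2, 0x7475), (0x3030203, 116)]), ((118, 118), [(0x3010303, 0x7677), (0x3030103, 119), (1, 118)]), ((7, 7), [(4, 115), (0x405, 125), (5, 7)]), ((115, 115), [(0x405, 125), (5, 7), (4, 115)])]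
    [(0, 0, 0), (7, 4, 115), (115, 0x405, 125), (125, 5, 7)] [0] = true := by decide +kernel

theorem cub1 : powB st x0 gsK srcs imgs 123 3
    [((116, 116), [(0x204, 0x737475), (0x205, 0x77475), (0x3030203, 116)]), ((117, 117), [(0x3020303, 117), (0x3020303, 117), (0x3020303, 117)]), ((7, 7), [(4, 115), (0x10302030301, 0x757d), (5, 7)]), ((115, 115), [(0x10302030301, 0x757d), (5, 7), (4, 115)])]
    [(0, 0, 0), (7, 4, 115), (115, 0x10302030301, 0x757d), (125, 0x302030305, 0x775), (116, 0x204, 0x737475), (0x774, 2, 0x7475), (0x7374, 0x303020305, 0x774), (0x747d, 0x30302030405, 0x747d), (117, 0x3020303, 117), (0x775, 0x302030304, 0x7375), (0x7375, 0x405, 125), (0x757d, 5, 7), (0x7475, 0x303020304, 0x7374), (0x77475, 0x3030203, 116), (0x737475, 0x205, 0x77475), (0x74757d, 0x20405, 0x74757d)] [0, 117, 0x747d, 0x74757d] = true := by decide +kernel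

theorem cub2 : powB st x0 gsK srcs imgs 124 3
    [((118, 118), [(5, 7), (4, 115), (1, 118)]), ((119, 119), [(0x301030304, 0x737677), (0x20303010302, 0x777d), (0x3030103, 119)]), ((7, 7), [(4, 115), (1, 118), (5, 7)]), ((115, 115), [(1, 118), (5, 7), (4, 115)])]
    [(0, 0, 0), (7, 4, 115), (115, 1, 118), (125, 0x104, 0x7376), (118, 5, 7), (0x776, 0x405, 125), (0x7376, 0x105, 0x776), (0x767d, 0x10405, 0x767d), (119, 0x301030304, 0x737677), (0x777, 0x3010303, 0x7677), (0x7377, 0x303010304, 0x7377), (0x777d, 0x3030103, 119), (0x7677, 0x30103030405, 0x76777d), (0x77677, 0x301030305, 0x77677), (0x737677, 0x20303010302, 0x777d), (0x76777d, 0x303010305, 0x777)] [0, 0x767d, 0x7377, 0x77677] = true := by decide +kernel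

def extK2 : Ext := [(116, 0, 0x78747878), (118, 0, 0x78767878)]

theorem extK2_eq : allL chk extK2.eqns = true := by decide +kernel

theorem extK2_mask : Nat.beq (extK2.mask (lettersOf [118, 116, 120, 7, 115])) 0xfc0000000000000000000000000040 = true := by decide +kernel

theorem tri0 : band (allL (inA AL) [0]) (band (eqA chk AL [122, 122] [0]) (eqA chk AL [122, 122] [])) = true := by decide +kernel

theorem tri10 : band (allL (inA AL) [117]) (band (eqA chk AL [0x7b75, 123] [117]) (eqA chk AL [123, 123] [])) = true := by decide +kernel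

theorem ra10 : band (eqA chk AL [122, 123] (0x7679 :: ([123] ++ [119])))
    (band (alB chk AL AK 8 0x7679 0x7678) (alB chk AL AK 8 119 0x7677)) = true := by decide +kernel

theorem rb10 : band (eqA chk AL [123] (0 :: ([123] ++ [0])))
    (band (alB chk AL AK 8 0 0) (alB chk AL AK 8 0 0)) = true := by decide +kernel

theorem rc10 : band (eqA chk AL [122, 0, 0x7b75] (0x7679 :: ([123] ++ [0x7775])))
    (band (alB chk AL AK 8 0x7679 0x7678) (alB chk AL AK 8 0x7775 0x767775)) = true := by decide +kernel

theorem two10 : band (eqA chk AL ([122] ++ [0x7678, 0x7b75]) ([0x7678, 0x7b75] ++ [0x777])) (band (alB chk AL AK 8 0x777 0x737677)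
    (band (allL (inA AL) (0x737677 :: [123, 0x7677])) (allL (inA AL) ([123, 0x767775] ++ [123, 0])))) = true := by decide +kernel

theorem ne10 : chk (0x737677 :: [123, 0x7677], [123, 0x767775] ++ [123, 0]) = false := by decide +kernel

theorem tri11 : band (allL (inA AL) [0x747d]) (band (eqA chk AL [0x7d2d25, 123] [0x747d]) (eqA chk AL [123, 123] [])) = true := by decide +kernel

theorem ra11 : band (eqA chk AL [122, 123] (0x7679 :: ([123] ++ [119])))
    (band (alB chk AL AK 8 0x7679 0x7678) (alB chk AL AK 8 119 0x7677)) = true := by decide +kernel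

theorem rb11 : band (eqA chk AL [123] (0 :: ([123] ++ [0])))
    (band (alB chk AL AK 8 0 0) (alB chk AL AK 8 0 0)) = true := by decide +kernel

theorem rc11 : band (eqA chk AL [122, 0, 0x7d2d25] (0x7679 :: ([123] ++ [0x747577])))
    (band (alB chk AL AK 8 0x7679 0x7678) (alB chk AL AK 8 0x747577 0x747677)) = true := by decide +kernel

theorem two11 : band (eqA chk AL ([122] ++ [0x7678, 0x7d2d25]) ([0x7678, 0x7d2d25] ++ [0x777d])) (band (alB chk AL AK 8 0x777d 0x76777d)
    (band (allL (inA AL) (0x76777d :: [123, 0x7677])) (allL (inA AL) ([123, 0x747677] ++ [123, 0])))) = true := by decide +kernel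

theorem ne11 : chk (0x76777d :: [123, 0x7677], [123, 0x747677] ++ [123, 0]) = false := by decide +kernel

theorem tri12 : band (allL (inA AL) [0x74757d]) (band (eqA chk AL [0x7d4417, 123] [0x74757d]) (eqA chk AL [123, 123] [])) = true := by decide +kernel

theorem ra12 : band (eqA chk AL [122, 123] (0x7679 :: ([123] ++ [119])))
    (band (alB chk AL AK 8 0x7679 0x7678) (alB chk AL AK 8 119 0x7677)) = true := by decide +kernel

theorem rb12 : band (eqA chk AL [123] (0 :: ([123] ++ [0])))
    (band (alB chk AL AK 8 0 0) (alB chk AL AK 8 0 0)) = true := by decide +kernel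

theorem rc12 : band (eqA chk AL [122, 0, 0x7d4417] (0x7679 :: ([123] ++ [0x77477])))
    (band (alB chk AL AK 8 0x7679 0x7678) (alB chk AL AK 8 0x77477 0x3504)) = true := by decide +kernel

theorem two12 : band (eqA chk AL ([122] ++ [0x7678, 0x7d4417]) ([0x7678, 0x7d4417] ++ [0x7377])) (band (alB chk AL AK 8 0x7377 0x77677)
    (band (allL (inA AL) (0x77677 :: [123, 0x7677])) (allL (inA AL) ([123, 0x3504] ++ [123, 0])))) = true := by decide +kernel

theorem ne12 : chk (0x77677 :: [123, 0x7677], [123, 0x3504] ++ [123, 0]) = false := by decide +kernel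

theorem tri20 : band (allL (inA AL) [0x767d]) (band (eqA chk AL [0x774619, 124] [0x767d]) (eqA chk AL [124, 124] [])) = true := by decide +kernel

theorem ra20 : band (eqA chk AL [122, 124] (120 :: ([124] ++ [116])))
    (band (alB chk AL AK 8 120 121) (alB chk AL AK 8 116 0x7475)) = true := by decide +kernel

theorem rb20 : band (eqA chk AL [124] (0 :: ([124] ++ [0])))
    (band (alB chk AL AK 8 0 0) (alB chk AL AK 8 0 0)) = true := by decide +kernel

theorem rc20 : band (eqA chk AL [122, 0, 0x774619] (120 :: ([124] ++ [0x737674])))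
    (band (alB chk AL AK 8 120 121) (alB chk AL AK 8 0x737674 0x747675)) = true := by decide +kernel

theorem two20 : band (eqA chk AL ([122] ++ [121, 0x774619]) ([121, 0x774619] ++ [0x774])) (band (alB chk AL AK 8 0x774 0x737475)
    (band (allL (inA AL) (0x737475 :: [124, 0x7475])) (allL (inA AL) ([124, 0x747675] ++ [124, 0])))) = true := by decide +kernel

theorem ne20 : chk (0x737475 :: [124, 0x7475], [124, 0x747675] ++ [124, 0]) = false := by decide +kernel

theorem tri21 : band (allL (inA AL) [0x7377]) (band (eqA chk AL [0x765b1a, 124] [0x7377]) (eqA chk AL [124, 124] [])) = true := by decide +kernel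

theorem ra21 : band (eqA chk AL [122, 124] (120 :: ([124] ++ [116])))
    (band (alB chk AL AK 8 120 121) (alB chk AL AK 8 116 0x7475)) = true := by decide +kernel

theorem rb21 : band (eqA chk AL [124] (0 :: ([124] ++ [0])))
    (band (alB chk AL AK 8 0 0) (alB chk AL AK 8 0 0)) = true := by decide +kernel

theorem rc21 : band (eqA chk AL [122, 0, 0x765b1a] (120 :: ([124] ++ [0x767477])))
    (band (alB chk AL AK 8 120 121) (alB chk AL AK 8 0x767477 0x757774)) = true := by decide +kernel

theorem two21 : band (eqA chk AL ([122] ++ [121, 0x765b1a]) ([121, 0x765b1a] ++ [0x747d])) (band (alB chk AL AK 8 0x747d 0x74757d)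
    (band (allL (inA AL) (0x74757d :: [124, 0x7475])) (allL (inA AL) ([124, 0x757774] ++ [124, 0])))) = true := by decide +kernel

theorem ne21 : chk (0x74757d :: [124, 0x7475], [124, 0x757774] ++ [124, 0]) = false := by decide +kernel

theorem tri22 : band (allL (inA AL) [0x77677]) (band (eqA chk AL [0x7a4415, 124] [0x77677]) (eqA chk AL [124, 124] [])) = true := by decide +kernel

theorem ra22 : band (eqA chk AL [122, 124] (120 :: ([124] ++ [116])))
    (band (alB chk AL AK 8 120 121) (alB chk AL AK 8 116 0x7475)) = true := by decide +kernel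

theorem rb22 : band (eqA chk AL [124] (0 :: ([124] ++ [0])))
    (band (alB chk AL AK 8 0 0) (alB chk AL AK 8 0 0)) = true := by decide +kernel

theorem rc22 : band (eqA chk AL [122, 0, 0x7a4415] (120 :: ([124] ++ [0x7774])))
    (band (alB chk AL AK 8 120 121) (alB chk AL AK 8 0x7774 0x5d50)) = true := by decide +kernel

theorem two22 : band (eqA chk AL ([122] ++ [121, 0x7a4415]) ([121, 0x7a4415] ++ [0x7374])) (band (alB chk AL AK 8 0x7374 0x77475)
    (band (allL (inA AL) (0x77475 :: [124, 0x7475])) (allL (inA AL) ([124, 0x5d50] ++ [124, 0])))) = true := by decide +kernel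

theorem ne22 : chk (0x77475 :: [124, 0x7475], [124, 0x5d50] ++ [124, 0]) = false := by decide +kernel


end CfsgLib.McLRec
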