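import Mathlib
import Cfsg.Agent.Lib.McLRec.Aut
import Cfsg.Agent.Lib.McLRec.DceD

/-! The embedding of `McL`. -/

set_option autoImplicit false
set_option maxRecDepth 100000
set_option Elab.async false

namespace CfsgLib.McLRec

open CfsgLib.Comput CfsgLib.Amalg
open scoped Pointwise

variable {G : Type*} [Group G] [Finite G] {s : ℕ → G} {t : G}

theorem Hyp.exists_hom (H : Hyp s t) (hN : ¬ Cfsg.IsIsolatedInvolution t) :
    ∃ φ : X →* G, Function.Injective φ ∧ ∀ a u, (a, u) ∈ Lam s → φ a = u := by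
  obtain ⟨M, h1, h2, h3, h4, h5⟩ := H.exists_twist hN
  let γ : ℕ → X × G := fun j => (g j, sig s M j)
  have e9 : ltr γ 8 = (m, M) :=
    Prod.ext (ev_letter g (m := 7) (by norm_num)).symm (letters_gen _ (j := 7) (by decide +kernel))
  have e9' : (m, M)⁻¹ = (m, M) := Prod.ext (inv_eq_of_mul_eq_one_right mm) (inv_eq_of_mul_eq_one_right h1)
  have hK : ∀ k ∈ Lam s, k.1 ∈ K → (ltr γ 8)⁻¹ * k * ltr γ 8 ∈ Lam s := fun k hk h => by
    obtain ⟨u, a1, a2⟩ := mem_tw.1 (h2 _ h)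
    rw [H.graph.snd_eq a1 hk] at a2
    rw [e9]; nth_rw 2 [← e9']; rw [e9']; nth_rw 2 [← e9']
    exact a2
  have hT : ∀ e, (2 ^ 8).testBit e = true → e = 8 := fun e he => by
    rw [Nat.testBit_two_pow, decide_eq_true_eq] at he; exact he.symm
  have S : Setting (MonoidHom.fst X G) γ (Lam s) C.A C.T C.it := by
    refine ⟨inA_Lam s M, fun a ha h => Prod.ext h (H.graph.snd _ (by rw [← show a.1 = 1 from h]; exact ha)),
      fun e he => by rw [hT e he]; norm_num, fun e he c hc c' hc' h => ?_, fun e he => ⟨he, ?_⟩⟩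
    · obtain rfl := hT e he
      have a1 := (dom_iff s).1 ⟨c.2, hc⟩
      refine hK c hc (cent_x a1 ?_)
      have a2 := (comm_z ((dom_iff s).1 ⟨c'.2, hc'⟩)).map (MulAut.conj m)
      rw [e9] at h
      have a3 : c.1 = m * c'.1 * m⁻¹ := eq_mul_inv_of_mul_eq h
      rw [a3, ← mzm]; exact a2
    · obtain rfl := hT e he
      exact ⟨1, (Lam s).one_mem, 1, (Lam s).one_mem, by
        change 1 * 1 * ltr γ 8 * 1 = _
        rw [e9, e9']; simp⟩
  have hchk : ∀ e, chk e = true → e.Holds fun j => MonoidHom.fst X G (γ j) := holds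
  have tri : ∀ w, inA AL w = true → chk ([8, w, 8, w, 8, w], []) = true → (M * ev (sig s M) w) ^ 3 = 1 →
      Adj γ (Lam s) 8 1 (evSegs γ [(0, 8), (w, 8)]) := fun w hw a1 a2 => by
    have a3 := (Lam s).inv_mem (ev_mem (inA_Lam s M) hw)
    refine ⟨_, a3, _, a3, ?_⟩
    have a4 : (ltr γ 8 * ev γ w) ^ 3 = 1 := by
      rw [e9, pair_ev]
      refine Prod.ext ?_ a2
      have := mod.eq a1
      simp only [evL_cons, evL_nil] at this
      refine Eq.trans ?_ this
      change (m * ev g w) ^ 3 = _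
      simp only [pow_succ]; group
    have a5 : ltr γ 8 * ltr γ 8 = 1 := by rw [e9]; exact Prod.ext mm h1
    change 1 * (ev γ w)⁻¹ * ltr γ 8 * (ev γ w)⁻¹ = 1 * ltr γ 8 * (ev γ w * ltr γ 8 * 1)
    generalize ltr γ 8 = μ at a4 a5
    generalize ev γ w = a at a4
    have a6 : μ * a * μ * (a * μ * a) = 1 := by rw [← a4]; simp only [pow_succ]; group
    rw [one_mul, one_mul, mul_one, ← mul_assoc, eq_inv_of_mul_eq_one_left a6, mul_inv_rev, mul_inv_rev,
      ← eq_inv_of_mul_eq_one_left a5, mul_assoc]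
  have hrel : ∀ R ∈ C.rels, Adj γ (Lam s) R.2 1 (evSegs γ R.1) := by
    intro R hR
    simp only [C, List.mem_cons, List.not_mem_nil, or_false] at hR
    rcases hR with rfl | rfl | rfl | rfl
    · refine Adj.zero_iff.2 ⟨1, (Lam s).one_mem, ?_⟩
      change _ = 1 * ltr γ 8 * (1 * ltr γ 8 * 1)
      rw [e9]; exact Prod.ext (by simp [mm]) (by simp [h1])
    · exact tri 122 (by decide +kernel) (by decide +kernel) h3
    · exact tri 123 (by decide +kernel) (by decide +kernel) h4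
    · exact tri 124 (by decide +kernel) (by decide +kernel) h5
  have hg : C.Good γ (Lam s) 410 :=
    Cfg.dersB_sound S hchk hrel D4 (Cfg.dersB_sound S hchk hrel D3 (Cfg.dersB_sound S hchk hrel D2
      (Cfg.dersB_sound S hchk hrel D1 (Cfg.dersB_sound S hchk hrel D0 (C.good_zero _ _) D0_ok) D1_ok) D2_ok) D3_ok)
      D4_ok
  have Dr : Dirs (MonoidHom.fst X G) γ (Lam s) 8 g210 210 pt210 (stepN W210) 0x7f 21 (2 ^ 210 - 1) :=
    ⟨sm210, fun j hj => by
      rw [show 0x7f = 2 ^ 7 - 1 by norm_num, Nat.testBit_two_pow_sub_one, decide_eq_true_eq] at hj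
      exact (if_pos hj).symm, by norm_num, fun a ha => orb210 ((dom_iff s).1 ⟨a.2, ha⟩),
      fun k hk h => hK k hk (mem_K_of_fix ((dom_iff s).1 ⟨k.2, hk⟩) h)⟩
  have hD := inD_of_live S hchk rfl Dr hg cs_ok ⟨0, by decide +kernel, rfl⟩
  have hne : ∀ j ∈ cs.map Prod.fst, C.rw j = [] ∨
      MonoidHom.fst X G (C.r γ j) ∉ (Lam s).map (MonoidHom.fst X G) := fun j hj => by
    have a1 := allL_sound cs_ne j hj
    cases hc : chk (app (C.rw j) [7], 7 :: C.rw j) with
    | true => rw [hc] at a1; exact Or.inl (beqL_sound a1)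
    | false =>
      refine Or.inr fun h => mod.ne hc ?_
      rw [Lam, map_fst_cl, Cfg.r, map_evL] at h
      rw [app_eq, evL_append, evL_one, evL_cons]
      exact (comm_z h).eq
  let Γ := Lam s ⊔ Subgroup.zpowers (ltr γ 8)
  have a1 : ∀ b, (1, b) ∈ Γ → b = 1 := fun b hb =>
    congrArg Prod.snd (Cfg.eq_one_of_inD S hne (hD _ hb) rfl)
  have a2 : Γ.map (MonoidHom.fst X G) = ⊤ := eq_top fun j hj => by
    rcases hj with hj | rfl
    · exact ⟨_, Subgroup.mem_sup_left (mem_gens (fun j => (g j, s j)) hj), rfl⟩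
    · exact ⟨_, Subgroup.mem_sup_right (Subgroup.mem_zpowers _), rfl⟩
  have a3 : ∀ a, ∃ u, (a, u) ∈ Γ := fun a => by
    obtain ⟨p, hp, rfl⟩ : a ∈ Γ.map (MonoidHom.fst X G) := a2 ▸ Subgroup.mem_top a
    exact ⟨p.2, hp⟩
  have := simple_X
  have a4 : (Γ.comap (MonoidHom.inl X G)).Normal := ⟨fun a ha b => by
    obtain ⟨u, hu⟩ := a3 b
    simpa using Γ.mul_mem (Γ.mul_mem hu ha) (Γ.inv_mem hu)⟩
  have a5 : Graph Γ := ⟨fun a ha => ?_, a1⟩
  · obtain ⟨φ, b1, b2⟩ := a5.exists_hom a3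
    exact ⟨φ, b1, fun a u h => (b2 a u).1 (Subgroup.mem_sup_left h)⟩
  · rcases a4.eq_bot_or_eq_top with h | h
    · exact Subgroup.mem_bot.1 (h.le (show a ∈ Γ.comap (MonoidHom.inl X G) from ha))
    · have b1 : z ∈ Γ.comap (MonoidHom.inl X G) := h ▸ Subgroup.mem_top z
      have b2 := a1 t (by simpa using Γ.mul_mem (Γ.inv_mem b1) (Subgroup.mem_sup_left H.zt))
      exact absurd (H.graph.fst _ (b2 ▸ H.zt)) z_ne

end CfsgLib.McLRec
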