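import Mathlib
import Cfsg.Agent.Lib.McLRec.T1
import Cfsg.Agent.Lib.Rec3.Tools

/-!
The 3-local characterisation of the McLaughlin group: hypotheses and the Sylow 3-subgroup.
-/

set_option autoImplicit false
set_option maxHeartbeats 400000
set_option linter.unusedSectionVars false

namespace CfsgLib.McLRec.Three

open Subgroup Cfsg CfsgLib.Tech CfsgLib.W2 CfsgLib.Rec3 TG

variable {G : Type*} [Group G]

/-- `g` lies in the domain of `θ` and has image `a` -/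
def Im {A : Type*} [Group A] {M : Subgroup G} (θ : M →* A) (g : G) (a : A) : Prop :=
  ∃ h : g ∈ M, θ ⟨g, h⟩ = a

namespace Im

variable {A : Type*} [Group A] {M : Subgroup G} {θ : M →* A} {g h : G} {a b : A}

theorem mem (h1 : Im θ g a) : g ∈ M := h1.1

theorem of_mem (θ : M →* A) (hg : g ∈ M) : ∃ a, Im θ g a := ⟨_, hg, rfl⟩

theorem mul (h1 : Im θ g a) (h2 : Im θ h b) : Im θ (g * h) (a * b) := by
  obtain ⟨h1, rfl⟩ := h1
  obtain ⟨h2, rfl⟩ := h2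
  exact ⟨M.mul_mem h1 h2, map_mul θ ⟨g, h1⟩ ⟨h, h2⟩⟩

theorem inv (h1 : Im θ g a) : Im θ g⁻¹ a⁻¹ := by
  obtain ⟨h1, rfl⟩ := h1
  exact ⟨M.inv_mem h1, map_inv θ ⟨g, h1⟩⟩

theorem pow (h1 : Im θ g a) (n : ℕ) : Im θ (g ^ n) (a ^ n) := by
  obtain ⟨h1, rfl⟩ := h1
  exact ⟨M.pow_mem h1 n, map_pow θ ⟨g, h1⟩ n⟩

theorem one : Im θ 1 1 := ⟨M.one_mem, map_one θ⟩

theorem uniq (h1 : Im θ g a) (h2 : Im θ g b) : a = b := h1.2.symm.trans h2.2

theorem of_eq (h1 : Im θ g a) (e : a = b) : Im θ g b := e ▸ h1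

theorem conj (h1 : Im θ g a) (h2 : Im θ h b) : Im θ (g * h * g⁻¹) (a * b * a⁻¹) :=
  (h1.mul h2).mul h1.inv

theorem eq_one (h1 : Im θ g a) (e : g = 1) : a = 1 := (e ▸ h1).uniq one

theorem exists_conj (θ : M →* A) (k : A) :
    ∃ θ' : M →* A, ∀ g a, Im θ' g (k * a * k⁻¹) ↔ Im θ g a :=
  ⟨(MulAut.conj k).toMonoidHom.comp θ, fun _ _ => exists_congr fun _ =>
    (MulAut.conj k).injective.eq_iff⟩

end Im

theorem conj_of_cube {a b : G} (ha : a * a = 1) (hb : b * b = 1) (h : (a * b) ^ 3 = 1) :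
    a * b * a * (a * b)⁻¹ = b := by
  have h1 : a⁻¹ = a := inv_eq_of_mul_eq_one_right ha
  have h2 : b⁻¹ = b := inv_eq_of_mul_eq_one_right hb
  rw [mul_inv_rev, h1, h2]
  calc _ = (a * b) ^ 3 * b⁻¹ := by simp only [pow_succ]; group
    _ = b := by rw [h, h2, one_mul]

theorem eq_one_of_two_three {a : G} {i j : ℕ} (h2 : a ^ 2 ^ i = 1) (h3 : a ^ 3 ^ j = 1) : a = 1 := by
  have := pow_gcd_eq_one.2 ⟨h2, h3⟩
  rwa [(Nat.Coprime.pow i j (by norm_num)).gcd_eq_one, pow_one] at this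

theorem comm_sup {A : Subgroup G} {x : G} (hA : ∀ a ∈ A, ∀ b ∈ A, a * b = b * a)
    (hx : ∀ a ∈ A, x * a = a * x) : ∀ a ∈ A ⊔ zpowers x, ∀ b ∈ A ⊔ zpowers x, a * b = b * a := by
  have k : ∀ b ∈ A ⊔ zpowers x, A ≤ Cx b ∧ x ∈ Cx b := fun b hb =>
    ⟨fun a ha => Cx_comm.1 ((sup_le (fun c hc => mem_Cx.2 (hA c hc a ha))
      (zpowers_le.2 (mem_Cx.2 (hx a ha))) : _ ≤ Cx a) hb),
    Cx_comm.1 ((sup_le (fun c hc => mem_Cx.2 (hx c hc).symm) (zpowers_le.2 (mem_Cx.2 rfl)) :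
      _ ≤ Cx x) hb)⟩
  exact fun a ha b hb => mem_Cx.1 ((sup_le (k b hb).1 (zpowers_le.2 (k b hb).2) : _ ≤ Cx b) ha)

variable [Finite G]

theorem eq_of_three {A B C : Subgroup G} (hAC : A ≤ C) (hCB : C ≤ B)
    (h : Nat.card B = 3 * Nat.card A) {x : G} (hx : x ∈ C) (hx' : x ∉ A) : C = B := by
  have h1 := card_mul_relIndex' hAC
  have h2 := card_mul_relIndex' hCB
  have h3 : A.relIndex C * C.relIndex B = 3 := Nat.eq_of_mul_eq_mul_left (Nat.card_pos (α := A)) (by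
    rw [← mul_assoc, h1, h2, h, mul_comm])
  rcases (Nat.dvd_prime Nat.prime_three).1 (Dvd.intro _ h3) with h4 | h4
  · exact absurd (relIndex_eq_one.1 h4 hx) hx'
  · rw [h4] at h3
    exact le_antisymm hCB (relIndex_eq_one.1 (by omega))

/-- the hypotheses -/
structure Hyp (S J Q M L : Subgroup G) (z : G) (θ : M →* PG 6) (η : L →* S25) : Prop where
  syl : IsSylowIn 3 S ⊤
  z3 : orderOf z = 3
  Sz : S ≤ Cx z
  JS : J ≤ S
  Jc : ∀ x ∈ J, ∀ y ∈ J, x * y = y * x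
  J3 : ∀ x ∈ J, x ^ 3 = 1
  cJ : Nat.card J = 81
  MJ : M ≤ normalizer (J : Set G)
  NM : normalizer (J : Set G) ≤ normalizer (M : Set G)
  M3 : ∀ g ∈ normalizer (J : Set G), (∃ k, g ^ 3 ^ k = 1) → g ∈ M
  θs : ∀ a ∈ PG.alt 6, ∃ g, Im θ g a
  θa : ∀ g a, Im θ g a → a ∈ PG.alt 6
  θk : ∀ g, Im θ g 1 ↔ g ∈ J
  Lz : L ≤ Cx z
  NL : normalizer (zpowers z : Set G) ≤ normalizer (L : Set G)
  L3 : ∀ g ∈ Cx z, (∃ k, g ^ 3 ^ k = 1) → g ∈ L
  ηs : ∀ a, ∃ g, Im η g a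
  ηk : ∀ g, Im η g 1 ↔ g ∈ Q
  NQ : normalizer (zpowers z : Set G) ≤ normalizer (Q : Set G)
  cQ : Nat.card Q = 243
  Q3 : ∀ x ∈ Q, x ^ 3 = 1
  Qc : ∀ x ∈ Q, ∀ y ∈ Q, x * y * x⁻¹ * y⁻¹ ∈ zpowers z
  zQ : z ∈ Q
  CQ : ∀ g, (∀ x ∈ Q, g * x = x * g) → g ∈ zpowers z

instance : Fact (Nat.Prime 3) := ⟨Nat.prime_three⟩

theorem norm_zp {g x : G} (h : g * x * g⁻¹ = x ∨ g * x * g⁻¹ = x⁻¹) :
    g ∈ normalizer (zpowers x : Set G) := by
  rw [mem_normalizer_iff_cj, cj_zpowers]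
  rcases h with h | h <;> simp [h]

theorem Cx_le_norm (x : G) : Cx x ≤ normalizer (zpowers x : Set G) :=
  fun _ h => norm_zp (Or.inl (mem_Cx'.1 h))

namespace Hyp

variable {S J Q M L : Subgroup G} {z : G} {θ : M →* PG 6} {η : L →* S25}
  (h : Hyp S J Q M L z θ η)
include h

theorem conjθ (k : PG 6) : ∃ θ' : M →* PG 6, Hyp S J Q M L z θ' η ∧
    ∀ g a, Im θ' g (k * a * k⁻¹) ↔ Im θ g a := by
  obtain ⟨θ', e⟩ := Im.exists_conj θ k
  have e' : ∀ g a, Im θ' g a ↔ Im θ g (k⁻¹ * a * k⁻¹⁻¹) := fun g a => by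
    rw [← e]; simp [mul_assoc]
  exact ⟨θ', { h with
    θs := fun a ha => (h.θs _ (Normal.conj_mem inferInstance a ha k⁻¹)).imp fun g hg => (e' g a).2 hg
    θa := fun g a ha => by
      simpa [mul_assoc] using Normal.conj_mem inferInstance _ (h.θa g _ ((e' g a).1 ha)) k
    θk := fun g => by rw [e', ← h.θk]; simp }, e⟩

theorem conjη (k : S25) : ∃ η' : L →* S25, Hyp S J Q M L z θ η' ∧
    ∀ g a, Im η' g (k * a * k⁻¹) ↔ Im η g a := by
  obtain ⟨η', e⟩ := Im.exists_conj η k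
  have e' : ∀ g a, Im η' g a ↔ Im η g (k⁻¹ * a * k⁻¹⁻¹) := fun g a => by
    rw [← e]; simp [mul_assoc]
  exact ⟨η', { h with
    ηs := fun a => (h.ηs _).imp fun g hg => (e' g a).2 hg
    ηk := fun g => by rw [e', ← h.ηk]; simp }, e⟩

theorem zz : z ^ 3 = 1 := h.z3 ▸ pow_orderOf_eq_one z

theorem z1 : z ≠ 1 := fun e => by simpa [e] using h.z3

theorem QL : Q ≤ L := fun g hg => ((h.ηk g).2 hg).mem

theorem JM : J ≤ M := fun g hg => ((h.θk g).2 hg).mem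

theorem pQ : IsPGroup 3 Q := isPGroup_iff_mem.2 fun x hx => ⟨1, h.Q3 x hx⟩

theorem pJ : IsPGroup 3 J := isPGroup_iff_mem.2 fun x hx => ⟨1, h.J3 x hx⟩

theorem ZQ : zpowers z ≤ Q := zpowers_le.2 h.zQ

theorem cen {g c : G} (hg : g ∈ Cx z) (hc : c ∈ zpowers z) : g * c = c * g :=
  (mem_Cx.1 ((zpowers_le.2 (Cx_comm.1 hg) : _ ≤ Cx g) hc)).symm

theorem zQN {g : G} (hg : g ∈ Cx z) : g ∈ normalizer (Q : Set G) := h.NQ (Cx_le_norm z hg)

theorem SL : S ≤ L := fun g hg => h.L3 g (h.Sz hg) (isPGroup_iff_mem.1 h.syl.pgroup g hg)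

theorem QS : Q ≤ S := (h.syl.of_le h.Sz le_top).le_of_le_normalizer h.pQ (h.QL.trans h.Lz)
  fun _ => h.zQN

theorem cS : Nat.card S = 729 := by
  have h1 : η.ker = Q.subgroupOf L := Subgroup.ext fun x =>
    (Iff.trans ⟨fun e => ⟨x.2, e⟩, fun e => e.2⟩ (h.ηk x))
  have h2 := η.ker.card_mul_index
  rw [index_ker, MonoidHom.range_eq_top.2 (fun a => let ⟨_, h1, h2⟩ := h.ηs a; ⟨_, h2⟩), card_top,
    card_eq, h1, Nat.card_congr (subgroupOfEquivOfLe h.QL).toEquiv, h.cQ] at h2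
  rw [(h.syl.of_le h.SL le_top).card_eq_pow, ← h2,
    show 243 * 120 = 3 ^ 6 * 40 from rfl, Nat.factorization_mul (by norm_num) (by norm_num),
    Nat.prime_three.factorization_pow]
  simp [Nat.factorization_eq_zero_of_not_dvd (show ¬ 3 ∣ 40 by norm_num)]

theorem not81 {A : Subgroup G} (hA : A ≤ Q) (hc : ∀ a ∈ A, ∀ b ∈ A, a * b = b * a)
    (h81 : 81 ≤ Nat.card A) : False := by
  have cz : Nat.card (zpowers z) = 3 := by rw [Nat.card_zpowers, h.z3]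
  by_cases hQ : Q ≤ A
  · have := card_le_of_le (show Q ≤ zpowers z from fun g hg => h.CQ g fun x hx =>
      hc g (hQ hg) x (hQ hx))
    rw [h.cQ, cz] at this
    omega
  obtain ⟨x, hx, hxA⟩ := SetLike.not_le_iff_exists.1 hQ
  have h1 := card_mul_relIndex' hA
  have h2 : A.relIndex Q ≠ 1 := fun e => hQ (relIndex_eq_one.1 e)
  have h3 : Nat.card A = 81 := by
    rw [h.cQ] at h1
    generalize A.relIndex Q = k at h1 h2
    have : k < 4 := by nlinarith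
    interval_cases k <;> omega
  let χ : A →* G := MonoidHom.mk' (fun a => x * a * x⁻¹ * (a : G)⁻¹) fun a b => by
    have := h.cen (h.Lz (h.QL (hA a.2))) (h.Qc x hx b (hA b.2))
    calc _ = x * a * x⁻¹ * (a : G)⁻¹ * (a * (x * b * x⁻¹ * (b : G)⁻¹) * (a : G)⁻¹) := by
          rw [Subgroup.coe_mul]; group
      _ = _ := by rw [this]; group
  have h4 := χ.ker.card_mul_index
  have h5 := card_le_of_le (show χ.range ≤ zpowers z by
    rintro _ ⟨a, rfl⟩; exact h.Qc x hx a (hA a.2))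
  have h6 := card_le_of_le (show χ.ker.map A.subtype ≤ zpowers z by
    rintro _ ⟨a, ha, rfl⟩
    refine h.CQ _ fun y hy => (mem_Cx.1 ?_).symm
    refine ((eq_of_three (C := Q ⊓ Cx a) (le_inf hA fun b hb => mem_Cx.2 (hc b hb a a.2)) inf_le_left
      (by rw [h.cQ, h3]) ⟨hx, mem_Cx'.2 (mul_inv_eq_one.1 ha)⟩ hxA).ge hy).2)
  rw [card_map_of_injective A.subtype_injective] at h6
  rw [index_ker, h3] at h4
  nlinarith

theorem mem_of_cent {A : Subgroup G} (hA : A ≤ Q) (hc : ∀ a ∈ A, ∀ b ∈ A, a * b = b * a)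
    (h27 : Nat.card A = 27) {x : G} (hx : x ∈ Q) (hx' : ∀ a ∈ A, x * a = a * x) : x ∈ A := by
  by_contra hn
  have hB : A ⊔ zpowers x ≤ Q := sup_le hA (zpowers_le.2 hx)
  refine h.not81 hB (comm_sup hc hx') ?_
  have h1 := card_mul_relIndex' (le_sup_left : A ≤ A ⊔ zpowers x)
  have h2 : A.relIndex (A ⊔ zpowers x) ≠ 1 := fun e =>
    hn (relIndex_eq_one.1 e (mem_sup_right (mem_zpowers x)))
  have h3 := card_dvd_of_le hB
  rw [h.cQ, ← h1, h27] at h3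
  rw [← h1, h27]
  generalize A.relIndex (A ⊔ zpowers x) = k at *
  by_contra h4
  have : k < 3 := by omega
  interval_cases k <;> simp at *

theorem JQ : ¬ J ≤ Q := fun e => h.not81 e h.Jc h.cJ.ge

theorem eqS {C : Subgroup G} (h1 : Q ≤ C) (h2 : C ≤ S) {x : G} (hx : x ∈ C) (hx' : x ∉ Q) : C = S :=
  eq_of_three h1 h2 (by rw [h.cS, h.cQ]) hx hx'

theorem idx {C : Subgroup G} (hC : C ≤ S) : Q.relIndex C ≤ 3 := by
  have h1 := card_mul_relIndex' h.QS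
  rw [h.cQ, h.cS] at h1
  have h2 : Q.relIndex S = 3 := by omega
  exact h2 ▸ relIndex_le_of_le_right hC (by omega)

theorem cJ1 : Nat.card (J ⊓ Q : Subgroup G) = 27 := by
  have h1 := card_mul_relIndex' (inf_le_left : J ⊓ Q ≤ J)
  have h2 := h.idx h.JS
  have h3 : Q.relIndex J ≠ 1 := fun e => h.JQ (relIndex_eq_one.1 e)
  rw [inf_relIndex_left, h.cJ] at h1
  generalize Q.relIndex J = k at *
  interval_cases k <;> omega

theorem memJ {x : G} (hx : x ∈ Q) (hx' : ∀ a ∈ J ⊓ Q, x * a = a * x) : x ∈ J :=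
  (h.mem_of_cent inf_le_right (fun a ha b hb => h.Jc a ha.1 b hb.1) h.cJ1 hx hx').1

theorem zJ : z ∈ J := h.memJ h.zQ fun _ ha => (mem_Cx.1 (h.Sz (h.JS ha.1))).symm

theorem ZJ : zpowers z ≤ J := zpowers_le.2 h.zJ

theorem QJ1 : Q ≤ normalizer ((J ⊓ Q : Subgroup G) : Set G) := fun x hx =>
  mem_normalizer_of_forall fun a ha => by
    simpa using mul_mem ((le_inf h.ZJ h.ZQ) (h.Qc x hx a ha.2)) ha

theorem CJ1 {g : G} (hg : ∀ a ∈ J ⊓ Q, g * a = a * g) : g ∈ J := by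
  have k : ∀ g ∈ centralizer ((J ⊓ Q : Subgroup G) : Set G), g ∈ Cx z ∧ g ^ 3 ^ 2 = 1 := fun g hg => by
    have hz : g ∈ Cx z := mem_Cx.2 (hg z ⟨h.zJ, h.zQ⟩).symm
    refine ⟨hz, ?_⟩
    obtain ⟨i, e⟩ := h.CQ (g ^ 3) fun x hx => by
      have a1 : x⁻¹ * (g * x * g⁻¹) ∈ Q :=
        mul_mem (inv_mem hx) (conj_mem_of_mem_normalizer (h.zQN hz) hx)
      have a2 := h.memJ a1 fun a ha => by
        have b1 := hg a ha
        have b2 := hg _ (conj_mem_of_mem_normalizer (h.QJ1 hx) ha)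
        calc _ = x⁻¹ * g * x * (g⁻¹ * (a * g) * g⁻¹) := by group
          _ = x⁻¹ * (g * (x * a * x⁻¹)) * x * g⁻¹ := by rw [b1]; group
          _ = _ := by rw [← b2]; group
      have a3 := hg _ ⟨a2, a1⟩
      have a4 := h.J3 _ a2
      generalize hw : x⁻¹ * (g * x * g⁻¹) = w at a3 a4
      have a5 : g * x * g⁻¹ = x * w := by rw [← hw]; group
      have a6 : ∀ y, g * (y * w) * g⁻¹ = g * y * g⁻¹ * w := fun y => by
        rw [← conj_mul, ← a3, mul_inv_cancel_right]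
      calc g ^ 3 * x = g * (g * (g * x * g⁻¹) * g⁻¹) * g⁻¹ * g ^ 3 := by
            simp only [pow_succ, pow_zero]; group
        _ = x * w ^ 3 * g ^ 3 := by
            rw [a5, a6, a5, a6, a6, a5]; simp only [pow_succ, pow_zero, one_mul, mul_assoc]
        _ = _ := by rw [a4, mul_one]
    rw [pow_two, pow_mul, ← e, ← zpow_natCast, ← zpow_mul, mul_comm, zpow_mul, zpow_natCast, h.zz,
      one_zpow]
  set C := centralizer ((J ⊓ Q : Subgroup G) : Set G)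
  have hJ : J ≤ C := fun x hx a ha => h.Jc a ha.1 x hx
  obtain ⟨x, hx, hx'⟩ := SetLike.not_le_iff_exists.1 h.JQ
  have h1 : C ≤ S := le_sup_right.trans (h.syl.eq_of_le (Q := Q ⊔ C)
    (h.pQ.to_sup_of_normal_left' (isPGroup_iff_mem.2 fun x hx => ⟨2, (k x hx).2⟩)
      fun x hx => h.zQN (k x hx).1)
    ((h.eqS le_sup_left (sup_le h.QS h.JS) (mem_sup_right hx) hx').ge.trans (sup_le_sup_left hJ Q))
    le_top).le
  have h2 := card_mul_relIndex' (inf_le_left : C ⊓ Q ≤ C)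
  have h3 := h.idx h1
  have h4 := card_le_of_le (show C ⊓ Q ≤ J ⊓ Q from fun a ha =>
    ⟨h.memJ ha.2 fun b hb => (ha.1 b hb).symm, ha.2⟩)
  rw [inf_relIndex_left] at h2
  rw [h.cJ1] at h4
  exact (eq_of_le_of_card_ge hJ (by rw [h.cJ]; nlinarith)).ge fun a ha => (hg a ha).symm

theorem NJ1 : normalizer ((J ⊓ Q : Subgroup G) : Set G) ≤ normalizer (J : Set G) := fun g hg =>
  mem_normalizer_of_forall fun x hx => h.CJ1 fun a ha => by
    have := h.Jc x hx _ (conj_mem_of_mem_normalizer' hg ha).1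
    calc _ = g * (x * (g⁻¹ * a * g)) * g⁻¹ := by group
      _ = _ := by rw [this]; group

theorem SN : S ≤ normalizer (J : Set G) := by
  obtain ⟨x, hx, hx'⟩ := SetLike.not_le_iff_exists.1 h.JQ
  exact (h.eqS (le_inf h.QS (h.QJ1.trans h.NJ1)) inf_le_left ⟨h.JS hx, le_normalizer hx⟩ hx').ge.trans
    inf_le_right

theorem SM : S ≤ M := fun g hg => h.M3 g (h.SN hg) (isPGroup_iff_mem.1 h.syl.pgroup g hg)

theorem NSZ : normalizer (S : Set G) ≤ normalizer (zpowers z : Set G) := fun g hg =>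
  mem_normalizer_of_cj_le (by
    rw [cj_zpowers, zpowers_le]
    refine h.CQ _ fun x hx => ?_
    have := mem_Cx.1 (h.Sz (conj_mem_of_mem_normalizer' hg (h.QS hx)))
    calc _ = g * (z * (g⁻¹ * x * g)) * g⁻¹ := by group
      _ = _ := by rw [← this]; group)

theorem normS {g x : G} (hg : g ∈ normalizer (zpowers z : Set G)) (hx : x ∈ S) (hx' : x ∉ Q)
    (e : g * x * g⁻¹ ∈ S) : g ∈ normalizer (S : Set G) :=
  mem_normalizer_of_cj_le (by
    rw [← h.eqS le_sup_left (sup_le h.QS (zpowers_le.2 hx)) (mem_sup_right (mem_zpowers x)) hx']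
    conv_rhs => rw [h.eqS le_sup_left (sup_le h.QS (zpowers_le.2 hx))
      (mem_sup_right (mem_zpowers x)) hx']
    rw [cj_sup, cj_zpowers, mem_normalizer_iff_cj.1 (h.NQ hg)]
    exact sup_le h.QS (zpowers_le.2 e))

theorem normS' {g : G} (hg : g ∈ normalizer (zpowers z : Set G)) (hJ : g ∈ normalizer (J : Set G)) :
    g ∈ normalizer (S : Set G) := by
  obtain ⟨x, hx, hx'⟩ := SetLike.not_le_iff_exists.1 h.JQ
  exact h.normS hg (h.JS hx) hx' (h.JS (conj_mem_of_mem_normalizer hJ hx))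

theorem memS {g : G} (hg : g ∈ normalizer (S : Set G)) {k : ℕ} (e : g ^ 3 ^ k = 1) : g ∈ S :=
  zpowers_le.1 (h.syl.le_of_normalizes (isPGroup_zpowers_of_pow e) le_top (zpowers_le.2 hg))

end Hyp

end CfsgLib.McLRec.Three
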