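import Mathlib
import Cfsg.Agent.Lib.McLRec.T2

/-!
The 3-local characterisation of the McLaughlin group: coordinates on `J`.
-/

set_option autoImplicit false
set_option maxHeartbeats 400000
set_option linter.unusedSectionVars false
set_option synthInstance.maxSize 4096

namespace CfsgLib.McLRec.Three

open Subgroup Cfsg CfsgLib.Tech CfsgLib.W2 CfsgLib.Rec3 TG

noncomputable section

def c1 : PG 6 := PG.pl [1, 2, 0, 3, 4, 5]
def c2 : PG 6 := PG.pl [0, 1, 2, 4, 5, 3]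
def f0 : PG 6 := PG.pl [3, 4, 5, 1, 0, 2]
def n0 : PG 6 := PG.pl [3, 4, 2, 0, 1, 5]

end

abbrev InS (a : PG 6) : Prop := a * c1 = c1 * a ∧ a * c2 = c2 * a

/-- words for the elements of `S / J` -/
def wU : List (List ℕ) := [[], [0], [0, 0], [1, 0, 1, 1, 1], [0, 1, 0, 1, 1, 1], [0, 0, 1, 0, 1, 1, 1],
  [1, 0, 0, 1, 1, 1], [0, 1, 0, 0, 1, 1, 1], [0, 0, 1, 0, 0, 1, 1, 1]]

def tb3 : List ℕ := [tQ, tF, tN]

variable {G : Type*} [Group G]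

theorem Im.wd {A : Type*} [Group A] {M : Subgroup G} {θ : M →* A} {l : List G} {l' : List A}
    (H : List.Forall₂ (Im θ) l l') : ∀ w, Im θ (wg l w) (wg l' w) := by
  have k : ∀ i, Im θ (l.getD i 1) (l'.getD i 1) := by
    induction H with
    | nil => exact fun _ => Im.one
    | cons a _ ih =>
      intro i
      cases i
      exacts [a, ih _]
  intro w
  induction w with
  | nil => exact Im.one
  | cons i w ih => exact (k i).mul ih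

theorem Act.pow {φ : V →* G} {g : G} {α : V → V} (h : Act φ g α) : ∀ k, Act φ (g ^ k) α^[k]
  | 0 => fun v => by simp
  | k + 1 => by rw [pow_succ]; exact (h.pow k).mul h

theorem eq_one_of_sq {x : G} (h3 : x ^ 3 = 1) (h2 : x * x = 1) : x = 1 := by
  rwa [pow_three, h2, mul_one] at h3

theorem mem_of_sq {H : Subgroup G} {x : G} (h3 : x ^ 3 = 1) (h2 : x * x ∈ H) : x ∈ H := by
  have := H.mul_mem h2 h2
  rwa [show x * x * (x * x) = x ^ 3 * x by simp only [pow_succ, pow_zero, one_mul, mul_assoc], h3,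
    one_mul] at this

theorem exists_cent {N : Subgroup G} (h3 : ∀ x ∈ N, x ^ 3 = 1) {t g : G} (ht : t * t = 1)
    (hg : g * t * g⁻¹ * t ∈ N) : ∃ c ∈ N, c * g ∈ Cx t :=
  ⟨_, hg, mem_Cx'.2 (Eq.trans (by group)
    (conj_of_cube (by rw [conj_mul, ht]; simp) ht (h3 _ hg)))⟩

/-- coordinates -/
structure Dat (S J Q M : Subgroup G) (z : G) (φ : V →* G) (q f n : G) (T : Subgroup G) : Prop where
  inj : Function.Injective φ
  rng : ∀ x, x ∈ J ↔ ∃ v, φ v = x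
  φz : φ (o 1) = z
  inQ : ∀ v, φ v ∈ Q ↔ dg 27 v = 0
  aq : Act φ q (tm tQ)
  af : Act φ f (tm tF)
  an : Act φ n (tm tN)
  qQ : q ∈ Q
  fM : f ∈ M
  nM : n ∈ M
  fS : f ∈ normalizer (S : Set G)
  sylT : IsSylowIn 2 T (normalizer (J : Set G) ⊓ Cx (f * f))
  fT : f ∈ T
  nT : n ∈ T
  gen : ∀ H : Subgroup G, J ≤ H → q ∈ H → f ∈ H → n ∈ H → M ≤ H
  genS : ∀ s ∈ S, ∃ w ∈ wU, (wg [q, f, n] w)⁻¹ * s ∈ J

variable [Finite G]

namespace Hyp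

variable {S J Q M L : Subgroup G} {z : G} {θ : M →* PG 6} {η : L →* S25}
  (h : Hyp S J Q M L z θ η)
include h

theorem exists_lab : ∃ θ' : M →* PG 6, Hyp S J Q M L z θ' η ∧
    ∀ g a, Im θ' g a → (g ∈ S ↔ InS a) := by
  have h1 : IsPGroup 3 (qpre θ (Cx c1 ⊓ Cx c2)) := isPGroup_iff_mem.2 fun x hx => ⟨2, by
    have a1 := (mem_pre (x := ⟨x, pre_le _ hx⟩)).1 hx
    have a2 := h.J3 _ ((h.θk _).1 ((Im.pow ⟨pre_le _ hx, rfl⟩ 3).of_eq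
      ((by decide +kernel : ∀ a, InS a → a ^ 3 = 1) _ ⟨mem_Cx.1 a1.1, mem_Cx.1 a1.2⟩)))
    rwa [← pow_mul] at a2⟩
  obtain ⟨m, hm, e⟩ := (h.syl.of_le h.SM le_top).exists_cj_le h1 (pre_le _)
  obtain ⟨k, hk⟩ := Im.of_mem θ hm
  obtain ⟨θ', h', e'⟩ := h.conjθ k⁻¹
  have k1 : ∀ g a, Im θ' g a → InS a → g ∈ S := fun g a a1 a2 => by
    have a3 := hk.inv.conj ((e' g (k * a * k⁻¹)).1 (a1.of_eq (by group)))
    have a4 : m⁻¹ * g * m⁻¹⁻¹ ∈ qpre θ (Cx c1 ⊓ Cx c2) := (mem_pre (x := ⟨_, a3.mem⟩)).2 (by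
      rw [a3.2, show k⁻¹ * (k * a * k⁻¹) * k⁻¹⁻¹ = a by group]
      exact ⟨mem_Cx.2 a2.1, mem_Cx.2 a2.2⟩)
    simpa [mul_assoc] using cj_le_iff.1 e _ a4
  have k2 : ∀ g a, Im θ' g a → g ∈ S → a ^ 3 = 1 := fun g a a1 a2 => by
    have a3 : g ^ 729 = 1 := h.cS ▸ congrArg Subtype.val (pow_card_eq_one' (x := (⟨g, a2⟩ : S)))
    exact pow_gcd_eq_one.2 ⟨(a1.pow 729).eq_one a3, (by decide +kernel : ∀ a : PG 6, a ^ 60 = 1) a⟩
  refine ⟨θ', h', fun g a a1 => ⟨fun a2 => ?_, k1 g a a1⟩⟩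
  obtain ⟨g1, b1⟩ := h'.θs c1 (by decide +kernel)
  obtain ⟨g2, b2⟩ := h'.θs c2 (by decide +kernel)
  exact (by decide +kernel : ∀ a, a ^ 3 = 1 → (a * c1) ^ 3 = 1 → (a * c2) ^ 3 = 1 → InS a) a
    (k2 _ _ a1 a2) (k2 _ _ (a1.mul b1) (mul_mem a2 (k1 _ _ b1 (by decide +kernel))))
    (k2 _ _ (a1.mul b2) (mul_mem a2 (k1 _ _ b2 (by decide +kernel))))

theorem exists_fn : ∃ f n T, Im θ f f0 ∧ Im θ n n0 ∧
    IsSylowIn 2 T (normalizer (J : Set G) ⊓ Cx (f * f)) ∧ f ∈ T ∧ n ∈ T := by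
  obtain ⟨g, a1⟩ := h.θs f0 (by decide +kernel)
  have a2 : Im θ (g ^ 9) f0 := (a1.pow 9).of_eq (by decide +kernel)
  have a3 : (g ^ 9) ^ 2 ^ 2 = 1 := by
    have := h.J3 _ ((h.θk _).1 ((a1.pow 4).of_eq (by decide +kernel)))
    rw [← pow_mul] at this ⊢
    rw [show 9 * 2 ^ 2 = 4 * 3 * 3 from rfl, pow_mul, this, one_pow]
  generalize g ^ 9 = f at a2 a3
  have a4 : f * f * (f * f) = 1 := by
    rw [← a3, show 2 ^ 2 = 4 from rfl]; simp only [pow_succ, pow_zero, one_mul, mul_assoc]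
  obtain ⟨m, b1⟩ := h.θs n0 (by decide +kernel)
  obtain ⟨j, hj, b6⟩ := exists_cent h.J3 a4 ((h.θk _).1
    (((b1.conj (a2.mul a2)).mul (a2.mul a2)).of_eq (by decide +kernel)))
  have b5 : Im θ (j * m) n0 := (((h.θk _).2 hj).mul b1).of_eq (one_mul _)
  generalize j * m = k at b5 b6
  have b7 : (k ^ 3) ^ 2 ^ 1 = 1 := by
    have := h.J3 _ ((h.θk _).1 ((b5.pow 2).of_eq (by decide +kernel)))
    rwa [← pow_mul] at this ⊢
  obtain ⟨T₀, t1, t2⟩ := exists_isSylowIn_ge (H := M ⊓ Cx (f * f)) (isPGroup_zpowers_of_pow a3)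
    (zpowers_le.2 ⟨a2.mem, mem_Cx.2 (mul_assoc _ _ _).symm⟩)
  obtain ⟨c, hc, e⟩ := t1.exists_conj_mem (x := k ^ 3) (pow_mem (mem_inf.2 ⟨b5.mem, b6⟩) 3)
    (isPGroup_zpowers_of_pow b7)
  obtain ⟨T, t3, t4⟩ := exists_isSylowIn_ge (H := normalizer (J : Set G) ⊓ Cx (f * f)) t1.pgroup
    (t1.le.trans (inf_le_inf_right _ h.MJ))
  obtain ⟨a, ha⟩ := Im.of_mem θ hc.1
  have fT := t4 (t2 (mem_zpowers f))
  have c1 := ha.conj (b5.pow 3)
  rcases (by decide +kernel : ∀ a : PG 6, a * (f0 * f0) = f0 * f0 * a →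
      a ∈ PG.alt 6 → a * n0 ^ 3 * a⁻¹ = n0 ∨ a * n0 ^ 3 * a⁻¹ * (f0 * f0) = n0) a
    ((ha.mul (a2.mul a2)).uniq (mem_Cx.1 hc.2 ▸ (a2.mul a2).mul ha)) (h.θa _ _ ha) with e' | e'
  · exact ⟨f, _, T, a2, c1.of_eq e', t3, fT, t4 e⟩
  · exact ⟨f, _, T, a2, (c1.mul (a2.mul a2)).of_eq e', t3, fT, mul_mem (t4 e) (mul_mem fT fT)⟩

theorem eq_one_T {T : Subgroup G} (hT : IsPGroup 2 T) {x : G} (hx : x ∈ T) (hJ : x ∈ J) : x = 1 :=
  let ⟨_, e⟩ := isPGroup_iff_mem.1 hT x hx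
  eq_one_of_two_three e (j := 1) (h.J3 x hJ)

theorem exists_u (hl : ∀ g a, Im θ g a → (g ∈ S ↔ InS a)) {f n : G} (hf : Im θ f f0) (hn : Im θ n n0)
    (f4 : f * f * (f * f) = 1) (nn : n * n = 1) (nf : n * f * n⁻¹ = f⁻¹) :
    f ∈ normalizer (S : Set G) ∧ n * z * n⁻¹ ∉ Q ∧ f * f ∈ Cx z ∧
    (∀ x ∈ J, f * f * x * (f * f)⁻¹ = x⁻¹ → x ∈ Q) ∧
    ∃ u ∈ J, u ≠ 1 ∧ f * f * u * (f * f)⁻¹ = u⁻¹ ∧ n * u * n⁻¹ = u := by
  have fS : f ∈ normalizer (S : Set G) := mem_normalizer_of_forall fun s hs => by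
    obtain ⟨a, ha⟩ := Im.of_mem θ (h.SM hs)
    exact (hl _ _ (hf.conj ha)).2 ((by decide +kernel : ∀ a, InS a → InS (f0 * a * f0⁻¹)) a
      ((hl _ _ ha).1 hs))
  have tz : f * f ∈ Cx z := mem_Cx'.2 (by
    rcases conj_of_norm_three h.z3 (h.NSZ fS) with e | e
    · calc _ = f * (f * z * f⁻¹) * f⁻¹ := by group
        _ = z := by rw [e, e]
    · calc _ = f * (f * z * f⁻¹) * f⁻¹ := by group
        _ = f * z⁻¹ * f⁻¹ := by rw [e]
        _ = (f * z * f⁻¹)⁻¹ := by group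
        _ = z := by rw [e, inv_inv])
  have ht := hf.mul hf
  have nt : n * (f * f) * n⁻¹ = f * f := by
    rw [← conj_mul, nf, ← mul_inv_rev, inv_eq_of_mul_eq_one_right f4]
  have ft : f * (f * f) * f⁻¹ = f * f := by group
  have fJ := h.MJ hf.mem
  have nJ := h.MJ hn.mem
  have tQ := h.zQN tz
  have tJ := h.MJ ht.mem
  have tx : ∀ x ∈ Q, f * f * x * (f * f)⁻¹ * x ∈ J := fun x hx => by
    obtain ⟨a, ha⟩ := Im.of_mem θ (h.SM (h.QS hx))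
    exact (h.θk _).1 (((ht.conj ha).mul ha).of_eq ((by decide +kernel : ∀ a, InS a →
      f0 * f0 * a * (f0 * f0)⁻¹ * a = 1) a ((hl _ _ ha).1 (h.QS hx))))
  have nfi : ∀ x, n * (f * x * f⁻¹) * n⁻¹ = f⁻¹ * (n * x * n⁻¹) * f := fun x => by
    calc _ = n * f * n⁻¹ * (n * x * n⁻¹) * (n * f * n⁻¹)⁻¹ := by group
      _ = _ := by rw [nf, inv_inv]
  have ff : ∀ x, f * x * f⁻¹ = f⁻¹ * x * f → f * f * x * (f * f)⁻¹ = x := fun x e => by
    calc _ = f * (f * x * f⁻¹) * f⁻¹ := by group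
      _ = x := by rw [e]; group
  generalize f * f = t at *
  have cw : ∀ {g x}, g * t * g⁻¹ = t → t * x * t⁻¹ = x⁻¹ →
      t * (g * x * g⁻¹) * t⁻¹ = (g * x * g⁻¹)⁻¹ := fun {g x} e e' => by
    calc _ = (g * t * g⁻¹) * (g * x * g⁻¹) * (g * t * g⁻¹)⁻¹ := by rw [e]
      _ = g * (t * x * t⁻¹) * g⁻¹ := by group
      _ = _ := by rw [e']; group
  have tw : ∀ w ∈ J ⊓ Q, t * w * t⁻¹ * w ∈ zpowers z := fun w hw => h.CQ _ fun x hx => by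
    have a1 := h.Qc w hw.2 x hx
    have a2 := h.cen tz a1
    have a3 := h.Jc _ (conj_mem_of_mem_normalizer tJ hw.1) _ (tx x hx)
    have a4 := h.cen (h.Lz (h.QL (conj_mem_of_mem_normalizer tQ hw.2))) a1
    have a5 := h.cen (h.Lz (h.QL hx)) a1
    have a6 := h.cen (h.Lz (h.QL (conj_mem_of_mem_normalizer tQ hx))) a1
    generalize hc : w * x * w⁻¹ * x⁻¹ = c at a2 a4 a5 a6
    have a7 : t * w * t⁻¹ * (t * x * t⁻¹) = c * (t * x * t⁻¹) * (t * w * t⁻¹) := by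
      calc _ = t * c * t⁻¹ * (t * x * t⁻¹) * (t * w * t⁻¹) := by rw [← hc]; group
        _ = _ := by rw [a2, mul_inv_cancel_right]
    have a8 : w * x = c * x * w := by rw [← hc]; group
    have a9 := h.Jc _ (conj_mem_of_mem_normalizer tJ hw.1) _ hw.1
    generalize t * w * t⁻¹ = w' at *
    generalize t * x * t⁻¹ = x' at *
    have b1 : c * (w' * x) = x * w' := by
      calc _ = x'⁻¹ * (x' * c) * w' * x := by group
        _ = x'⁻¹ * (c * x' * w') * x := by rw [a6]; group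
        _ = x'⁻¹ * (w' * (x' * x)) := by rw [← a7]; group
        _ = _ := by rw [a3]; group
    calc w' * w * x = w' * c * x * w := by rw [mul_assoc, a8]; group
      _ = c * (w' * x) * w := by rw [a4]; group
      _ = _ := by rw [b1, mul_assoc]
  have z'J := conj_mem_of_mem_normalizer nJ h.zJ
  have tz' : t * (n * z * n⁻¹) * t⁻¹ = n * z * n⁻¹ := by
    calc _ = (n * t * n⁻¹) * (n * z * n⁻¹) * (n * t * n⁻¹)⁻¹ := by rw [nt]
      _ = n * (t * z * t⁻¹) * n⁻¹ := by group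
      _ = _ := by rw [mem_Cx'.1 tz]
  have z'Q : n * z * n⁻¹ ∉ Q := fun e => by
    have a1 := mem_of_sq (h.J3 _ z'J) (tz' ▸ tw _ ⟨z'J, e⟩)
    have a2 := h.normS' (mem_normalizer_of_cj_le (by rwa [cj_zpowers, zpowers_le])) nJ
    obtain ⟨g, b1⟩ := h.θs c1 (by decide +kernel)
    exact absurd ((hl _ _ (hn.conj b1)).1 (conj_mem_of_mem_normalizer a2
      ((hl _ _ b1).2 (by decide +kernel)))) (by decide +kernel)
  have WQ : ∀ x ∈ J, t * x * t⁻¹ = x⁻¹ → x ∈ Q := fun x hx e => by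
    have a1 : J ⊓ cjC Q {t} = J := eq_of_three (A := J ⊓ Q) (le_inf inf_le_left fun a ha =>
      ⟨le_normalizer ha.2, fun _ e => e ▸ mul_mem (conj_mem_of_mem_normalizer tQ ha.2) (inv_mem ha.2)⟩)
      inf_le_left (by rw [h.cJ, h.cJ1]) ⟨z'J, h.zQN (h.Sz (h.JS z'J)), fun _ e => by
        rw [e, Cj, tz', mul_inv_cancel]; exact one_mem _⟩ fun e => z'Q e.2
    have a2 := (a1.ge hx).2.2 t rfl
    rw [Cj, e] at a2
    exact inv_mem_iff.1 (mem_of_sq (h.J3 _ (inv_mem hx)) a2)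
  refine ⟨fS, z'Q, tz, WQ, ?_⟩
  obtain ⟨w₀, b1, b2⟩ : ∃ w ∈ J ⊓ Q, w ∉ zpowers z := SetLike.not_le_iff_exists.1 fun e => by
    have := card_le_of_le e
    rw [h.cJ1, Nat.card_zpowers, h.z3] at this
    omega
  have b3 := conj_mem_of_mem_normalizer tJ b1.1
  have b4 : t * (w₀ * (t * w₀ * t⁻¹)⁻¹) * t⁻¹ = (w₀ * (t * w₀ * t⁻¹)⁻¹)⁻¹ := by
    calc _ = t * w₀ * t⁻¹ * (t * t * w₀ * (t * t)⁻¹)⁻¹ := by group
      _ = _ := by rw [f4]; group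
  have b5 : w₀ * (t * w₀ * t⁻¹)⁻¹ ≠ 1 := fun e =>
    b2 (mem_of_sq (h.J3 _ b1.1) (by simpa only [← mul_inv_eq_one.1 e] using tw _ b1))
  have b6 := J.mul_mem b1.1 (J.inv_mem b3)
  generalize w₀ * (t * w₀ * t⁻¹)⁻¹ = w at b4 b5 b6
  have k : ∀ x ∈ J, t * x * t⁻¹ = x⁻¹ → x * (n * x * n⁻¹) ≠ 1 →
      ∃ u ∈ J, u ≠ 1 ∧ t * u * t⁻¹ = u⁻¹ ∧ n * u * n⁻¹ = u := fun x hx e e' => by
    have c1 := conj_mem_of_mem_normalizer nJ hx
    refine ⟨_, mul_mem hx c1, e', ?_, ?_⟩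
    · rw [← conj_mul, e, cw nt e, h.Jc x hx _ c1, mul_inv_rev (n * x * n⁻¹)]
    · rw [← conj_mul, h.Jc x hx _ c1]
      congr 1
      calc _ = n * n * x * (n * n)⁻¹ := by group
        _ = x := by rw [nn]; simp
  by_contra hk
  have c1 := not_not.1 fun e => hk (k w b6 b4 e)
  have c2 := not_not.1 fun e => hk (k _ (conj_mem_of_mem_normalizer fJ b6) (cw ft b4) e)
  rw [nfi, eq_inv_of_mul_eq_one_right c1] at c2
  have c3 := ff w (by rw [eq_inv_of_mul_eq_one_left c2]; group)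
  exact b5 (eq_one_of_sq (h.J3 w b6) (by nth_rw 1 [← c3]; rw [b4, inv_mul_cancel]))

open scoped IsMulCommutative in
theorem exists_phi' {a b c d : G} (ha : a ∈ J) (hb : b ∈ J) (hc : c ∈ J) (hd : d ∈ J) :
    ∃ φ : V →* G, φ.range ≤ J ∧ φ (o 1) = a ∧ φ (o 3) = b ∧ φ (o 9) = c ∧ φ (o 27) = d := by
  have : IsMulCommutative J := ⟨⟨fun x y => Subtype.ext (h.Jc x x.2 y y.2)⟩⟩
  obtain ⟨φ, a1, a2, a3, a4⟩ := exists_phi (A := J) (a := ⟨a, ha⟩) (b := ⟨b, hb⟩) (c := ⟨c, hc⟩)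
    (d := ⟨d, hd⟩) (Subtype.ext (h.J3 a ha)) (Subtype.ext (h.J3 b hb)) (Subtype.ext (h.J3 c hc))
    (Subtype.ext (h.J3 d hd))
  exact ⟨J.subtype.comp φ, fun _ ⟨v, e⟩ => e ▸ (φ v).2, congrArg Subtype.val a1,
    congrArg Subtype.val a2, congrArg Subtype.val a3, congrArg Subtype.val a4⟩

theorem exists_dat : ∃ φ q f n T, Dat S J Q M z φ q f n T := by
  obtain ⟨θ, h, hl⟩ := h.exists_lab
  obtain ⟨f, n, T, hf, hn, sT, fT, nT⟩ := h.exists_fn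
  have k1 : ∀ {x}, x ∈ T → Im θ x 1 → x = 1 := fun a b => h.eq_one_T sT.pgroup a ((h.θk _).1 b)
  have f4 := k1 (mul_mem (mul_mem fT fT) (mul_mem fT fT))
    (((hf.mul hf).mul (hf.mul hf)).of_eq (by decide +kernel))
  have nn := k1 (mul_mem nT nT) ((hn.mul hn).of_eq (by decide +kernel))
  have nf := eq_inv_of_mul_eq_one_left (k1 (mul_mem (mul_mem (mul_mem nT fT) (inv_mem nT)) fT)
    (((hn.conj hf).mul hf).of_eq (by decide +kernel)))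
  obtain ⟨fS, z'Q, tz, WQ, u, uJ, u1, tu, nu⟩ := h.exists_u hl hf hn f4 nn nf
  have u'J := conj_mem_of_mem_normalizer (h.MJ hf.mem) uJ
  have z'J := conj_mem_of_mem_normalizer (h.MJ hn.mem) h.zJ
  obtain ⟨φ, hφ, e1, e2, e3, e4⟩ := h.exists_phi' h.zJ uJ u'J z'J
  have i1 : φ (o 2) = z⁻¹ := by rw [← e1, ← map_inv]; exact congrArg φ (by decide +kernel)
  have i2 : φ (o 6) = u⁻¹ := by rw [← e2, ← map_inv]; exact congrArg φ (by decide +kernel)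
  have i3 : φ (o 18) = (f * u * f⁻¹)⁻¹ := by rw [← e3, ← map_inv]; exact congrArg φ (by decide +kernel)
  have i4 : φ (o 54) = (n * z * n⁻¹)⁻¹ := by rw [← e4, ← map_inv]; exact congrArg φ (by decide +kernel)
  have tu' : f * f * (f * u * f⁻¹) * (f * f)⁻¹ = (f * u * f⁻¹)⁻¹ := by
    calc _ = f * (f * f * u * (f * f)⁻¹) * f⁻¹ := by group
      _ = _ := by rw [tu]; group
  have nfi : ∀ x, f * (n * x * n⁻¹) * f⁻¹ = n * (f⁻¹ * x * f) * n⁻¹ := fun x => by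
    calc _ = n * n * f * (n * x * n⁻¹) * f⁻¹ * (n * n)⁻¹ := by rw [nn]; group
      _ = n * (n * f * n⁻¹) * (n * n * x * (n * n)⁻¹) * (n * f * n⁻¹)⁻¹ * n⁻¹ := by group
      _ = _ := by rw [nf, nn]; group
  have an : Act φ n (tm tN) := (Act.of_cols (a := o 27) (b := o 3) (c := o 18) (d := o 1)
    (by rw [e1, e4]) (by rw [e2, nu]) (by
      rw [e3, i3]
      calc _ = n * f * n⁻¹ * (n * u * n⁻¹) * (n * f * n⁻¹)⁻¹ := by group
        _ = f⁻¹ * (f * f * u * (f * f)⁻¹)⁻¹ * f := by rw [nf, nu, tu]; group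
        _ = _ := by group)
    (by rw [e1, e4]
        calc _ = n * n * z * (n * n)⁻¹ := by group
          _ = z := by rw [nn]; simp)).congr (by decide +kernel)
  have hb : ∃ b : Bool, Act φ f (lin (sg b (o 1)) (o 9) (o 6) (sg b (o 27))) := by
    have c1 : f * φ (o 3) * f⁻¹ = φ (o 9) := by rw [e2, e3]
    have c2 : f * φ (o 9) * f⁻¹ = φ (o 6) := by rw [e3, i2, ← tu]; group
    rcases conj_of_norm_three h.z3 (h.NSZ fS) with e | e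
    · refine ⟨false, Act.of_cols (a := o 1) (d := o 27) (by rw [e1, e]) c1 c2 ?_⟩
      rw [e4, nfi]
      nth_rw 1 [← e]
      group
    · refine ⟨true, Act.of_cols (a := o 2) (d := o 54) (by rw [e1, e, i1]) c1 c2 ?_⟩
      rw [e4, nfi, i4]
      nth_rw 1 [← inv_inv z, ← e]
      group
  obtain ⟨b, af⟩ := hb
  have at' := af.mul af
  have inQ' : ∀ v, dg 27 v = 0 → φ v ∈ Q := fun v hv => map_mem_of_sp φ (gs := [o 1, o 3, o 9]) (D := 3)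
    (by simp only [List.forall_mem_cons, e1, e2, e3]
        exact ⟨h.zQ, WQ u uJ tu, WQ _ u'J tu', by simp⟩)
    ((by decide +kernel : ∀ v : V, dg 27 v = 0 → bit (sp [(o 1 : V), o 3, o 9] 3) v.v = true) v hv)
  have inQ : ∀ v, φ v ∈ Q ↔ dg 27 v = 0 := fun v => ⟨fun hv => by
    by_contra hd
    rcases (by decide +kernel : ∀ v : V, dg 27 v ≠ 0 → dg 27 (v⁻¹ * o 27) = 0 ∨ dg 27 (v * o 27) = 0)
      v hd with c | c
    all_goals
      have := inQ' _ c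
      simp only [map_mul, map_inv, e4] at this
    exacts [z'Q ((mul_mem_cancel_left (inv_mem hv)).1 this), z'Q ((mul_mem_cancel_left hv).1 this)],
    inQ' v⟩
  have inj : Function.Injective φ := (injective_iff_map_eq_one φ).2 fun v hv => by
    have c0 : ∀ {g α x}, Act φ g α → φ x = 1 → φ (α x) = 1 := fun a b => by rw [← a, b]; simp
    have c1 := c0 at' hv
    have c2 : φ (v * (lin (sg b (o 1)) (o 9) (o 6) (sg b (o 27))
      (lin (sg b (o 1)) (o 9) (o 6) (sg b (o 27)) v))⁻¹) = 1 := by rw [map_mul, map_inv, hv, c1]; simp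
    have c3 := c0 an c2
    have c4 := (inQ v).1 (hv ▸ one_mem Q)
    revert c2 c3
    rcases (by decide +kernel : ∀ b : Bool, ∀ v : V, dg 27 v = 0 →
      let w := v * (lin (sg b (o 1)) (o 9) (o 6) (sg b (o 27))
        (lin (sg b (o 1)) (o 9) (o 6) (sg b (o 27)) v))⁻¹
      v = 1 ∨ (v = o 1 ∨ v = o 2) ∨ (w * tm tN w = o 3 ∨ w * tm tN w = o 6) ∨
        (w = o 9 ∨ w = o 18)) b v c4 with c | (c | c) | (c | c) | (c | c) <;> intro c2 c3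
    · exact c
    · exact absurd (e1.symm.trans (c ▸ hv)) h.z1
    · exact absurd (inv_eq_one.1 (i1.symm.trans (c ▸ hv))) h.z1
    · exact absurd (by rw [← e2, ← c, map_mul, c2, c3, mul_one]) u1
    · exact absurd (inv_eq_one.1 (by rw [← i2, ← c, map_mul, c2, c3, mul_one])) u1
    · exact absurd (conj_eq_one_iff.1 (by rw [← e3, ← c, c2])) u1
    · exact absurd (conj_eq_one_iff.1 (inv_eq_one.1 (by rw [← i3, ← c, c2]))) u1
  have rng : ∀ x, x ∈ J ↔ ∃ v, φ v = x := fun x => by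
    rw [← eq_of_le_of_card_ge hφ (by
      rw [h.cJ, ← Nat.card_congr (MonoidHom.ofInjective inj).toEquiv, card_eq])]
    rfl
  obtain ⟨q, qQ, hq⟩ : ∃ q ∈ Q, Im θ q c1 := by
    obtain ⟨s, b1⟩ := h.θs c1 (by decide +kernel)
    obtain ⟨x, hx, hx'⟩ := SetLike.not_le_iff_exists.1 h.JQ
    have b2 := (h.eqS le_sup_right (sup_le h.JS h.QS) (mem_sup_left hx) hx').ge
      ((hl _ _ b1).2 (by decide +kernel))
    rw [← SetLike.mem_coe, coe_mul_of_left_le_normalizer_right _ _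
      (fun _ a => h.zQN (h.Sz (h.JS a)))] at b2
    obtain ⟨j, hj, q, hq, rfl⟩ := b2
    exact ⟨q, hq, by simpa using ((h.θk j).2 hj).inv.mul b1⟩
  have qJ := h.MJ hq.mem
  have k2 : ∀ v, dg 27 v = 0 → ∃ a, q * φ v * q⁻¹ = φ a ∧
      (a * v⁻¹ = 1 ∨ a * v⁻¹ = o 1 ∨ a * v⁻¹ = (o 1)⁻¹) := fun v hv => by
    obtain ⟨a, e⟩ := (rng _).1 (conj_mem_of_mem_normalizer qJ ((rng _).2 ⟨v, rfl⟩))
    refine ⟨a, e.symm, ?_⟩
    simpa only [← e, ← map_inv, ← map_mul, ← e1, ← map_one φ, inj.eq_iff] using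
      zp3_cases h.zz (h.Qc q qQ _ (inQ' v hv))
  obtain ⟨a, r1, s1⟩ := k2 (o 3) (by decide +kernel)
  obtain ⟨c, r2, s2⟩ := k2 (o 9) (by decide +kernel)
  obtain ⟨d, r3⟩ := (rng _).1 (conj_mem_of_mem_normalizer qJ ((rng _).2 ⟨o 27, rfl⟩))
  have s3 : dg 27 (d * (o 27)⁻¹) = 0 := (inQ _).1 (by
    rw [map_mul, map_inv, r3, e4, mul_assoc, mul_assoc, ← mul_assoc (n * z * n⁻¹)]
    exact mul_mem qQ (conj_mem_of_mem_normalizer (h.zQN (h.Sz (h.JS z'J))) (inv_mem qQ)))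
  have aq := Act.of_cols (a := o 1) (by rw [e1, mem_Cx'.1 (h.Sz (h.QS qQ))]) r1 r2 r3.symm
  have k3 : ∀ {g α}, Act φ g α → Im θ g 1 → ∀ v, α v = v := fun a b v => by
    obtain ⟨x, rfl⟩ := (rng _).1 ((h.θk _).1 b)
    exact a.ext inj (Act.self φ x) v
  have w1 := k3 ((aq.mul (af.mul an)).pow 3) (((hq.mul (hf.mul hn)).pow 3).of_eq (by decide +kernel))
  have w2 := k3 ((aq.mul an).pow 5) (((hq.mul hn).pow 5).of_eq (by decide +kernel))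
  obtain ⟨rfl, w3⟩ := (by decide +kernel : ∀ b : Bool,
    ∀ a : V, (a * (o 3)⁻¹ = 1 ∨ a * (o 3)⁻¹ = o 1 ∨ a * (o 3)⁻¹ = (o 1)⁻¹) →
    ∀ c : V, (c * (o 9)⁻¹ = 1 ∨ c * (o 9)⁻¹ = o 1 ∨ c * (o 9)⁻¹ = (o 1)⁻¹) →
    ∀ d : V, dg 27 (d * (o 27)⁻¹) = 0 →
    (∀ v ∈ [o 1, o 3, o 9, o 27], (fun v => lin (o 1) a c d
      (lin (sg b (o 1)) (o 9) (o 6) (sg b (o 27)) (tm tN v)))^[3] v = v) →
    (∀ v ∈ [o 1, o 3, o 9, o 27], (fun v => lin (o 1) a c d (tm tN v))^[5] v = v) →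
    b = true ∧ ((∀ v, lin (o 1) a c d v = tm tQ v) ∨ ∀ v, lin (o 1) a c d (tm tQ v) = v))
    b a s1 c s2 d s3 (fun v _ => w1 v) (fun v _ => w2 v)
  obtain ⟨q, c, qQ, hq, hc, aq⟩ : ∃ q c, q ∈ Q ∧ Im θ q c ∧ c ∈ [c1, c1⁻¹] ∧ Act φ q (tm tQ) := by
    rcases w3 with w | w
    exacts [⟨q, _, qQ, hq, by simp, aq.congr w⟩, ⟨q⁻¹, _, inv_mem qQ, hq.inv, by simp, aq.inv w⟩]
  have hw := Im.wd (θ := θ) (l := [q, f, n]) (l' := [c, f0, n0]) (by simp [hq, hf, hn])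
  refine ⟨φ, q, f, n, T, inj, rng, e1, inQ, aq, af.congr (by decide +kernel), an, qQ, hf.mem, hn.mem,
    fS, sT, fT, nT, fun H b1 b2 b3 b4 g hg => ?_, fun s hs => ?_⟩
  · obtain ⟨x, b5, b6⟩ := PG.alt_le (S := qim θ H) (a := 0) (b := 1) (by decide) (fun j j0 j1 => by
      obtain ⟨w, -, e⟩ := (by decide +kernel : ∀ c ∈ [c1, c1⁻¹], ∀ j : Fin 6, j ≠ 0 → j ≠ 1 →
        ∃ w ∈ [[0], [0, 2, 0, 1, 1, 2, 0], [0, 1, 1, 2, 0, 2, 0], [0, 1, 2, 0], [0, 0], [0, 0, 2, 0, 0, 1, 1, 2, 0, 0], [0, 0, 1, 1, 2, 0, 0, 2, 0, 0], [0, 0, 1, 2, 0, 0]], wg [c, f0, n0] w = PG.E 6 (Pres.cyc j 0 1)) c hc j j0 j1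
      exact ⟨⟨_, (hw w).mem⟩, wg_mem (by simp [b2, b3, b4]) w, (hw w).2.trans e⟩)
      (h.θa g _ ⟨hg, rfl⟩)
    have := b1 ((h.θk _).1 (((Im.inv ⟨x.2, b6⟩).mul ⟨hg, rfl⟩).of_eq (inv_mul_cancel _)))
    exact (mul_mem_cancel_left (H.inv_mem b5)).1 this
  · obtain ⟨a, ha⟩ := Im.of_mem θ (h.SM hs)
    obtain ⟨w, b1, e⟩ := (by decide +kernel : ∀ c ∈ [c1, c1⁻¹], ∀ a, InS a →
      ∃ w ∈ wU, (wg [c, f0, n0] w)⁻¹ * a = 1) c hc a ((hl _ _ ha).1 hs)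
    exact ⟨w, b1, (h.θk _).1 (((hw w).inv.mul ha).of_eq e)⟩

end Hyp

end CfsgLib.McLRec.Three
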