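import Mathlib
import Cfsg.Agent.Lib.McLRec.T3

/-!
The 3-local characterisation of the McLaughlin group: fusion in `J`.
-/

set_option autoImplicit false
set_option maxHeartbeats 400000
set_option linter.unusedSectionVars false
set_option synthInstance.maxSize 4096

namespace CfsgLib.McLRec.Three

open Subgroup Cfsg CfsgLib.Tech CfsgLib.W2 CfsgLib.Rec3 TG

def tT : ℕ := 0x44870a3c68b0603f9b325d09f3a54990edd397cf5e386ed94a84eb15aa4c9523262c1ab466bd72d407cf234484e9c363868c224078b1424b962a68c98284c905080c4070c08080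
def tU : List ℕ := [0x509f3a6cc972a4c88f1a2c4870a0c07ef9ebc76e9cb86ed9ab466c98b05eb96ac56a94a84e992a446890a03e78e9c3668c982e58a9426488901e3868c16284880e182840608080,
  0x448709fc1811a2c772edd376ce1f3d79325cd952644ea13cd9d38890a3407cf2e5abdab466c19314c9522a58ad4275264c1a2e58a92284c8901e3070d1424586101c2030a08080,
  0x376ce1e3e7aedd39912a4d09f3a64b9b0603f8d163c2890d4a84e9522654b159f3c80d9d388d12160c98af5cb5a336a60d192e58a9324508901e3460e122c5070c201850808080,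
  0x3f83023c68b0e1446ed9c3c7cf5dba732a4c89f3a84b9b30f9e406ce9c46890b262c172d5ecdab44ea54264a915aa5868c982c54b92284c791203868c14245870c201850808080,
  0x3c7cf5cbb74d9c37a13e74d992e549911a2c7870a2407f0562b54a54274c95222428cf9e4070d9d66d5a3064c56af5c64c1a2c54b932450791203070d122c5080e182840608080,
  0x4d992e44a933e750890e13f83023458eedd396ce1bbd78f972d5ed5a3360c98a5489962b549d4a8386cea34484f203e60d192c54b942648791203460e1628486101c2030a08080,
  0x3976e9bb670f9ebc9b325c895267cea10e1448301fc58f192a44cb15aa4ea541b3a711214680f9e5eb96b36ad18b06468c982a5cb13245080f223868c122c506101c2030a08080,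
  0x48952684f9d325cd7f060478d161c288d9c377cf5e3a72ed93160b96af66d5a29509d2a44ca962b407cf1c36750a34464c1a2a5cb14264880f223070d16284870c201850808080,
  0x478d16243850603f78f9eb976e9b386f3e750992e6c99129121467cf20386ceb568cd93160bd72d54b15a752a12264a60d192a5cb12284c80f223460e14245880e182840608080]
def wX : List (List ℕ) := [[], [1], [2], [0, 1, 0, 0, 1, 2], [1, 0, 1, 0, 2], [1, 0, 0, 1, 0, 2], [1, 0, 1, 2], [0, 2], [0, 1, 0, 1, 2], [0, 0, 2], [1, 0, 0, 1, 2], [1, 2], [0, 0, 1, 0, 2], [0, 1, 0, 0, 2], [0, 1, 0, 2], [1, 0, 0, 2], [0, 0, 1, 2], [2, 0, 1, 0, 2], [0, 1, 2], [1, 0, 2]]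
def tW : List ℕ := [0x509f3a6cc972a4c88f1a2c4870a0c07ef9ebc76e9cb86ed9ab466c98b05eb96ac56a94a84e992a446890a03e78e9c3668c982e58a9426488901e3868c16284880e182840608080,
  0x3164c14294e7d01e68d59ab58a912342b97ad4a9921c3a6e64d970e24274edccfa13a3478af5f3c932a44082fdbb86c58b951a386040a0cc9a304088f0e20313284850b1204100,
  0x4758462291d0530ba0d4d4d645e52f28f918876802b83a0a32b210d40d809454f68666312d257137a883ba3e11b9c031550f849c63f4826733312d81590b493c4219c9e06d8d80,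
  0x486a5a6ae313d8147eb06c44a3e32716d9184767033d3c0a5342b3169a9cc89c156321a4231548a70881ba3621e20032599796bccd0624a02a1d093108ea04b74215c9d0ef8f80,
  0x505c5643233319948e9463f52421aa16f8e036c803ba420a7ad2f2989896d49c6483a0a81f0960a7a6c2b83e19ca3033979692c0d4d684a2a61b0139188ac4bc3a11b9e10ed100,
  0x443e563a23104e1272c86bc6a41b2f15313859ea8449480a19e2f1909a806ca3b6231f341ee170996a424e581e42603090168a8ccbf3a4dd301cf59916eb45cd500e82b0d29280,
  0x3f445e21b33190126ed46395c45f301529504989834e500a0a12d0ce988a7ca366839dad20f590992b01cb4a2282703011958470d473c4dc331ae978f78c45c856166a40f3d480,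
  0x37643de2e1ced98a7e7cd47365a1a325293879e981cb5609b3122f968d74d44c13c6631d2b0911492a434e4a166aa02e18107abc639682e0203114e1788849c850228240931600,
  0x395259e2c32d93139a7c650443e51c130d8058ccc4405a09da82af9598709494c3c3a7a12324d8b84c82456a1dfaf02e93977aa8d3748525a01b391909074544620e3b40d05700,
  0x4d36424221d3d0097294d375855f27270d78682cc245620a61d1f2908d9c7c5bb4865b2b2ef549284b84406a0e3b0032ce11928c6503c29d2630e151678a0a445a1dfb40b19900,
  0x3c4a5dba930ed513a06c6c83e46623131978382c03c26809f242cd941a74b094f3a3251e212d10b8ab82c0641a23302f5315709ccb9565271c1d2500f9a845475a11fb1110da80,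
  0x349e655c62089e876330b288634fba08ba4934b0051c6e05ad034b239146f84329a5d4c41c81d855f28a26822ceb804ce71855147a1781984b2a9e10c3ce41ad904923f126db00,
  0x3194614411e7dc065b3cba48c38dbd0ad65935908523720594832a5f9040d83aea0552c71871f036730a2a862d0ba04c249a4f0089e6e217ce2c9a28d3af02349a495c41289d80,
  0x2d9869243226dd086928aab823113806ca7135314520780574d309620f38ec335905963f1a8db04613ca278c2cf3d04be5994d0881d721d9c92eaa00e42dc2b1a049447127df00,
  0x2b7c610cf22d628750eca9e98399420895c1237245af7e0563c328a80f67184297258fcd18c21854cd899c94256c004a9e9a47388348e193ba2e8258d63101a46e50ec814ba080,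
  0x286c68f4a20ca00648f8b1d9e317450ab1d12452c5b388054b7307e41161043a5785cdd01abe30354ec9a39825a42049dc1941247b17e2133d2a7270e5b1c22b72510cd14d6180,
  0x247664ecc1eba10856d8ba19435ac006a5e923f385b08e052b9346e6905f0c32c6e551481cce0844ef89a09e258c50499d18392c8ad881d5382c8e48c68fc2a87850f5014ca300,
  0x347c3c3ac9d18d2162ec604532e1973cb9c09029a440286e788548a39820d5e4c0a9cfc42a35939920921c824852f6c651c57a459aba018b2084e873051341933afdb8b5a96500,
  0x1e82658b622a64863b18aad7c352ce0a8a1146ae84aa9a04fbf34c9b8f4f2839b8e5973c1c9a783470c93376295cb048201860e08289020e452ebde8c4940221884da3916b2600,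
  0x1d86616bb20965884304b346c39649067e29464f44a7a004dc432b9c914d303227e5dab718aa50441189307c2944e047211a5ee87a49a1d1c02acdc0d572029e8e4d8bc16a6780]
def tL : List ℕ := [0x509f3a6cc972a4c88f1a2c4870a0c07ef9ebc76e9cb86ed9ab466c98b05eb96ac56a94a84e992a446890a03e78e9c3668c982e58a9426488901e3868c16284880e182840608080,
  0x478d16243850603fa13e74d992e54990f9ebc76e9cb86ed962b54a54274c9523568cd93160bd72d46890a03e78e9c364480f1c3460b1424d19305cb15284c9080e182840608080,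
  0x4d992e84f9d2a4c8890e1478d160c07eedd397cf5e386ed993160d5a335eb96a9509d62b54992a4407cf234484e9c365cb153464c14264870d184480f1628485080c4070c08080,
  0x44870a3c68b0603f9b325d09f3a54990edd397cf5e386ed94a84eb15aa4c9523262c1ab466bd72d407cf234484e9c363868c224078b1424b962a68c98284c905080c4070c08080,
  0x509f3a3c68af9ebc9b325c48709dba732a4c88301fb86ed9ab466b15aa46890b262c14a84e80f9e5eb96a64a90e9c3668c9822407880e18b962a3868c0a10194264858a1208080,
  0x4d992e24384edd39a13e7478d15f3d792a4c88301fb86ed993160a5427407cf3568cd62b548d1215eb96a64a90e9c365cb151c34605080cd19304480f101c314264858a1208080,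
  0x478d1684f9cf9ebc890e14d992ddba730603f95264386ed962b54d5a3346890a9509d9316080f9e4c9522f5cb4e9c364480f3464c080e1870d185cb150a1018b1424a132408080,
  0x44870a6cc96edd398f1a2d09f39f3d790603f95264386ed94a84ec98b0407cf2c56a9ab4668d1214c9522f5cb4e9c363868c2e58a85080c8901e68c98101c30b1424a132408080,
  0x264a911a242c98b0407cf2f5cb562b54d5a3352a139d386e0c07ef9ebc9b325bb74e6549911e345a13e7448709c376c2c509101c3172c542840650992224079a326070d1808080,
  0x203e797ae5ab15aa4c95223448593160d5a3352a139d386ddba732a4c88f1a2c180fdf3d793664ba13e7448709c376c14203284c911203c58a12203862e58a9a326070d1808080,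
  0x264a9101f3cd5a3346890af5cb54a84ec98b058ad51d386e0c07eedd39a13e73e7af254991121c29b325c78d15c376c2c5090a1019a32604070c509921c346172c548901e08080,
  0x2344857ae5aa54274c952203e79ab466c98b058ad51d386df3d792a4c8890e14180fddba73427ce9b325c78d15c376c20386284c90e1a3058a12142033464c172c548901e08080,
  0x203e7932548d5a335eb96a344854a84eb15aa64c581d386ddba730603fa13e74a9321f3d79121c28f1a2cd992dc376c14203162849a3260a1324203861c34611203cb962a08080,
  0x2f5cb51a242a5427407cf264a91ab466b15aa64c581d386e54990f9ebc890e13b74e60c07f427ce8f1a2cd992dc376c50992101c30e1a30284062c5093464c11203cb962a08080,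
  0x23448532548c98b05eb96a03e7962b54a54276ad199d386df3d790603f9b325ca9321dba731e345890e1509f39c376c2038616284972c54a132414203224078e1a30d193008080,
  0x2f5cb501f3cb15aa46890a64a9193160a54276ad199d386e54990edd398f1a2be7af20c07f3664b890e1509f39c376c509920a10191203c4070c2c5092e58a8e1a30d193008080,
  0x4082fdebe79326cb74edcc995223478b3e84e871213770d92a648891a162c981f407972f5aad62a68d59a8529ce1d36285890e203162e54205064ca122044799346068e1804100,
  0x3a76e64ca911a3c58105fbd7cf264d973e84e871213770d8fa03cb97ad56b15254c9112342c593068d59a8529ce1d36102832650910223c50b121c4062c5ca99346068e1804100,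
  0x4082fdd3b733e84e7af9e4995221c485326cb8d1e2b770d92a6487d01e68d59a2468572f5aa14a762c982b58a8e1d3628589081419934603880c4ca121a386162e548111e04100,
  0x3d7cf24ca910e2428105fba76e67d09d326cb8d1e2b770d912342b97ad50a53a54c90fa03cd1ab362c982b58a8e1d361c406265090d1c3050b12102833268c162e548111e04100,
  0x3a76e60417f3e84e932a43d7cf21c4851a3c599365b770d8fa03c9532468d59ae5eb512342a14a756b153164c0e1d3610283142c4993460994241c4061a38610223cb172a04100,
  0x499521ebe790e24274edcc082fe7d09d1a3c599365b770d972f5a891a150a539f40792a648d1ab356b153164c0e1d364ca120e2030d1c3020506285893268c10223cb172a04100,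
  0x3d7cf20417f326cb932a43a76e63478b0e2429f4273770d9123429532462c982e5eb4fa03cad62a50a53b46acce1d361c406142c4962e549942410283204478d1c30c9a3004100,
  0x499521d3b731a3c57af9e4082fe64d970e2429f4273770d972f5a7d01e56b152246852a648c593050a53b46acce1d364ca120814190223c3880c285892c5ca8d1c30c9a3004100,
  0x346acd8b260b97ad56b1528529d2a648891a13e80f1c3a6e7d09d326cb932a4468f161c485020bf7af9e3a76e5bb86c64d182c5ca9328488111e3470c142c48710182050604100,
  0x2b58a94294e9532468d59b164c172f5a891a13e80f1c3a6e3478b0e2428105fcfa13a64d97265487af9e3a76e5bb86c4088f1a3860a1624c9a3058b95265090710182050604100,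
  0x3164c1a3566b97ad50a53ab58a92a6487d01e448d09c3a6e64d973e84e932a443890a3478b020bf74edcbd7cf1bb86c58b953268c13284868e184088f142c4840a0c3880c04100,
  0x28529d5ac549532462c98346acd72f5a7d01e448d09c3a6e1c4851a3c58105fcc9b2e7d09d2654874edcbd7cf1bb86c3470c204478a1624b172a64d1826509040a0c3880c04100,
  0x346acd5ac54891a162c9828529cfa03cb97ad4a9921c3a6e7d09d1a3c57af9e4c9b2e1c484e9db9932a44082fdbb86c64d1820447871018b172a3470c0814193284850b1204100,
  0x3164c14294e7d01e68d59ab58a912342b97ad4a9921c3a6e64d970e24274edccfa13a3478af5f3c932a44082fdbb86c58b951a386040a0cc9a304088f0e20313284850b1204100,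
  0x2b58a9a3566891a150a53b164c0fa03c953245cbd69c3a6e3478b3e84e7af9e43890a64d96e9db98105fc99521bb86c4088f3268c07101868e1858b95081418a16249942404100,
  0x28529d8b2607d01e56b15346acd12342953245cbd69c3a6e1c485326cb74edcc68f167d09cf5f3c8105fc99521bb86c3470c2c5ca840a0c8111e64d180e2030a16249942404100]

/-- words for the quaternion group generated by `e` and `n e n` -/
def wH : List (List ℕ) := [[], [0], [0, 0], [0, 0, 0], [1, 0, 1], [0, 1, 0, 1], [0, 0, 1, 0, 1],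
  [0, 0, 0, 1, 0, 1]]

/-- agreement on the basis -/
abbrev Bas (α β : V → V) : Prop :=
  α (o 1) = β (o 1) ∧ α (o 3) = β (o 3) ∧ α (o 9) = β (o 9) ∧ α (o 27) = β (o 27)

variable {G : Type*} [Group G] [Finite G]

theorem cube_comm {g x c : G} (h1 : g * x * g⁻¹ = c * x) (h2 : g * c = c * g) (h3 : c ^ 3 = 1) :
    g ^ 3 * x = x * g ^ 3 := by
  have a : ∀ y, g * (c * y) * g⁻¹ = c * (g * y * g⁻¹) := fun y => by
    rw [← mul_assoc g, h2]; group
  calc g ^ 3 * x = g * (g * (g * x * g⁻¹) * g⁻¹) * g⁻¹ * g ^ 3 := by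
        simp only [pow_succ, pow_zero]; group
    _ = c ^ 3 * x * g ^ 3 := by
        rw [h1, a, h1, a, a, h1]; simp only [pow_succ, pow_zero, one_mul, mul_assoc]
    _ = _ := by rw [h3, one_mul]

theorem zp_cube {z c : G} (hz : z ^ 3 = 1) (hc : c ∈ zpowers z) : c ^ 3 = 1 := by
  rcases zp3_cases hz hc with rfl | rfl | rfl <;> simp [hz]

omit [Finite G] in
theorem comm_cen {a b q u : G} (h1 : Commute a q) (h2 : Commute a u) (h3 : Commute b q)
    (h4 : Commute b u) (h5 : Commute a b) :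
    a * q * (b * u) * (a * q)⁻¹ * (b * u)⁻¹ = q * u * q⁻¹ * u⁻¹ := by
  calc _ = a * (q * (b * u) * q⁻¹) * a⁻¹ * (b * u)⁻¹ := by group
    _ = q * b * (u * q⁻¹ * u⁻¹) * b⁻¹ := by
      rw [((h1.mul_right (h5.mul_right h2)).mul_right h1.inv_right).eq]; group
    _ = b * (q * u * q⁻¹ * u⁻¹) * b⁻¹ := by rw [← h3.eq]; group
    _ = _ := by
      rw [(((h3.mul_right h4).mul_right h3.inv_right).mul_right h4.inv_right).eq,
        mul_inv_cancel_right]

namespace Hyp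

variable {S J Q M L T : Subgroup G} {z q f n : G} {θ : M →* PG 6} {η : L →* S25} {φ : V →* G}
  (h : Hyp S J Q M L z θ η) (d : Dat S J Q M z φ q f n T)
include h d

omit h in
theorem φJ (v : V) : φ v ∈ J := (d.rng _).2 ⟨v, rfl⟩

omit h in
theorem aT : Act φ (f * f) (tm tT) := (d.af.mul d.af).congr (by decide +kernel)

omit h in
theorem actJ {x : G} (hx : x ∈ J) : Act φ x fun v => v := by
  obtain ⟨v, rfl⟩ := (d.rng x).1 hx
  exact Act.self φ v

omit h in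
theorem zp {v : V} : φ v ∈ zpowers z ↔ v = 1 ∨ v = o 1 ∨ v = o 2 := by
  have e : (o 2 : V) = (o 1)⁻¹ := by decide +kernel
  rw [← d.φz, e]
  refine ⟨fun a => ?_, ?_⟩
  · simpa only [← map_inv, ← map_one φ, d.inj.eq_iff] using zp3_cases (by
      rw [← map_pow, ← map_one φ]; exact congrArg φ (by decide +kernel)) a
  · rintro (rfl | rfl | rfl) <;> simp

theorem same {g g' : G} {α β : V → V} (h1 : Act φ g α) (h2 : Act φ g' β) (e : Bas α β) :
    g'⁻¹ * g ∈ J := h.CJ1 fun a ha => by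
  obtain ⟨v, rfl⟩ := (d.rng a).1 ha.1
  exact h1.comm h2 e.1 e.2.1 e.2.2.1 e.2.2.2 v

theorem triv {g : G} {α : V → V} (h1 : Act φ g α) (e : Bas α fun v => v) : g ∈ J := by
  simpa using h.same d h1 (actJ d (one_mem J)) e

theorem eqT {g g' : G} {α β : V → V} (h1 : Act φ g α) (h2 : Act φ g' β) (hg : g ∈ T) (hg' : g' ∈ T)
    (e : Bas α β) : g = g' :=
  (inv_mul_eq_one.1 (h.eq_one_T d.sylT.pgroup (mul_mem (inv_mem hg') hg) (h.same d h1 h2 e))).symm

omit h in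
theorem aw (w : List ℕ) : Act φ (wg [q, f, n] w) (wv tb3 w) :=
  Act.wd (by simp [tb3, d.aq, d.af, d.an]) w

theorem wM (w : List ℕ) : wg [q, f, n] w ∈ M :=
  wg_mem (by simp [h.SM (h.QS d.qQ), d.fM, d.nM]) w

omit h in
theorem actS {s : G} (hs : s ∈ S) : ∃ U ∈ tU, Act φ s (tm U) := by
  obtain ⟨w, a1, a2⟩ := d.genS s hs
  obtain ⟨U, b1, b2⟩ := (by decide +kernel : ∀ w ∈ wU, ∃ U ∈ tU, ∀ v, wv tb3 w v = tm U v) w a1
  exact ⟨U, b1, by simpa using ((aw d w).mul (actJ d a2)).congr b2⟩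

theorem tt : f * f * (f * f) = 1 :=
  h.eqT d ((aT d).mul (aT d)) (actJ d (one_mem J)) (mul_mem (mul_mem d.fT d.fT) (mul_mem d.fT d.fT))
    (one_mem T) (by decide +kernel)

theorem nn : n * n = 1 :=
  h.eqT d (d.an.mul d.an) (actJ d (one_mem J)) (mul_mem d.nT d.nT) (one_mem T) (by decide +kernel)

omit h in
theorem nt : n ∈ Cx (f * f) := (d.sylT.le d.nT).2

omit h in
theorem tz : f * f ∈ Cx z := d.φz ▸ (aT d).mem_Cx (by decide +kernel)

theorem surjU {U : ℕ} (hU : U ∈ tU) : ∃ s ∈ Q, Act φ s (tm U) := by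
  obtain ⟨i, -, j, -, e⟩ := (by decide +kernel : ∀ U ∈ tU, ∃ i ∈ [0, 1, 2], ∃ j ∈ [0, 1, 2], ∀ v,
    (tm tQ)^[i] (tm tF ((tm tQ)^[j] (tm tF (tm tT v)))) = tm U v) U hU
  exact ⟨q ^ i * (f * q ^ j * f⁻¹), mul_mem (pow_mem d.qQ i) (conj_mem_of_mem_normalizer
    (h.NQ (h.NSZ d.fS)) (pow_mem d.qQ j)), ((d.aq.pow i).mul ((d.af.mul (d.aq.pow j)).mul
      (d.af.inv (β := fun v => tm tF (tm tT v)) (by decide +kernel)))).congr e⟩

theorem cV {x : G} (hx : x ∈ S) (e : Cj (zpowers z) x (φ (o 27)) (φ (o 27))) : x ∈ J := by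
  obtain ⟨U, a1, a2⟩ := actS d hx
  rw [Cj, a2, ← map_inv, ← map_mul, zp d] at e
  exact h.triv d a2 ((by decide +kernel : ∀ U ∈ tU, (tm U (o 27) * (o 27)⁻¹ = 1 ∨
    tm U (o 27) * (o 27)⁻¹ = o 1 ∨ tm U (o 27) * (o 27)⁻¹ = o 2) → Bas (tm U) fun v => v) U a1 e)

theorem cV' {x y : G} (hx : x ∈ Q) (hy : y ∈ S) (hy' : y ∉ Q) (e : Cj (zpowers z) x y y) : x ∈ J :=
  h.cV d (h.QS hx) (((h.eqS (C := S ⊓ cjC (zpowers z) {x}) (le_inf h.QS fun a ha =>
    ⟨Cx_le_norm z (h.Sz (h.QS ha)), fun _ e => e ▸ h.Qc x hx a ha⟩) inf_le_left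
    ⟨hy, Cx_le_norm z (h.Sz hy), fun _ e' => e' ▸ e⟩ hy').ge (h.JS (φJ d _))).2.2 x rfl)

theorem wc {k : G} (hk : cj k J ≤ S) : cj k J = J := by
  have hc : ∀ a ∈ cj k J, ∀ b ∈ cj k J, a * b = b * a := by
    rintro _ ⟨a, ha, rfl⟩ _ ⟨b, hb, rfl⟩
    rw [← map_mul, h.Jc a ha b hb, map_mul]
  have c81 := (card_cj k J).trans h.cJ
  generalize cj k J = A at *
  obtain ⟨x, hx, hx'⟩ := SetLike.not_le_iff_exists.1 fun e => h.not81 e hc c81.ge
  have h1 := card_mul_relIndex' (inf_le_left : A ⊓ Q ≤ A)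
  have h2 := h.idx hk
  rw [inf_relIndex_left, c81] at h1
  have h3 : A ⊓ Q = J ⊓ Q := eq_of_le_of_card_ge (fun a ha => ⟨h.cV' d ha.2 (hk hx) hx' (by
    rw [Cj, hc a ha.1 x hx]; simp), ha.2⟩) (by rw [h.cJ1]; nlinarith)
  exact eq_of_le_of_card_ge (fun a ha => h.CJ1 fun b hb => hc a ha b (h3.ge hb).1)
    (by rw [c81, h.cJ])

theorem NSJ : normalizer (S : Set G) ≤ normalizer (J : Set G) := fun _ hg =>
  mem_normalizer_iff_cj.2 (h.wc d ((cj_mono _ h.JS).trans (mem_normalizer_iff_cj.1 hg).le))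

theorem inX {v : V} (e : IsConj z (φ v)) : InX v := by
  obtain ⟨k, e⟩ := isConj_iff.1 e
  obtain ⟨g, -, a1, a2⟩ := control_wc h.syl h.JS h.Jc (fun k _ => h.wc d) h.zJ (mem_top k)
    (e ▸ φJ d v)
  obtain ⟨m, b1, b2⟩ := (h.syl.of_le h.SM le_top).frattini (h.NM a1)
  have k1 : ∀ {g α}, Act φ g α → (∀ v, InX v → InX (α v)) →
      g ∈ normalizer (φ '' {v | InX v}) := fun a b => mem_normalizer_fintype (by
    rintro _ ⟨v, hv, rfl⟩
    exact ⟨_, b v hv, (a v).symm⟩)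
  have b3 := d.gen _ (fun x hx => k1 (actJ d hx) fun _ a => a) (k1 d.aq (by decide +kernel))
    (k1 d.af (by decide +kernel)) (k1 d.an (by decide +kernel)) (inv_mem b1)
  have b4 : m * g * z * (m * g)⁻¹ ∈ φ '' {v | InX v} := by
    obtain ⟨u, c1⟩ := (d.rng _).1 (conj_mem_of_mem_normalizer (h.NSJ d b2) h.zJ)
    refine ⟨u, ?_, c1⟩
    rcases (zp d).1 (c1 ▸ conj_mem_of_mem_normalizer (h.NSZ b2) (mem_zpowers z)) with c | c | c
    · exact absurd (conj_eq_one_iff.1 (by rw [← c1, c, map_one])) h.z1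
    all_goals rw [c]; decide +kernel
  obtain ⟨u, c1, c2⟩ := (b3 _).1 b4
  rwa [← d.inj (c2.trans (show _ = φ v by rw [← e, ← a2]; group))]

theorem exW {v : V} (hv : InX v) : ∃ W ∈ tW, ∃ m ∈ M, Act φ m (tm W) ∧ m * z * m⁻¹ = φ v := by
  obtain ⟨w, -, W, a1, a2, a3⟩ := (by decide +kernel : ∀ v, InX v → ∃ w ∈ wX, ∃ W ∈ tW,
    tm W (o 1) = v ∧ ∀ u, wv tb3 w u = tm W u) v hv
  exact ⟨W, a1, _, h.wM d w, (aw d w).congr a3, by rw [← d.φz, (aw d w).congr a3, a2]⟩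

theorem X_conj {g : G} {u v : V} (hu : InX u) (e : g * φ u * g⁻¹ = φ v) : InX v := by
  obtain ⟨-, -, m, -, -, a⟩ := h.exW d hu
  exact h.inX d (isConj_iff.2 ⟨g * m, by rw [← e, ← a]; group⟩)

theorem CV {g : G} (e : ∀ x ∈ Q, Cj (zpowers z) g x x) : g ∈ Q := by
  have uQ := (d.inQ (o 3)).2 (by decide +kernel)
  have e1 : q * φ (o 3) * q⁻¹ * (φ (o 3))⁻¹ = z := by
    rw [d.aq, ← map_inv, ← map_mul, ← d.φz]; exact congrArg φ (by decide +kernel)
  have gz : g ∈ Cx z := mem_Cx'.2 (by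
    have k : ∀ {x y}, x ∈ Q → y ∈ Q → Commute (g * y * g⁻¹ * y⁻¹) x := fun a b =>
      (h.cen (h.Sz (h.QS a)) (e _ b)).symm
    rw [← e1]
    exact Eq.trans (by group) (comm_cen (k d.qQ d.qQ) (k uQ d.qQ) (k d.qQ uQ) (k uQ uQ)
      (k (h.ZQ (e _ uQ)) d.qQ)))
  have g9 : g ^ 3 ^ 2 = 1 := by
    rw [pow_two, pow_mul]
    exact zp_cube h.zz (h.CQ _ fun x hx => cube_comm (eq_mul_of_mul_inv_eq rfl) (h.cen gz (e x hx))
      (zp_cube h.zz (e x hx)))
  obtain ⟨l, a1, a2⟩ := (h.syl.of_le h.Sz le_top).exists_conj_mem gz (isPGroup_zpowers_of_pow g9)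
  by_contra hn
  refine absurd ((actJ d (h.cV' d d.qQ a2 (fun a => hn ((mem_normalizer_iff.1 (h.zQN a1) g).2 a))
    ?_)).ext d.inj d.aq (o 3)) (by decide +kernel)
  simpa [Cj, mul_assoc] using conj_mem_of_mem_normalizer (Cx_le_norm z a1)
    (e _ (conj_mem_of_mem_normalizer' (h.zQN a1) d.qQ)).symm

theorem tinv {x : G} (hx : x ∈ Q) : f * f * x * (f * f)⁻¹ * x ∈ zpowers z := by
  obtain ⟨U, a1, a2⟩ := actS d (h.QS hx)
  have a3 := (aT d).inv (β := tm tT) (by decide +kernel)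
  obtain ⟨v, e⟩ := (d.rng _).1 (h.triv d ((((aT d).mul a2).mul a3).mul a2)
    ((by decide +kernel : ∀ U ∈ tU, Bas (fun v => tm tT (tm U (tm tT (tm U v)))) fun v => v) U a1))
  have a4 := (d.inQ v).1 (e ▸ mul_mem (conj_mem_of_mem_normalizer (h.zQN (tz d)) hx) hx)
  rw [← e, zp d]
  refine (by decide +kernel : ∀ U ∈ tU, ∀ v, dg 27 v = 0 → tm tT v = tm U v →
    v = 1 ∨ v = o 1 ∨ v = o 2) U a1 v a4 ((aT d).eq d.inj ?_)
  rw [← a2, e]
  calc _ = f * f * (f * f) * x * (f * f * (f * f))⁻¹ * (f * f * x * (f * f)⁻¹) := by group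
    _ = _ := by rw [h.tt d]; group

theorem exists_c {g : G} (hg : g ∈ normalizer (zpowers z : Set G)) : ∃ c ∈ Q, c * g ∈ Cx (f * f) := by
  have tZ := Cx_le_norm z (tz d)
  refine exists_cent h.Q3 (h.tt d) (h.CV d fun x hx => ?_)
  have a1 := h.tinv d hx
  have a2 := conj_mem_of_mem_normalizer hg (h.tinv d (conj_mem_of_mem_normalizer' (h.NQ hg)
    (inv_mem hx)))
  have a3 := conj_mem_of_mem_normalizer (mul_mem (mul_mem hg tZ) (inv_mem hg)) a1
  generalize f * f = t at *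
  simpa [Cj, mul_assoc] using mul_mem a3 a2

theorem actN {g : G} (hg : g ∈ normalizer (J : Set G)) : ∃ a b c e, Act φ g (lin a b c e) := by
  have k : ∀ v, ∃ a, g * φ v * g⁻¹ = φ a := fun v =>
    ((d.rng _).1 (conj_mem_of_mem_normalizer hg (φJ d v))).imp fun _ => Eq.symm
  obtain ⟨a, a1⟩ := k (o 1)
  obtain ⟨b, a2⟩ := k (o 3)
  obtain ⟨c, a3⟩ := k (o 9)
  obtain ⟨e, a4⟩ := k (o 27)
  exact ⟨a, b, c, e, Act.of_cols a1 a2 a3 a4⟩

omit h in
theorem comm_T {g : G} {α : V → V} (a : Act φ g α) (hg : g ∈ Cx (f * f)) (v : V) :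
    α (tm tT v) = tm tT (α v) := (a.mul (aT d)).ext d.inj (mem_Cx.1 hg ▸ (aT d).mul a) v

theorem actH {g : G} (hg : g ∈ normalizer (S : Set G)) (hg' : g ∈ Cx (f * f)) :
    ∃ H ∈ tL, Act φ g (tm H) := by
  obtain ⟨a, b, c, e, a1⟩ := h.actN d (h.NSJ d hg)
  have k : ∀ a b c e : V, lin a b c e (o 1) = a ∧ lin a b c e (o 3) = b ∧ lin a b c e (o 9) = c ∧
      lin a b c e (o 27) = e ∧ lin a b c e (tm tT (o 3)) = b⁻¹ ∧ lin a b c e (tm tT (o 9)) = c⁻¹ ∧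
      lin a b c e (tm tT (o 27)) = e := fun a b c e => by
    have := (by decide +kernel : ∀ x : V, 1 * (x * x) * (1 * 1) = x⁻¹ ∧ 1 * 1 * (x * x * 1) = x⁻¹)
    exact ⟨by show a * 1 * (1 * 1) = a; simp, by show 1 * b * (1 * 1) = b; simp,
      by show 1 * 1 * (c * 1) = c; simp, by show 1 * 1 * (1 * e) = e; simp, (this b).1, (this c).2,
      by show 1 * 1 * (1 * e) = e; simp⟩
  obtain ⟨k1, k2, k3, k4, k5, k6, k7⟩ := k a b c e
  obtain ⟨H, b1, b2⟩ := (by decide +kernel : ∀ a : V, a = 1 ∨ a = o 1 ∨ a = o 2 →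
    ∀ b : V, b⁻¹ = tm tT b → ∀ c : V, c⁻¹ = tm tT c → ∀ e : V, e = tm tT e →
    (∀ v, InX v → InX (lin a b c e v)) → (∀ v, lin a b c e v = 1 → v = 1) →
    ∃ H ∈ tL, ∀ v, lin a b c e v = tm H v) a
    ((zp d).1 (by rw [← k1, ← a1, d.φz]; exact conj_mem_of_mem_normalizer (h.NSZ hg) (mem_zpowers z)))
    b (by rw [← k5, comm_T d a1 hg', k2]) c (by rw [← k6, comm_T d a1 hg', k3])
    e (by conv_lhs => rw [← k7, comm_T d a1 hg', k4]) (fun v hv => h.X_conj d hv (a1 v))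
    (fun v hv => d.inj (by rw [map_one, ← conj_eq_one_iff (a := g), a1, hv, map_one]))
  exact ⟨H, b1, a1.congr b2⟩

theorem split {g : G} (hg : ∀ v, tm tT v = v → ∃ u, tm tT u = u ∧ g * φ v * g⁻¹ = φ u) :
    g ∈ normalizer (S : Set G) ∨ n * g ∈ normalizer (S : Set G) := by
  have k : ∀ {g}, (∀ v, tm tT v = v → ∃ u, tm tT u = u ∧ g * φ v * g⁻¹ = φ u) →
      g * φ (o 1) * g⁻¹ = φ (o 1) ∨ g * φ (o 1) * g⁻¹ = φ (o 2) → g ∈ normalizer (S : Set G) :=
    fun {g} a b => by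
      obtain ⟨u, -, a1⟩ := a (o 27) (by decide +kernel)
      refine h.normS (mem_normalizer_of_cj_le ?_) (h.JS (φJ d (o 27)))
        (fun e => absurd ((d.inQ _).1 e) (by decide +kernel)) (a1 ▸ h.JS (φJ d u))
      rw [cj_zpowers, zpowers_le]
      nth_rw 2 [← d.φz]
      rcases b with b | b <;> rw [b, zp d]
      exacts [Or.inr (Or.inl rfl), Or.inr (Or.inr rfl)]
  obtain ⟨u, a1, a2⟩ := hg (o 1) (by decide +kernel)
  rcases (by decide +kernel : ∀ u, tm tT u = u → InX u → (u = o 1 ∨ u = o 2) ∨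
    (tm tN u = o 1 ∨ tm tN u = o 2)) u a1 (h.X_conj d (by decide +kernel) a2) with c | c
  · exact Or.inl (k hg (by rcases c with rfl | rfl <;> simp [a2]))
  · have k2 : ∀ v u, g * φ v * g⁻¹ = φ u → n * g * φ v * (n * g)⁻¹ = φ (tm tN u) := fun v u e => by
      rw [← d.an, ← e]; group
    refine Or.inr (k (fun v hv => ?_) (by
      rw [k2 _ _ a2]; exact c.imp (congrArg φ) (congrArg φ)))
    obtain ⟨w, b1, b2⟩ := hg v hv
    exact ⟨_, (by decide +kernel : ∀ w, tm tT w = w → tm tT (tm tN w) = tm tN w) w b1, k2 _ _ b2⟩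

theorem split' {g : G} (hg : g ∈ normalizer (J : Set G)) (hg' : g ∈ Cx (f * f)) :
    g ∈ normalizer (S : Set G) ∨ n * g ∈ normalizer (S : Set G) := by
  obtain ⟨a, b, c, e, a1⟩ := h.actN d hg
  exact h.split d fun v hv => ⟨_, by rw [← comm_T d a1 hg', hv], a1 v⟩

theorem memD {s : G} (hs : s ∈ S) (ht : s ∈ Cx (f * f)) : ∃ v, tm tT v = v ∧ φ v = s := by
  obtain ⟨U, a1, a2⟩ := actS d hs
  obtain ⟨v, rfl⟩ := (d.rng _).1 (h.triv d a2 ((by decide +kernel : ∀ U ∈ tU,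
    tm U (tm tT (o 3)) = tm tT (tm U (o 3)) → tm U (tm tT (o 9)) = tm tT (tm U (o 9)) →
    Bas (tm U) fun v => v) U a1 (comm_T d a2 ht _) (comm_T d a2 ht _)))
  exact ⟨v, (aT d).fix d.inj (Cx_comm.1 ht), rfl⟩

theorem memZ {s : G} (hs : s ∈ Q) (ht : s ∈ Cx (f * f)) : s ∈ zpowers z := by
  obtain ⟨v, a1, rfl⟩ := h.memD d (h.QS hs) ht
  exact (zp d).2 ((by decide +kernel : ∀ v, tm tT v = v → dg 27 v = 0 → v = 1 ∨ v = o 1 ∨ v = o 2)
    v a1 ((d.inQ v).1 hs))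

end Hyp

/-- the element `e` -/
structure Dat2 (S L T : Subgroup G) (η : L →* S25) (φ : V →* G) (f n e : G) (E : ℕ) : Prop where
  mE : E ∈ tE
  ae : Act φ e (tm E)
  eT : e ∈ T
  ηe : Im η e e0
  ηz : Im η (φ (o 27)) x0
  ηt : Im η (f * f) m1
  h16 : ∀ g ∈ normalizer (S : Set G), g ∈ Cx (f * f) →
    ∃ w ∈ wH, ∃ b, Act φ g fun v => sg b (wv [E, tN] w v)

theorem Hyp.exists_dat2 {S J Q M L T : Subgroup G} {z q f n : G} {θ : M →* PG 6} {η : L →* S25}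
    {φ : V →* G} (h : Hyp S J Q M L z θ η) (d : Dat S J Q M z φ q f n T) :
    ∃ η' e E, Hyp S J Q M L z θ η' ∧ Dat2 S L T η' φ f n e E := by
  have z'S := h.JS (Hyp.φJ d (o 27))
  have z'Q : φ (o 27) ∉ Q := fun e => absurd ((d.inQ _).1 e) (by decide +kernel)
  obtain ⟨η, h, hx⟩ : ∃ η', Hyp S J Q M L z θ η' ∧ Im η' (φ (o 27)) x0 := by
    obtain ⟨x, hx⟩ := Im.of_mem η (h.SL z'S)
    obtain ⟨k, e⟩ := (by decide +kernel : ∀ x : S25, x ^ 3 = 1 → x ≠ 1 → ∃ k, k * x * k⁻¹ = x0) x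
      ((hx.pow 3).eq_one (h.J3 _ (Hyp.φJ d _))) fun e => z'Q ((h.ηk _).1 (e ▸ hx))
    obtain ⟨η', h', e'⟩ := h.conjη k
    exact ⟨η', h', e ▸ (e' _ _).2 hx⟩
  obtain ⟨e₀, a1⟩ := h.ηs e0
  obtain ⟨c, a2, a3⟩ := h.exists_c d (Cx_le_norm z (h.Lz a1.mem))
  have a4 := (((h.ηk c).2 a2).mul a1).of_eq (one_mul _)
  generalize c * e₀ = e₁ at a3 a4
  have a5 : e₁ ∈ normalizer (S : Set G) := h.normS (Cx_le_norm z (h.Lz a4.mem)) z'S z'Q
    ((mul_mem_cancel_right z'S).1 (h.QS ((h.ηk _).1 (((a4.conj hx).mul hx).of_eq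
      (by decide +kernel)))))
  have a6 : (e₁ ^ 9) ^ 2 ^ 2 = 1 := by
    have := h.Q3 _ ((h.ηk _).1 ((a4.pow 4).of_eq (by decide +kernel)))
    rw [← pow_mul] at this ⊢
    rw [show 9 * 2 ^ 2 = 4 * 3 * 3 from rfl, pow_mul, this, one_pow]
  have a7 : Im η (e₁ ^ 9) e0 := (a4.pow 9).of_eq (by decide +kernel)
  replace a3 := pow_mem a3 9
  replace a5 := pow_mem a5 9
  generalize e₁ ^ 9 = e₂ at a3 a5 a6 a7
  obtain ⟨g, b1, b2, b3⟩ : ∃ g ∈ normalizer (S : Set G), g ∈ Cx (f * f) ∧ g * e₂ * g⁻¹ ∈ T := by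
    obtain ⟨g, b1, b2⟩ := d.sylT.exists_conj_mem (mem_inf.2 ⟨h.NSJ d a5, a3⟩)
      (isPGroup_zpowers_of_pow a6)
    rcases h.split' d b1.1 b1.2 with b | b
    · exact ⟨g, b, b1.2, b2⟩
    · exact ⟨_, b, mul_mem (Hyp.nt d) b1.2, by
        simpa [mul_assoc] using mul_mem (mul_mem d.nT b2) (inv_mem d.nT)⟩
  have b4 := conj_mem_of_mem_normalizer (h.NL (h.NSZ b1)) a7.mem
  have b5 := mul_mem (mul_mem b1 a5) (inv_mem b1)
  have b6 := mul_mem (mul_mem b2 a3) (inv_mem b2)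
  have b7 : (g * e₂ * g⁻¹) ^ 4 = 1 := by rw [conj_pow, show e₂ ^ 4 = 1 from a6]; simp
  have b8 : g * e₂ * g⁻¹ ∉ Cx (φ (o 27)) := fun e => by
    obtain ⟨H, c1, c2⟩ := h.actH d (inv_mem b1) (inv_mem b2)
    have c3 : e₂ ∈ Cx (φ (tm H (o 27))) := by
      rw [← c2, ← conj_mem_Cx (g := g)]; simpa [mul_assoc] using e
    rcases (by decide +kernel : ∀ H ∈ tL, tm H (o 27) = o 27 ∨ tm H (o 27) = (o 27)⁻¹) H c1 with c | c
    · rw [c] at c3
      exact absurd ((a7.mul hx).uniq (mem_Cx.1 c3 ▸ hx.mul a7)) (by decide +kernel)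
    · rw [c, map_inv] at c3
      exact absurd ((a7.mul hx.inv).uniq (mem_Cx.1 c3 ▸ hx.inv.mul a7)) (by decide +kernel)
  generalize g * e₂ * g⁻¹ = e at b3 b4 b5 b6 b7 b8
  obtain ⟨E, c1, c2⟩ := h.actH d b5 b6
  have mE := (by decide +kernel : ∀ H ∈ tL, tm H (o 1) = o 1 → tm H (o 27) ≠ o 27 →
    (tm H)^[4] (o 3) = o 3 → H ∈ tE) E c1 (c2.fix d.inj (d.φz ▸ h.Lz b4)) (mt c2.mem_Cx b8)
    ((c2.pow 4).ext d.inj (b7 ▸ Hyp.actJ d (one_mem J)) _)
  obtain ⟨ε, c3⟩ := Im.of_mem η b4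
  obtain ⟨k, c4, c5⟩ := (by decide +kernel : ∀ ε : S25, ε * x0 * ε⁻¹ = x0⁻¹ → ∃ k, k * x0 * k⁻¹ = x0 ∧
    (k * ε * k⁻¹ = e0 ∨ k * ε⁻¹ * k⁻¹ = e0)) ε ((c3.conj hx).uniq (by
      rw [c2, (by decide +kernel : ∀ E ∈ tE, tm E (o 27) = (o 27)⁻¹) E mE, map_inv]; exact hx.inv))
  obtain ⟨η, h, e'⟩ := h.conjη k
  replace hx := c4 ▸ (e' _ _).2 hx
  obtain ⟨e, E, mE, ae, eT, ηe⟩ : ∃ e E, E ∈ tE ∧ Act φ e (tm E) ∧ e ∈ T ∧ Im η e e0 := by
    rcases c5 with c | c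
    · exact ⟨e, E, mE, c2, b3, c ▸ (e' _ _).2 c3⟩
    · obtain ⟨E', c6, c7⟩ := (by decide +kernel : ∀ E ∈ tE, ∃ E' ∈ tE, ∀ v, tm E (tm E' v) = v) E mE
      exact ⟨e⁻¹, E', c6, c2.inv c7, inv_mem b3, c ▸ (e' _ _).2 c3.inv⟩
  have ee : e * e = f * f := h.eqT d (ae.mul ae) (Hyp.aT d) (mul_mem eT eT) (mul_mem d.fT d.fT)
    ((by decide +kernel : ∀ E ∈ tE, Bas (fun v => tm E (tm E v)) (tm tT)) E mE)
  have ηt : Im η (f * f) m1 := ee ▸ (ηe.mul ηe).of_eq (by decide +kernel)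
  refine ⟨η, e, E, h, mE, ae, eT, ηe, hx, ηt, fun g b1 b2 => ?_⟩
  obtain ⟨H, c1, c2⟩ := h.actH d b1 b2
  have et := (d.sylT.le eT).2
  obtain ⟨γ, c3⟩ := Im.of_mem η (mul_mem (conj_mem_of_mem_normalizer (h.NL (h.NSZ b1)) ηe.mem)
    (inv_mem ηe.mem))
  have c4 : g * e * g⁻¹ * e⁻¹ ∈ Cx (φ (o 27)) := by
    have k : g * e * φ (o 27) * (g * e)⁻¹ = e * g * φ (o 27) * (e * g)⁻¹ := by
      rw [c2.mul ae, ae.mul c2]
      exact congrArg φ ((by decide +kernel : ∀ E ∈ tE, ∀ H ∈ tL,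
        tm H (tm E (o 27)) = tm E (tm H (o 27))) E mE H c1)
    have k2 : ∃ b, e * g * φ (o 27) * (e * g)⁻¹ = φ (sg b (o 27)) := by
      rw [ae.mul c2]
      exact ((by decide +kernel : ∀ E ∈ tE, ∀ H ∈ tL, ∃ b,
        tm E (tm H (o 27)) = sg b (o 27)) E mE H c1).imp fun _ => congrArg φ
    obtain ⟨b, k2⟩ := k2
    have k3 : g * e * g⁻¹ * e⁻¹ ∈ Cx (φ (sg b (o 27))) := mem_Cx'.2 (by
      rw [← k2]; nth_rw 2 [← k]; group)
    cases b
    · exact k3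
    · refine Cx_comm.1 (mem_of_sq (h.J3 _ (Hyp.φJ d _)) ?_)
      rw [← map_mul]; exact Cx_comm.1 k3
  obtain ⟨i, -, j, hj, c5⟩ := (by decide +kernel : ∀ γ : S25, γ * x0 = x0 * γ → ∃ i ∈ [0, 1, 2],
    ∃ j ∈ [0, 1], (m1 ^ j)⁻¹ * ((x0 ^ i)⁻¹ * γ) = 1) γ ((c3.mul hx).uniq (mem_Cx.1 c4 ▸ hx.mul c3))
  have c6 := h.QS ((h.ηk _).1 (((ηt.pow j).inv.mul ((hx.pow i).inv.mul c3)).of_eq c5))
  obtain ⟨v, -, c7⟩ := h.memD d c6 (mul_mem (inv_mem (pow_mem (mem_Cx.2 rfl) j)) (mul_mem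
    (inv_mem (pow_mem (Cx_comm.1 ((Hyp.aT d).mem_Cx (by decide +kernel))) i))
    (mul_mem (mul_mem (mul_mem b2 et) (inv_mem b2)) (inv_mem et))))
  have c8 : g * e = φ (o 27) ^ i * ((f * f) ^ j * (φ v * (e * g))) := by rw [c7]; group
  have c9 := (c2.mul ae).ext d.inj (c8 ▸ (Hyp.actJ d (pow_mem (Hyp.φJ d _) i)).mul
    (((Hyp.aT d).pow j).mul ((Act.self φ v).mul (ae.mul c2))))
  obtain ⟨w, d1, b, d2⟩ := (by decide +kernel : ∀ E ∈ tE, ∀ H ∈ tL, ∀ j ∈ [0, 1],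
    tm H (tm E (o 3)) = (tm tT)^[j] (tm E (tm H (o 3))) →
    ∃ w ∈ wH, ∃ b, ∀ v, tm H v = sg b (wv [E, tN] w v)) E mE H c1 j hj (c9 _)
  exact ⟨w, d1, b, c2.congr d2⟩

end CfsgLib.McLRec.Three
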