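import Mathlib
import Cfsg.Agent.Lib.McLRec.T4

/-!
The 3-local characterisation of the McLaughlin group: centralisers of planes of `J`.
-/

set_option autoImplicit false
set_option maxHeartbeats 400000
set_option linter.unusedSectionVars false
set_option synthInstance.maxSize 4096

namespace CfsgLib.McLRec.Three

open Subgroup Cfsg CfsgLib.Tech CfsgLib.W2 CfsgLib.Rec3 TG

def tR : ℕ := 0x346acd8b260b97ad56b1528529d2a648891a13e80f1c3a6e7d09d326cb932a4468f161c485020bf7af9e3a76e5bb86c64d182c5ca9328488111e3470c142c48710182050604100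
def wP : List (List ℕ) := [[], [0], [0, 0], [0, 2, 1, 0], [1, 2, 0], [2, 1, 0]]
def wG : List ℕ := [1, 0, 0, 1, 2, 0]
def tG : ℕ := 0x4d36404cf40887480d0d7b105160b30894d397c9c9956eb00c760d41c084b842924f5b2b2e65da49c7c58d9484e8f98a8b387498c1478a24a3184659c3c2a8057ed16878919900
def tT1 : ℕ := 0x349e655c62089e876330b288634fba08ba4934b0051c6e05ad034b239146f84329a5d4c41c81d855f28a26822ceb804ce71855147a1781984b2a9e10c3ce41ad904923f126db00
def tN1 : ℕ := 0x36b015b62f286a18e0581252f4fce16ba108766520f3b3278940098c54ef899b9a421865e692b91c8a4338211b955899d189644e075b10b2a708e48c7e15a3c28a051ea0ca300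
def tS : List ℕ := [0x509f3a6cc972a4c88f1a2c4870a0c07ef9ebc76e9cb86ed9ab466c98b05eb96ac56a94a84e992a446890a03e78e9c3668c982e58a9426488901e3868c16284880e182840608080,
  0x3f83023c68b0e1446ed9c3c7cf5dba732a4c89f3a84b9b30f9e406ce9c46890b262c172d5ecdab44ea54264a915aa5868c982c54b92284c791203868c14245870c201850808080,
  0x3976e9bb670f9ebc9b325c895267cea10e1448301fc58f192a44cb15aa4ea541b3a711214680f9e5eb96b36ad18b06468c982a5cb13245080f223868c122c506101c2030a08080,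
  0x349e655c62089e876330b288634fba08ba4934b0051c6e05ad034b239146f84329a5d4c41c81d855f28a26822ceb804ce71855147a1781984b2a9e10c3ce41ad904923f126db00,
  0x1e82658b622a64863b18aad7c352ce0a8a1146ae84aa9a04fbf34c9b8f4f2839b8e5973c1c9a783470c93376295cb048201860e08289020e452ebde8c4940221884da3916b2600,
  0x43ee98cc2d0c6a86e04e135d252c01489e879e65a10571a08b4c08eb85f28a2c8e45f084669ad01ca6220761669764ce7188a3d50642f0ab0969e10c720cf4824b44a47e6db00,
  0x247664ecc1eba10856d8ba19435ac006a5e923f385b08e052b9346e6905f0c32c6e551481cce0844ef89a09e258c50499d18392c8ad881d5382c8e48c68fc2a87850f5014ca300,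
  0x54b38ec62af86ad9a055144509aba12a64868264f1162d9d8a66095cb470c9326e3e5074e68fbf1cb9e269e0e396368201870418085120b9c8abde8ca01124426845b472b2600,
  0xa4b01b8138ba493571880744f6799690c6a83ee82166331d8540ca6971ca62023ae25145e9a08b46f841a6b4239158ce7181eaa2bc0c86595609e10c0679c925b21f89486db00,
  0x36b015b62f286a18e0581252f4fce16ba108766520f3b3278940098c54ef899b9a421865e692b91c8a4338211b955899d189644e075b10b2a708e48c7e15a3c28a051ea0ca300,
  0x96aea681548a11462d888653260993cf86ad4b382953b1a7834c6e3961cb9e02572e19246cdd8a4f2839a3efdb8f648201820c1c4810a229738bde8c08928134311c8b68b2600,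
  0xb3f3a38160a5e923b307885d09d9949286a16b0019756da08466b1b951c8a4026315f134e827895f0c31a4ae66903699d1822725c40eb5c16548e48c0ad1f9450f280a3cca300,
  0x346acd8b260b97ad56b1528529d2a648891a13e80f1c3a6e7d09d326cb932a4468f161c485020bf7af9e3a76e5bb86c64d182c5ca9328488111e3470c142c48710182050604100,
  0x506a6a3ac22f91889ac8bc45239da00b2979482985b83a0a7b433195907a883cc625a1a81ae8f8492b89c04a29b9c03399988aa87bc421a5b02b0938c72781c85a49fa412d8d80,
  0x1e3e80e9b38891a162c982d5cbdab368a53a84a9922a56b20bf811a3c5850e2366ee1f3c7ae9db9932a44e9f426cb9864d182a58b94244c88f203470c12285860e202830804100,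
  0x3f3e69bb21f293878e6cb3c5c3a7a6070d19276cc54b560a09e32d989192a43463a55f2d1b392858488a3a6a266aa030101870c0848502229c2ef578ca090244424dcb41731600,
  0x244a995ac54a53a83a6ce21448cfa03cb97ad6acda3062c9db974d9bb87af9e4c9b2e548933a7d0850e24082fe3c58c64d182e54b122650790223470c16245080c1c1840a04100,
  0x576826b22ea47443a09c1494be0a616f91886a6a8118eb128a8005b9c92b89c656411077a667b41b0d43a3e118969939998543e2867884acb610938c3c0dcad25204bf48d8d80,
  0x394a6a69b210d7866eb0ac8443a0b308f93939e804c56209da43330e8f84b8436565e5211b01a837aa494e3e2e3b002e931896708c45a1dc2a2d2518c7ed02bc505281e1519900,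
  0x39e9a39b2cb873c560a592868ddb315293873e69f8f6ec9a8974066aa8488a366245486926609e1af96ce4a14e958d010186041c0890a0bc538f578c481282127105b96931600,
  0xb8298e8271297948eb08887c8da9aa0a474476802979ac8f8475318961b0d4016e71713930128a7a883999ed15908d399981f155210cf1815970938c06e4f1290b52097ed8d80,
  0x482cdbac2a88748620a2937c9e7a0130d7864a69c909a6cf8b9c063b07aa494c3a3d7088465da41b290c06a0d5976ce9318384658788b4b38552518c6815fa828f05503d19900,
  0xa76cd582970d1926ec8787949cf9a7eb873c9e981968e6d2859d18e951af96819aa911484e9a8992a431982798916d0101820e18281120e178af578c09412138885a0b7331600,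
  0x99e818828af93939a6c80686bd29a728874882cc2156eb1a8380d95971b290818ec14927b38f8b84b84197690e8f98e9318232ce2d0f11516712518c0afda1478a0f0aa119900]

/-- left coset representatives of the normaliser of `⟨x0⟩` -/
noncomputable def rep (i : Fin 10) : S25 := o (CosetEnum.nth 0 [0, 1, 3, 4, 5, 25, 26, 27, 28, 29] i)

abbrev InZ (v : V) : Prop := v = 1 ∨ v = o 1 ∨ v = o 2

abbrev InY (v : V) : Prop := v = 1 ∨ v = o 12 ∨ v = o 24

/-- a plane without conjugates of `z` -/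
abbrev Pure (a b : V) : Prop :=
  ∀ i ∈ [0, 1, 2], ∀ j ∈ [0, 1, 2], ¬ InX (a ^ i * b ^ j) ∧ (a ^ i * b ^ j = 1 → i = 0 ∧ j = 0)

variable {G : Type*} [Group G] [Finite G]

namespace Hyp

variable {S J Q M L T : Subgroup G} {z q f n e : G} {θ : M →* PG 6} {η : L →* S25} {φ : V →* G}
  {E : ℕ} (h : Hyp S J Q M L z θ η) (d : Dat S J Q M z φ q f n T) (c : Dat2 S L T η φ f n e E)
include h d c

omit c in
theorem z'Q : φ (o 27) ∉ Q := fun e => absurd ((d.inQ _).1 e) (by decide +kernel)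

theorem actB {g : G} (hg : g ∈ normalizer (S : Set G)) :
    ∃ U ∈ tU, ∃ w ∈ wH, ∃ b, Act φ g fun v => tm U (sg b (wv [E, tN] w v)) := by
  obtain ⟨k, a1, a2⟩ := h.exists_c d (h.NSZ hg)
  obtain ⟨U, a3, a4⟩ := actS d (inv_mem (h.QS a1))
  obtain ⟨w, a5, b, a6⟩ := c.h16 _ (mul_mem (le_normalizer (h.QS a1)) hg) a2
  exact ⟨U, a3, w, a5, b, by simpa using a4.mul a6⟩

theorem actM {g : G} (hg : g ∈ normalizer (J : Set G)) : ∃ W ∈ tW,
    ∃ U ∈ tU, ∃ w ∈ wH, ∃ b, Act φ g fun v => tm W (tm U (sg b (wv [E, tN] w v))) := by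
  obtain ⟨v, a1⟩ := (d.rng _).1 (conj_mem_of_mem_normalizer hg h.zJ)
  obtain ⟨W, a2, m, a3, a4, a5⟩ := h.exW d (h.inX d (isConj_iff.2 ⟨g, a1.symm⟩))
  obtain ⟨U, b1, w, b2, b, b3⟩ := h.actB d c (h.normS' (g := m⁻¹ * g) (Cx_le_norm z (mem_Cx'.2 (by
    calc _ = m⁻¹ * (g * z * g⁻¹) * m := by group
      _ = z := by rw [← a1, ← a5]; group))) (mul_mem (inv_mem (h.MJ a3)) hg))
  exact ⟨W, a2, U, b1, w, b2, b, by simpa using a4.mul b3⟩

theorem uniqS {g : G} (hg : g ∈ normalizer (zpowers z : Set G)) {v : V} (h1 : dg 27 v = 0)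
    (h2 : ¬ InZ v) (h3 : g * φ v * g⁻¹ ∈ J) : g ∈ normalizer (S : Set G) := by
  have z'S := h.JS (φJ d (o 27))
  obtain ⟨γ, a1⟩ := Im.of_mem η (conj_mem_of_mem_normalizer (h.NL hg) (h.SL z'S))
  obtain ⟨u, a2⟩ := (d.rng _).1 h3
  have a3 : φ u ∈ Q := a2 ▸ conj_mem_of_mem_normalizer (h.NQ hg) ((d.inQ v).2 h1)
  rcases (by decide +kernel : ∀ γ : S25, γ ^ 3 = 1 → γ ≠ 1 → γ * x0⁻¹ = 1 ∨ γ * x0 = 1 ∨
      ∃ k ∈ [2, 3, 5], ((x0 * γ) ^ k)⁻¹ * m1 = 1) γ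
    ((a1.pow 3).eq_one (by rw [conj_pow, h.J3 _ (φJ d _)]; simp))
    (fun e => h.z'Q d ((mem_normalizer_iff.1 (h.NQ hg) _).2 ((h.ηk _).1 (e ▸ a1)))) with
    a | a | ⟨k, -, a⟩
  · exact h.normS hg z'S (h.z'Q d) ((mul_mem_cancel_right (inv_mem z'S)).1
      (h.QS ((h.ηk _).1 ((a1.mul c.ηz.inv).of_eq a))))
  · exact h.normS hg z'S (h.z'Q d) ((mul_mem_cancel_right z'S).1
      (h.QS ((h.ηk _).1 ((a1.mul c.ηz).of_eq a))))
  have k1 : ∀ x ∈ L, x * φ u = φ u * x → x ∈ cjC (zpowers z) {φ u} := fun x a b =>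
    ⟨Cx_le_norm z (h.Lz a), fun _ e => by rw [e, Cj, ← b]; simp⟩
  have a4 := (h.ηk _).1 ((((c.ηz.mul a1).pow k).inv.mul c.ηt).of_eq a)
  have a5 := ((mul_mem_cancel_left (inv_mem (pow_mem (mul_mem
    (k1 _ c.ηz.mem (h.Jc _ (φJ d _) _ (φJ d _))) (k1 _ a1.mem (by
      rw [a2, conj_mul, conj_mul, h.Jc _ (φJ d _) _ (φJ d _)]))) k))).1
    (show _ ∈ cjC (zpowers z) {φ u} from ⟨Cx_le_norm z (h.Sz (h.QS a4)),
      fun _ e => e ▸ h.Qc _ a3 _ a4⟩)).2 _ rfl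
  have a6 := a5.symm
  rw [Cj, aT d, ← map_inv, ← map_mul, zp d] at a6
  have a7 := (zp d).2 ((by decide +kernel : ∀ u, dg 27 u = 0 → InZ (tm tT u * u⁻¹) → InZ u) u
    ((d.inQ u).1 a3) a6)
  rw [a2] at a7
  exact absurd ((zp d).1 ((mem_normalizer_iff.1 hg _).2 a7)) h2

theorem cover {x : G} (hx : x ∈ Q) : ∃ l ∈ L, l⁻¹ * x * l ∈ J := by
  by_cases hz : x ∈ zpowers z
  · exact ⟨1, one_mem _, by simpa using h.ZJ hz⟩
  choose l hl using h.ηs
  have lZ := fun a => Cx_le_norm z (h.Lz (hl a).mem)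
  let Ψ : Fin 10 × {v : V // dg 27 v = 0 ∧ ¬ InZ v} → ((Q : Set G) \ zpowers z : Set G) := fun p =>
    ⟨l (rep p.1) * φ p.2 * (l (rep p.1))⁻¹, conj_mem_of_mem_normalizer (h.NQ (lZ _))
      ((d.inQ _).2 p.2.2.1), fun a => p.2.2.2 ((zp d).1 ((mem_normalizer_iff.1 (lZ _) _).2 a))⟩
  have hi : Function.Injective Ψ := by
    rintro ⟨i, v⟩ ⟨j, u⟩ e
    have e1 : l (rep i) * φ v * (l (rep i))⁻¹ = l (rep j) * φ u * (l (rep j))⁻¹ := congrArg Subtype.val e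
    have a1 := h.uniqS d c (mul_mem (inv_mem (lZ (rep j))) (lZ (rep i))) v.2.1 v.2.2 (by
      rw [show (l (rep j))⁻¹ * l (rep i) * φ v * ((l (rep j))⁻¹ * l (rep i))⁻¹ =
        (l (rep j))⁻¹ * (l (rep i) * φ v * (l (rep i))⁻¹) * l (rep j) by group, e1]
      simpa [mul_assoc] using φJ d u.1)
    have a2 : S ⊓ qpre η (Cx x0) = S := h.eqS (le_inf h.QS fun a ha => (mem_pre (x := ⟨a, h.QL ha⟩)).2
      (by rw [((h.ηk a).2 ha).2]; exact one_mem _)) inf_le_left ⟨h.JS (φJ d (o 27)),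
        (mem_pre (x := ⟨_, c.ηz.mem⟩)).2 (by rw [c.ηz.2]; exact mem_Cx.2 rfl)⟩ (h.z'Q d)
    have a3 := ((hl (rep j)).inv.mul (hl (rep i))).conj c.ηz
    have a4 := (mem_pre (x := ⟨_, a3.mem⟩)).1
      (a2.ge (conj_mem_of_mem_normalizer a1 (h.JS (φJ d (o 27))))).2
    rw [a3.2, mem_Cx] at a4
    obtain rfl := (by decide +kernel : ∀ i j, (rep j)⁻¹ * rep i * x0 * ((rep j)⁻¹ * rep i)⁻¹ * x0 =
      x0 * ((rep j)⁻¹ * rep i * x0 * ((rep j)⁻¹ * rep i)⁻¹) → i = j) i j a4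
    rw [Subtype.ext (d.inj (by simpa using e1) : v.1 = u.1)]
  obtain ⟨p, e⟩ := (hi.bijective_of_nat_card_le (by
    rw [Nat.card_coe_set_eq, Set.ncard_sdiff h.ZQ, ← Nat.card_coe_set_eq, ← Nat.card_coe_set_eq,
      Nat.card_prod, card_subtype, SetLike.coe_sort_coe, SetLike.coe_sort_coe, h.cQ, Nat.card_zpowers,
      h.z3, show cnt (fun v : V => dg 27 v = 0 ∧ ¬ InZ v) = 24 by decide +kernel]
    simp)).2 ⟨x, hx, hz⟩
  exact ⟨_, (hl (rep p.1)).mem, by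
    rw [← show _ = x from congrArg Subtype.val e]; simpa [Ψ, mul_assoc] using φJ d p.2.1⟩

theorem XQ {g : G} (hx : g * z * g⁻¹ ∈ Q) : g ∈ normalizer (zpowers z : Set G) := by
  obtain ⟨l, a1, a2⟩ := h.cover d c hx
  obtain ⟨v, a3⟩ := (d.rng _).1 a2
  have a4 := (zp d).2 ((by decide +kernel : ∀ v, InX v → dg 27 v = 0 → InZ v) v
    (h.inX d (isConj_iff.2 ⟨l⁻¹ * g, by rw [a3]; group⟩))
    ((d.inQ v).1 (a3 ▸ conj_mem_of_mem_normalizer' (h.zQN (h.Lz a1)) hx)))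
  refine mem_normalizer_of_cj_le ?_
  rw [cj_zpowers, zpowers_le]
  simpa [a3, mul_assoc] using conj_mem_of_mem_normalizer (Cx_le_norm z (h.Lz a1)) a4

omit c in
open scoped IsMulCommutative in
theorem sig {R : Subgroup G} (hR : (Nat.card R).Coprime 3) (hJ : J ≤ normalizer (R : Set G)) :
    R ≤ ⊥ := by
  have : IsMulCommutative J := ⟨⟨fun x y => Subtype.ext (h.Jc x x.2 y y.2)⟩⟩
  refine Coprime.le_of_forall_cyclic_quotient hJ (by
    rw [h.cJ]; exact (hR.pow_right 4).symm) fun B hB ⟨a, ha, e⟩ r hr => ?_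
  obtain ⟨H, _, _, π, -, hπ⟩ := exists_quo (K := J) (Z := B) fun x hx =>
    mem_normalizer_of_forall fun b hb => by rwa [h.Jc x hx b (hB hb), mul_inv_cancel_right]
  have a3 : π ⟨a, ha⟩ ^ 3 = 1 := by
    rw [← map_pow, show (⟨a, ha⟩ : J) ^ 3 = 1 from Subtype.ext (h.J3 a ha), map_one]
  let χ : V →* H := π.comp (φ.codRestrict J (φJ d))
  have k : ∀ v, ∃ i ∈ [0, 1, 2], χ v = π ⟨a, ha⟩ ^ i := fun v => by
    rcases zp3_cases a3 ((mem_pre (x := ⟨_, φJ d v⟩)).1 ((sup_le (le_pre hπ hB _) (zpowers_le.2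
      ((mem_pre (x := ⟨a, ha⟩)).2 (mem_zpowers _))) : _ ≤ qpre π (zpowers _)) (e.ge (φJ d v)))) with
      b | b | b
    exacts [⟨0, by simp, b.trans (pow_zero _).symm⟩, ⟨1, by simp, b.trans (pow_one _).symm⟩,
      ⟨2, by simp, b.trans (eq_inv_of_mul_eq_one_left (by rw [← pow_succ, a3])).symm⟩]
  obtain ⟨i1, b1, c1⟩ := k (o 1)
  obtain ⟨i2, b2, c2⟩ := k (o 3)
  obtain ⟨i3, b3, c3⟩ := k (o 9)
  obtain ⟨i4, b4, c4⟩ := k (o 27)
  obtain ⟨v, hv, e1, e2⟩ := (by decide +kernel : ∀ i1 ∈ [0, 1, 2], ∀ i2 ∈ [0, 1, 2], ∀ i3 ∈ [0, 1, 2],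
    ∀ i4 ∈ [0, 1, 2], ∃ v : V, InX v ∧
      (i1 * dg 1 v + i2 * dg 3 v + (i3 * dg 9 v + i4 * dg 27 v)) % 3 = 0 ∧
      v = o 1 ^ dg 1 v * o 3 ^ dg 3 v * (o 9 ^ dg 9 v * o 27 ^ dg 27 v)) i1 b1 i2 b2 i3 b3 i4 b4
  have vB : φ v ∈ B := (hπ ⟨_, φJ d v⟩).1 (show χ v = 1 by
    rw [e2]
    simp only [map_mul, map_pow, c1, c2, c3, c4, ← pow_mul, ← pow_add]
    rw [pow_eq_pow_mod _ a3, e1, pow_zero])
  obtain ⟨-, -, m, d1, -, d2⟩ := h.exW d hv
  have d3 : m⁻¹ * r * m ∈ Cx z := by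
    rw [← conj_mem_Cx (g := m), d2]
    simpa [mul_assoc] using mem_Cx.2 (hr.2 _ vB).symm
  have d4 := h.J3 _ (h.CJ1 (g := m⁻¹ * r * m) fun x hx => by
    have f1 := h.Q3 _ (mul_mem (conj_mem_of_mem_normalizer (h.zQN d3) hx.2) (inv_mem hx.2))
    have f2 := mul_mem hr.1 (conj_mem_of_mem_normalizer
      (hJ (conj_mem_of_mem_normalizer (h.MJ d1) hx.1)) (inv_mem hr.1))
    have f3 := eq_one_of_coprime hR f2 (k := 1) (by
      rw [← conj_eq_one_iff (a := m⁻¹), ← conj_pow, ← f1]; congr 1; group)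
    calc _ = m⁻¹ * (r * (m * x * m⁻¹ * r⁻¹ * (m * x * m⁻¹)⁻¹)) * m * x * (m⁻¹ * r * m) := by group
      _ = _ := by rw [f3]; group)
  exact mem_bot.2 (eq_one_of_coprime hR hr.1 (k := 1) (by
    rw [← conj_eq_one_iff (a := m⁻¹), ← conj_pow, ← d4]; simp))

theorem cz {g : G} {v : V} (hv : ¬ InZ v) (h1 : g ∈ normalizer (zpowers z : Set G))
    (h2 : g ∈ Cx (φ v)) : g ∈ normalizer (S : Set G) := by
  by_cases a : dg 27 v = 0
  · exact h.uniqS d c h1 a hv (by rw [mem_Cx'.1 h2]; exact φJ d v)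
  · exact h.normS h1 (h.JS (φJ d v)) (mt (d.inQ v).1 a) (by rw [mem_Cx'.1 h2]; exact h.JS (φJ d v))

theorem fixW {g : G} (hg : g ∈ normalizer (J : Set G)) (h1 : g ∈ Cx (φ (o 3)) ⊓ Cx (φ (o 9))) :
    Act φ g (fun v => v) ∨ Act φ g (tm tR) := by
  obtain ⟨W, a1, U, a2, w, a3, b, a4⟩ := h.actM d c hg
  exact ((by decide +kernel : ∀ E ∈ tE, ∀ W ∈ tW, ∀ U ∈ tU, ∀ w ∈ wH, ∀ b,
    tm W (tm U (sg b (wv [E, tN] w (o 3)))) = o 3 → tm W (tm U (sg b (wv [E, tN] w (o 9)))) = o 9 →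
    (∀ v, tm W (tm U (sg b (wv [E, tN] w v))) = v) ∨
      ∀ v, tm W (tm U (sg b (wv [E, tN] w v))) = tm tR v) E c.mE W a1 U a2 w a3 b
    (a4.fix d.inj h1.1) (a4.fix d.inj h1.2)).imp a4.congr a4.congr

theorem cW : Cx (φ (o 3)) ⊓ Cx (φ (o 9)) ≤ normalizer (J : Set G) := by
  let W0 : Subgroup V := sub (fun v => tm tT v = v⁻¹) (by decide +kernel)
  have JK : J ≤ Cx (φ (o 3)) ⊓ Cx (φ (o 9)) := fun x hx =>
    ⟨mem_Cx.2 (h.Jc _ hx _ (φJ d _)), mem_Cx.2 (h.Jc _ hx _ (φJ d _))⟩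
  have WJ : W0.map φ ≤ J := by rintro _ ⟨v, -, rfl⟩; exact φJ d v
  have cen : ∀ k ∈ Cx (φ (o 3)) ⊓ Cx (φ (o 9)), ∀ x ∈ W0.map φ, k * x = x * k := by
    rintro k hk _ ⟨v, hv, rfl⟩
    exact (mem_Cx.1 (map_mem_of_sp φ (S := Cx k) (gs := [o 3, o 9]) (D := 3) (by
      simp only [List.forall_mem_cons]; exact ⟨Cx_comm.1 hk.1, Cx_comm.1 hk.2, by simp⟩)
      ((by decide +kernel : ∀ v : V, tm tT v = v⁻¹ → bit (sp [(o 3 : V), o 9] 3) v.v = true) v hv))).symm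
  have syl : IsSylowIn 3 J (Cx (φ (o 3)) ⊓ Cx (φ (o 9))) := sylow_of h.pJ JK fun x a b ⟨k, e⟩ => by
    rcases h.fixW d c b a with a1 | a1
    · exact h.triv d a1 ⟨rfl, rfl, rfl, rfl⟩
    · exact mem_of_coprime_pow (a := 2) (b := 3 ^ k) (Nat.Coprime.pow_right k (by norm_num))
        (h.triv d (a1.pow 2) (by decide +kernel)) (e ▸ one_mem _)
  have fx : ∀ {g x}, InX x → (∀ u, tm tT u = u⁻¹ → InX (u * x) → u = 1) →
      Cj (W0.map φ) g (φ x) (φ x) → g ∈ Cx (φ x) := fun {g x} a b ⟨u, e1, e2⟩ => by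
    obtain rfl := b u e1 (h.X_conj d (g := g) a (by rw [map_mul, e2]; simp))
    exact mem_Cx'.2 (mul_inv_eq_one.1 (e2.symm.trans (map_one φ)))
  have cJ1 : ∀ g ∈ Cx (φ (o 3)) ⊓ Cx (φ (o 9)), g ∈ Cx (φ (o 1)) → g ∈ J := fun g a b =>
    h.CJ1 fun x hx => by
      obtain ⟨v, rfl⟩ := (d.rng _).1 hx.1
      exact (mem_Cx.1 (map_mem_of_sp φ (S := Cx g) (gs := [o 1, o 3, o 9]) (D := 3) (by
        simp only [List.forall_mem_cons]
        exact ⟨Cx_comm.1 b, Cx_comm.1 a.1, Cx_comm.1 a.2, by simp⟩)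
        ((by decide +kernel : ∀ v : V, dg 27 v = 0 → bit (sp [(o 1 : V), o 3, o 9] 3) v.v = true) v
          ((d.inQ v).1 hx.2)))).symm
  refine (st3 (Z := W0.map φ) (P := J) (a := φ (o 1)) (b := φ (o 27)) ⟨WJ, JK, fun k hk =>
    mem_normalizer_of_forall fun x hx => by rwa [cen k hk x hx, mul_inv_cancel_right], φJ d _, φJ d _,
    h.J3 _ (φJ d _) ▸ one_mem _, h.J3 _ (φJ d _) ▸ one_mem _, ?_, fun x hx => ?_, ?_, syl.not_dvd⟩
    (Or.inr cen) (fun g a b => ?_) (fun g a b => ?_) fun g a b => ?_).trans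
    (sup_le ((h.sig d (PComp.coprime_card_opOf _)
      (JK.trans (PComp.le_normalizer_opOf _))).trans bot_le) inf_le_right)
  · rw [Cj, h.Jc _ (φJ d _) _ (φJ d (o 27))]; simp
  · obtain ⟨v, rfl⟩ := (d.rng _).1 hx
    refine map_mem_of_sp φ (gs := [o 1, o 3, o 9, o 27]) (D := 4) ?_
      ((by decide +kernel : ∀ v : V, bit (sp [(o 1 : V), o 3, o 9, o 27] 4) v.v = true) v)
    simp only [List.forall_mem_cons]
    exact ⟨mem_sup_right (subset_closure (by simp)), mem_sup_left ⟨_, (by decide +kernel :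
      tm tT (o 3) = (o 3)⁻¹), rfl⟩, mem_sup_left ⟨_, (by decide +kernel : tm tT (o 9) = (o 9)⁻¹), rfl⟩,
      mem_sup_right (subset_closure (by simp)), by simp⟩
  · have := card_mul_relIndex' WJ
    rw [card_map_of_injective d.inj, card_sub, h.cJ,
      show cnt (fun v : V => tm tT v = v⁻¹) = 9 by decide +kernel] at this
    omega
  · rcases h.fixW d c b a with a1 | a1
    · exact Or.inl ⟨by rw [Cj, a1]; simp, by rw [Cj, a1]; simp⟩
    · refine Or.inr ⟨?_, ?_⟩ <;> rw [Cj, a1, ← map_inv, ← map_inv, ← map_mul] <;>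
        exact mem_map_of_mem φ (show tm tT _ = _ by decide +kernel)
  · exact cJ1 g a (fx (by decide +kernel) (by decide +kernel) b)
  · have k : ∀ u, g ∈ Cx (φ u) → n * g * n⁻¹ ∈ Cx (φ (tm tN u)) := fun u a => by
      rwa [← d.an, conj_mem_Cx]
    have a1 := k _ a.2
    rw [(by decide +kernel : tm tN (o 9) = (o 9)⁻¹), map_inv] at a1
    exact (mem_normalizer_iff.1 (h.MJ d.nM) g).2 (cJ1 _ ⟨k _ a.1, Cx_comm.1 (inv_mem_iff.1
      (Cx_comm.1 a1))⟩ (k _ (fx (by decide +kernel) (by decide +kernel) b)))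

theorem cP {g : G} {v : V} (hv : ¬ InY v) (h1 : g ∈ Cx (φ (o 12))) (h2 : g ∈ Cx (φ v)) :
    g ∈ normalizer (J : Set G) := by
  have k : ∀ i j : ℕ, g ∈ Cx (φ (o 12 ^ i * v ^ j)) := fun i j => by
    rw [map_mul, map_pow, map_pow]
    exact Cx_comm.1 (mul_mem (pow_mem (Cx_comm.1 h1) i) (pow_mem (Cx_comm.1 h2) j))
  have k2 : ∀ {m x}, g ∈ Cx (m * x * m⁻¹) → m⁻¹ * g * m ∈ Cx x := fun {m x} a => by
    rw [← conj_mem_Cx (g := m)]; simpa [mul_assoc] using a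
  have k3 : ∀ m ∈ M, m⁻¹ * g * m ∈ normalizer (J : Set G) → g ∈ normalizer (J : Set G) :=
    fun m a b => by simpa [mul_assoc] using mul_mem (mul_mem (h.MJ a) b) (inv_mem (h.MJ a))
  rcases (by decide +kernel : ∀ v, ¬ InY v → (∃ i ∈ [0, 1, 2], ∃ j ∈ [1, 2], InX (o 12 ^ i * v ^ j)) ∨
    ∃ w ∈ wP, (∃ i ∈ [0, 1, 2], ∃ j ∈ [0, 1, 2], wv tb3 w (o 3) = o 12 ^ i * v ^ j) ∧
      ∃ i ∈ [0, 1, 2], ∃ j ∈ [0, 1, 2], wv tb3 w (o 9) = o 12 ^ i * v ^ j) v hv with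
    ⟨i, -, j, -, a⟩ | ⟨w, -, ⟨i, -, j, -, a1⟩, i', -, j', -, a2⟩
  · obtain ⟨-, -, m, b1, -, b2⟩ := h.exW d a
    obtain ⟨u, b3⟩ := (d.rng _).1 (conj_mem_of_mem_normalizer' (h.MJ b1) (φJ d (o 12)))
    have b4 : m * φ u * m⁻¹ = φ (o 12) := by rw [b3]; group
    refine k3 m b1 (h.NSJ d (h.cz d c (v := u) ?_ (Cx_le_norm z (k2 (b2 ▸ k i j))) (k2 (b4 ▸ h1))))
    rintro (rfl | rfl | rfl)
    · exact absurd (d.inj (b4.symm.trans (by simp : _ = φ 1))) (by decide +kernel)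
    all_goals exact absurd (h.X_conj d (by decide +kernel) b4) (by decide +kernel)
  · exact k3 _ (h.wM d w) (h.cW d c ⟨k2 (by rw [aw d w, a1]; exact k i j),
      k2 (by rw [aw d w, a2]; exact k i' j')⟩)

theorem normP {g : G} {v : V} (hv : ¬ InY v) (h1 : g ∈ Cx (φ (o 12))) (h2 : g * φ v * g⁻¹ ∈ J) :
    g ∈ normalizer (J : Set G) := by
  obtain ⟨u, a1⟩ := (d.rng _).1 h2
  have a2 : ¬ InY u := by
    have k : ∀ x, g ∈ Cx (φ x) → u = x → v = x := fun x a b => d.inj ((MulAut.conj g).injective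
      (show g * φ v * g⁻¹ = g * φ x * g⁻¹ by rw [mem_Cx'.1 a, ← a1, b]))
    refine fun a => hv (a.imp (k _ (by simp)) (Or.imp (k _ h1) (k _ ?_)))
    rw [(by decide +kernel : (o 24 : V) = (o 12)⁻¹), map_inv]
    exact Cx_comm.1 (inv_mem (Cx_comm.1 h1))
  obtain ⟨m, b1, b2⟩ := (h.syl.of_le h.SN le_top).exists_cj_le (isPGroup_cj g h.pJ)
    (cj_le_iff.2 fun x hx => h.cP d c a2 (by
      rw [← mem_Cx'.1 h1, conj_mem_Cx]; exact mem_Cx.2 (h.Jc _ hx _ (φJ d _)))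
      (by rw [a1, conj_mem_Cx]; exact mem_Cx.2 (h.Jc _ hx _ (φJ d _))))
  rw [← cj_mul] at b2
  exact (mul_mem_cancel_left b1).1 (mem_normalizer_iff_cj.2 (h.wc d b2))

end Hyp

end CfsgLib.McLRec.Three
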