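import Mathlib
import Cfsg.Agent.Lib.McLRec.T5

/-!
The 3-local characterisation of the McLaughlin group: the centraliser of an element of `J` which is
not conjugate to `z` normalises `J`.
-/

set_option autoImplicit false
set_option maxHeartbeats 400000
set_option linter.unusedSectionVars false
set_option synthInstance.maxSize 4096

namespace CfsgLib.McLRec.Three

open Subgroup Cfsg CfsgLib.Tech CfsgLib.W2 CfsgLib.Rec3 TG

abbrev In3 (v : V) : Prop := bit 0x38e001c71c0038e38007 v.v = true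

variable {G : Type*} [Group G] [Finite G]

namespace Hyp

variable {S J Q M L T : Subgroup G} {z q f n e : G} {θ : M →* PG 6} {η : L →* S25} {φ : V →* G}
  {E : ℕ} (h : Hyp S J Q M L z θ η) (d : Dat S J Q M z φ q f n T) (c : Dat2 S L T η φ f n e E)
include h d c

omit c in
theorem JC (v : V) : J ≤ Cx (φ v) := fun _ hx => mem_Cx.2 (h.Jc _ hx _ (φJ d _))

omit h c in
theorem φ2 : φ (o 2) = z⁻¹ := by rw [← d.φz, ← map_inv]; exact congrArg φ (by decide +kernel)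

theorem fixB {g : G} (h1 : g ∈ normalizer (zpowers z : Set G)) (h2 : g ∈ Cx (φ (o 12))) :
    ∃ U ∈ tU, tm U (o 12) = o 12 ∧ (Act φ g (tm U) ∨ Act φ g fun v => tm U (tm tR v)) := by
  obtain ⟨U, a1, w, a2, b, a3⟩ := h.actB d c (h.cz d c (by decide +kernel) h1 h2)
  obtain ⟨a4, a5⟩ := (by decide +kernel : ∀ E ∈ tE, ∀ U ∈ tU, ∀ w ∈ wH, ∀ b,
    tm U (sg b (wv [E, tN] w (o 12))) = o 12 → tm U (o 12) = o 12 ∧
    ((∀ v, tm U (sg b (wv [E, tN] w v)) = tm U v) ∨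
      ∀ v, tm U (sg b (wv [E, tN] w v)) = tm U (tm tR v))) E c.mE U a1 w a2 b (a3.fix d.inj h2)
  exact ⟨U, a1, a4, a5.imp a3.congr a3.congr⟩

omit c in
theorem splitD {g : G} (h1 : g ∈ normalizer ((J ⊓ Cx (f * f) : Subgroup G) : Set G)) :
    g ∈ normalizer (S : Set G) ∨ n * g ∈ normalizer (S : Set G) := h.split d fun v hv => by
  have := conj_mem_of_mem_normalizer h1 (x := φ v) ⟨φJ d v, Cx_comm.1 ((aT d).mem_Cx hv)⟩
  obtain ⟨u, e⟩ := (d.rng _).1 this.1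
  exact ⟨u, (aT d).fix d.inj (Cx_comm.1 (e ▸ this.2)), e.symm⟩

omit c in
theorem sylD : IsSylowIn 3 (J ⊓ Cx (f * f)) (Cx (f * f)) :=
  sylow_of h.pJ.to_inf_left inf_le_right fun g a b ⟨k, e⟩ => by
    have k1 : g ∈ normalizer (S : Set G) := (h.splitD d b).elim id fun a1 => by
      obtain ⟨H, a2, a3⟩ := h.actH d a1 (mul_mem (nt d) a)
      have a4 : Act φ g fun v => tm tN (tm H v) := by
        simpa [← mul_assoc, h.nn d] using d.an.mul a3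
      refine mem_of_coprime_pow (a := 2) (b := 3 ^ k) (Nat.Coprime.pow_right k (by norm_num))
        (h.normS' (mem_normalizer_of_cj_le ?_) (pow_mem ((mul_mem_cancel_left (h.MJ d.nM)).1
          (h.NSJ d a1)) 2)) (e ▸ one_mem _)
      rw [cj_zpowers, zpowers_le]
      nth_rw 2 [← d.φz]
      rw [a4.pow 2, zp d]
      exact (by decide +kernel : ∀ H ∈ tL, InZ ((fun v => tm tN (tm H v))^[2] (o 1))) H a2
    obtain ⟨v, -, rfl⟩ := h.memD d (h.memS k1 e) a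
    exact ⟨φJ d v, a⟩

omit c in
theorem notT {k : G} {a b : V} (hp : Pure a b) (ha : k * (f * f) * k⁻¹ ∈ Cx (φ a))
    (hb : k * (f * f) * k⁻¹ ∈ Cx (φ b)) : False := by
  obtain ⟨g, -, e⟩ := (h.sylD d).exists_cj_le (Q := cj k⁻¹ (J ⊓ Cx (k * (f * f) * k⁻¹)))
    (isPGroup_cj _ h.pJ.to_inf_left) (by
      rw [cj_inf, cj_Cx, show k⁻¹ * (k * (f * f) * k⁻¹) * k⁻¹⁻¹ = f * f by group]; exact inf_le_right)
  rw [← cj_mul, cj_le_iff] at e
  have k1 : ∀ a, k * (f * f) * k⁻¹ ∈ Cx (φ a) → ∃ a', tm tT a' = a' ∧ W2.Rel φ (g * k⁻¹) a a' :=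
    fun a ha => by
      have := e _ ⟨φJ d a, Cx_comm.1 ha⟩
      obtain ⟨u, e⟩ := (d.rng _).1 this.1
      exact ⟨u, (aT d).fix d.inj (Cx_comm.1 (e ▸ this.2)), e.symm⟩
  obtain ⟨a', a1, a2⟩ := k1 a ha
  obtain ⟨b', b1, b2⟩ := k1 b hb
  have k2 : ∀ {x y} (i : ℕ), W2.Rel φ (g * k⁻¹) x y → W2.Rel φ (g * k⁻¹) (x ^ i) (y ^ i) :=
    fun i r => by rw [W2.Rel, map_pow, map_pow, ← conj_pow, r]
  obtain ⟨i, hi, j, hj, e1⟩ := (by decide +kernel : ∀ a', tm tT a' = a' → ∀ b', tm tT b' = b' →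
    ∃ i ∈ [0, 1, 2], ∃ j ∈ [0, 1, 2], InX (a' ^ i * b' ^ j) ∨ (a' ^ i * b' ^ j = 1 ∧ ¬(i = 0 ∧ j = 0)))
    a' a1 b' b1
  have r := ((k2 i a2).mul (k2 j b2)).symm
  rcases e1 with e1 | e1
  · exact (hp i hi j hj).1 (h.X_conj d e1 r)
  · exact e1.2 ((hp i hi j hj).2 (r.uniq d.inj W2.Rel.one e1.1))

theorem invz {k : G} (h1 : k * (f * f) * k⁻¹ ∈ Cx (φ (o 12)))
    (h2 : k * (f * f) * k⁻¹ * z * (k * (f * f) * k⁻¹)⁻¹ = z⁻¹) : False := by
  obtain ⟨U, a1, a2, a3 | a3⟩ := h.fixB d c (norm_zp (Or.inr h2)) h1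
  · exact absurd (a3.eq d.inj (u := o 1) (v := o 2) (by rwa [d.φz, φ2 d]))
      ((by decide +kernel : ∀ U ∈ tU, tm U (o 1) ≠ o 2) U a1)
  · obtain ⟨b, b1, b2⟩ := (by decide +kernel : ∀ U ∈ tU, tm U (o 12) = o 12 →
      ∃ b, tm U (tm tR b) = b ∧ Pure (o 12) b) U a1 a2
    exact h.notT d b2 h1 (a3.mem_Cx b1)

omit c in
theorem sylP : IsSylowIn 3 (S ⊓ Cx (φ (o 12))) (Cx (φ (o 12))) :=
  sylow_of h.syl.pgroup.to_inf_left inf_le_right fun g a b ⟨_, e⟩ => by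
    have a1 : g ∈ normalizer (J : Set G) := mem_normalizer_iff_cj.2 (h.wc d (cj_le_iff.2 fun x hx =>
      (conj_mem_of_mem_normalizer b ⟨h.JS hx, h.JC d _ hx⟩).1))
    obtain ⟨v, a2⟩ := (d.rng _).1 (conj_mem_of_mem_normalizer a1 h.zJ)
    have a3 : q ∈ Cx (φ v) := by
      rw [a2, ← conj_mem_Cx (g := g⁻¹)]
      simpa [mul_assoc] using h.Sz (conj_mem_of_mem_normalizer' b
        ⟨h.QS d.qQ, d.aq.mem_Cx (by decide +kernel)⟩).1
    refine ⟨h.memS (h.normS' (mem_normalizer_of_cj_le ?_) a1) e, a⟩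
    rw [cj_zpowers, zpowers_le, ← a2, zp d]
    exact (by decide +kernel : ∀ v, InX v → tm tQ v = v → InZ v) v
      (h.inX d (isConj_iff.2 ⟨g, a2.symm⟩)) (d.aq.fix d.inj a3)

omit c in
theorem idxP : J.relIndex (S ⊓ Cx (φ (o 12))) = 3 := by
  have a1 : J ≤ S ⊓ Cx (φ (o 12)) := le_inf h.JS (h.JC d _)
  have a2 := relIndex_mul_relIndex _ _ _ a1 (inf_le_left : _ ≤ S)
  have a3 := card_mul_relIndex' h.JS
  rw [h.cJ, h.cS] at a3
  have a4 : J.relIndex (S ⊓ Cx (φ (o 12))) ≠ 1 := fun e => absurd ((actJ d (relIndex_eq_one.1 e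
    ⟨h.QS d.qQ, d.aq.mem_Cx (by decide +kernel)⟩)).ext d.inj d.aq (o 3)) (by decide +kernel)
  have a5 : (S ⊓ Cx (φ (o 12))).relIndex S ≠ 1 := fun e => by
    obtain ⟨U, b1, b2⟩ := (by decide +kernel : ∃ U ∈ tU, tm U (o 12) ≠ o 12)
    obtain ⟨s, b3, b4⟩ := h.surjU d b1
    exact b2 (b4.fix d.inj (relIndex_eq_one.1 e (h.QS b3)).2)
  rw [show J.relIndex S = 9 by omega] at a2
  generalize J.relIndex (S ⊓ Cx (φ (o 12))) = i at *
  generalize (S ⊓ Cx (φ (o 12))).relIndex S = j at *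
  have : i ≤ 9 := Nat.le_of_dvd (by norm_num) ⟨j, a2.symm⟩
  interval_cases i <;> omega

omit c in
theorem cube {s : G} (hs : s ∈ S) (h1 : s ∉ J) (h2 : s ∉ Q) : s ^ 3 = z ∨ s ^ 3 = z⁻¹ := by
  obtain ⟨U, a1, a2⟩ := actS d hs
  obtain ⟨x, a3, a4⟩ := h.surjU d a1
  obtain ⟨v, a5⟩ := (d.rng _).1 (h.same d a2 a4 ⟨rfl, rfl, rfl, rfl⟩)
  obtain rfl : s = x * φ v := by rw [a5]; group
  have a6 : (x * φ v) ^ 3 = φ (tm U v * tm U (tm U v) * v) := by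
    rw [map_mul, map_mul, ← a4 (tm U v), ← a4 v]
    calc _ = x * φ v * x⁻¹ * (x * (x * φ v * x⁻¹) * x⁻¹) * (x ^ 3 * φ v) := by
          simp only [pow_succ, pow_zero]; group
      _ = _ := by rw [h.Q3 x a3, one_mul]
  rw [a6, ← φ2 d, ← d.φz]
  exact (((by decide +kernel : ∀ U ∈ tU, ∀ v, dg 27 v ≠ 0 → Bas (tm U) (fun v => v) ∨
    (tm U v * tm U (tm U v) * v = o 1 ∨ tm U v * tm U (tm U v) * v = o 2)) U a1 v fun e =>
      h2 (mul_mem a3 ((d.inQ v).2 e))).resolve_left fun e => h1 (h.triv d a2 e)).imp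
    (congrArg φ) (congrArg φ)

section

variable {x : G} (hx : x ∈ Q) (hx' : x ∉ J) (hy : x ∈ Cx (φ (o 12)))
include hx hx' hy

omit c in
theorem tabx : ∃ U ∈ tU, Act φ x (tm U) ∧ tm U (o 12) = o 12 ∧ ¬ Bas (tm U) fun v => v := by
  obtain ⟨U, a1, a2⟩ := actS d (h.QS hx)
  exact ⟨U, a1, a2, a2.fix d.inj hy, fun e => hx' (h.triv d a2 e)⟩

theorem NA {g : G} (h1 : g ∈ Cx (φ (o 12)) ⊓ Cx x)
    (h2 : g ∈ normalizer ((Cx (φ (o 12)) ⊓ Cx x ⊓ Q : Subgroup G) : Set G)) : g ∈ Q := by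
  obtain ⟨U', b1, b2, b3, b4⟩ := h.tabx d hx hx' hy
  obtain ⟨U, a1, a2, a3 | a3⟩ := h.fixB d c (h.XQ d c (conj_mem_of_mem_normalizer h2
    ⟨⟨h.JC d _ h.zJ, Cx_comm.1 (h.Sz (h.QS hx))⟩, h.zQ⟩).2) h1.1
  · obtain ⟨s, a4, a5⟩ := h.surjU d a1
    have a6 := (mul_mem_cancel_left (inv_mem (h.QS a4))).1
      (h.JS (h.same d a3 a5 ⟨rfl, rfl, rfl, rfl⟩))
    by_contra hn
    exact hx' (h.cV' d hx a6 hn (by rw [Cj, mem_Cx'.1 (Cx_comm.1 h1.2)]; simp))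
  · exact absurd ((a3.mul b2).ext d.inj (mem_Cx.1 h1.2 ▸ b2.mul a3) (o 27))
      ((by decide +kernel : ∀ U ∈ tU, tm U (o 12) = o 12 → ∀ U' ∈ tU, tm U' (o 12) = o 12 →
        ¬ Bas (tm U') (fun v => v) → tm U (tm tR (tm U' (o 27))) ≠ tm U' (tm U (tm tR (o 27))))
        U a1 a2 U' b1 b3 b4)

theorem sylA : IsSylowIn 3 (Cx (φ (o 12)) ⊓ Cx x ⊓ Q) (Cx (φ (o 12)) ⊓ Cx x) :=
  sylow_of h.pQ.to_inf_right inf_le_left fun _ a b _ => ⟨a, h.NA d c hx hx' hy a b⟩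

omit c in
theorem commA : ∀ a ∈ Cx (φ (o 12)) ⊓ Cx x ⊓ Q, ∀ b ∈ Cx (φ (o 12)) ⊓ Cx x ⊓ Q, a * b = b * a := by
  obtain ⟨U', b1, b2, b3, b4⟩ := h.tabx d hx hx' hy
  intro a ha b hb
  obtain ⟨U, a1, a2⟩ := actS d (h.QS ha.2)
  obtain ⟨m, -, a3⟩ := (by decide +kernel : ∀ U ∈ tU, tm U (o 12) = o 12 → ∀ U' ∈ tU,
    tm U' (o 12) = o 12 → ¬ Bas (tm U') (fun v => v) → ∃ m ∈ [0, 1, 2], Bas (tm U) (tm U')^[m])
    U a1 (a2.fix d.inj ha.1.1) U' b1 b3 b4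
  obtain ⟨v, a4⟩ := (d.rng _).1 (h.same d a2 (b2.pow m) a3)
  have a5 : φ v ∈ Cx b := map_mem_of_sp φ (gs := [o 1, o 12]) (D := 3) (by
      simp only [List.forall_mem_cons, d.φz]
      exact ⟨Cx_comm.1 (h.Sz (h.QS hb.2)), Cx_comm.1 hb.1.1, by simp⟩)
    ((by decide +kernel : ∀ U' ∈ tU, tm U' (o 12) = o 12 → ¬ Bas (tm U') (fun v => v) →
      ∀ v, tm U' v = v → bit (sp [(o 1 : V), o 12] 3) v.v = true) U' b1 b3 b4 v
      (b2.fix d.inj (Cx_comm.1 (a4 ▸ mul_mem (inv_mem (pow_mem (mem_Cx.2 rfl) m)) ha.1.2))))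
  exact mem_Cx.1 ((mul_mem_cancel_left (inv_mem (pow_mem (Cx_comm.1 hb.1.2) m))).1 (a4 ▸ a5))

theorem invx {k : G} (h1 : k * (f * f) * k⁻¹ ∈ Cx (φ (o 12)))
    (h2 : k * (f * f) * k⁻¹ * x * (k * (f * f) * k⁻¹)⁻¹ = x⁻¹) : False := by
  have ss : k * (f * f) * k⁻¹ * (k * (f * f) * k⁻¹) = 1 := by rw [conj_mul, h.tt d]; simp
  have fin : ∀ g ∈ Cx (φ (o 12)), g * (k * (f * f) * k⁻¹) * g⁻¹ * z *
      (g * (k * (f * f) * k⁻¹) * g⁻¹)⁻¹ = z⁻¹ → False := fun g a b =>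
    h.invz d c (k := g * k) (by simpa [mul_assoc] using mul_mem (mul_mem a h1) (inv_mem a))
      (by simpa [mul_assoc] using b)
  generalize k * (f * f) * k⁻¹ = s at *
  have sA := h.sylA d c hx hx' hy
  have cA := h.commA d hx hx' hy
  have nA := fun g => h.NA d c hx hx' hy (g := g)
  have zC : z ∈ Cx (φ (o 12)) ⊓ Cx x := ⟨h.JC d _ h.zJ, Cx_comm.1 (h.Sz (h.QS hx))⟩
  have sC : s ∈ normalizer ((Cx (φ (o 12)) ⊓ Cx x : Subgroup G) : Set G) :=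
    mem_normalizer_of_forall fun g hg => mem_inf.2 ⟨mul_mem (mul_mem h1 hg.1) (inv_mem h1), Cx_comm.1
      (inv_mem_iff.1 (Cx_comm.1 (by rw [← h2, conj_mem_Cx]; exact hg.2)))⟩
  have CY : Cx (φ (o 12)) ⊓ Cx x ≤ Cx (φ (o 12)) := inf_le_left
  have Cx' : Cx (φ (o 12)) ⊓ Cx x ≤ Cx x := inf_le_right
  generalize Cx (φ (o 12)) ⊓ Cx x = C at *
  obtain ⟨K, k1, k2, k3, k4, -⟩ := exists_transfer sA cA bot_le fun g a b y hy => by
    rw [cA g ⟨a, nA g a b⟩ y hy]; simp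
  obtain ⟨H, _, _, π, -, hπ⟩ := exists_quo (K := C) (Z := K) (le_normalizer.trans k2)
  have k5 : ∀ a : C, ∃ a' : C, (a' : G) ∈ C ⊓ Q ∧ π a' = π a := fun a =>
    exists_of_mem_im (mem_pre.1 ((sup_le (le_pre hπ k1 _) fun y (hy : y ∈ C ⊓ Q) =>
      (mem_pre (x := ⟨y, hy.1⟩)).2 (mem_im hy) : _ ≤ qpre π (qim π (C ⊓ Q))) (k4 a.2)))
  have k6 : ∀ a b : C, π (a * b * a⁻¹) = π b := fun a b => by
    obtain ⟨a', a1, a2⟩ := k5 a
    obtain ⟨b', b1, b2⟩ := k5 b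
    rw [map_mul, map_mul, map_inv, ← a2, ← b2, ← map_mul,
      show a' * b' = b' * a' from Subtype.ext (cA _ a1 _ b1), map_mul, mul_inv_cancel_right]
  have z2C := conj_mem_of_mem_normalizer sC zC
  obtain ⟨g, a1, a2⟩ := sA.exists_conj_mem z2C (isPGroup_zpowers_of_pow (k := 1)
    (by rw [conj_pow, pow_one, h.zz]; simp))
  have a3 : g * (s * z * s⁻¹) * g⁻¹ = z⁻¹ := by
    obtain ⟨U', b1, b2, b3, b4⟩ := h.tabx d hx hx' hy
    obtain ⟨U, b5, b6, b7 | b7⟩ := h.fixB d c (h.XQ d c (g := g * s)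
      (by simpa [mul_assoc] using a2.2)) (mul_mem (CY a1) h1)
    · have : x * (g * s * x) = g * s := by
        calc _ = x * g * (s * x * s⁻¹) * s := by group
          _ = _ := by rw [h2, ← mem_Cx.1 (Cx' a1)]; group
      exact absurd ((b2.mul (b7.mul b2)).ext d.inj (this.symm ▸ b7) (o 27))
        ((by decide +kernel : ∀ U ∈ tU, ∀ U' ∈ tU, ¬ Bas (tm U') (fun v => v) →
          tm U' (tm U (tm U' (o 27))) ≠ tm U (o 27)) U b5 U' b1 b4)
    · have := (b7 (o 1)).trans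
        (congrArg φ ((by decide +kernel : ∀ U ∈ tU, tm U (tm tR (o 1)) = o 2) U b5))
      rw [d.φz, φ2 d] at this
      rw [← this]; group
  have z3 : π ⟨z, zC⟩ ^ 3 = 1 := by
    rw [← map_pow, show (⟨z, zC⟩ : C) ^ 3 = 1 from Subtype.ext h.zz, map_one]
  let ζ : C := ⟨_, z2C⟩ * ⟨z, zC⟩⁻¹
  have a4 : π ζ = π ⟨z, zC⟩ := by
    rw [map_mul, ← k6 ⟨g, a1⟩, show (⟨g, a1⟩ * ⟨_, z2C⟩ * ⟨g, a1⟩⁻¹ : C) = ⟨z, zC⟩⁻¹ from
      Subtype.ext a3, map_inv, ← mul_inv_rev, inv_eq_iff_mul_eq_one, ← z3, pow_three']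
  have a5 : s * ζ * s⁻¹ = (ζ : G)⁻¹ := by
    calc _ = s * s * z * (s * s)⁻¹ * (s * z * s⁻¹)⁻¹ := by simp only [ζ, coe_mul, coe_inv]; group
      _ = _ := by rw [ss]; simp [ζ]
  obtain ⟨i, j, b1, b2⟩ := Nat.exists_eq_pow_mul_and_not_dvd (orderOf_pos ζ).ne' 3 (by norm_num)
  obtain ⟨g', c1, c2⟩ := sA.exists_conj_mem (ζ ^ (j * j)).2 (isPGroup_zpowers_of_pow (k := i) (by
    rw [← coe_pow, ← pow_mul, show j * j * 3 ^ i = orderOf ζ * j by rw [b2]; ring, pow_mul,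
      pow_orderOf_eq_one, one_pow, coe_one]))
  have c3 : π (⟨g', c1⟩ * ζ ^ (j * j) * ⟨g', c1⟩⁻¹ * ⟨z, zC⟩⁻¹) = 1 := by
    rw [map_mul, k6, map_pow, a4, pow_eq_pow_mod _ z3, map_inv, show j * j % 3 = 1 by
      have : j % 3 = 1 ∨ j % 3 = 2 := by omega
      rcases this with e | e <;> simp [Nat.mul_mod, e], pow_one, mul_inv_cancel]
  have c4 : g' * (ζ : G) ^ (j * j) * g'⁻¹ = z :=
    mul_inv_eq_one.1 (mem_bot.1 (k3 (mem_inf.2 ⟨(hπ _).1 c3,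
      mul_mem c2 (inv_mem (mem_inf.2 ⟨zC, h.zQ⟩))⟩)))
  refine fin g' (CY c1) ?_
  calc _ = g' * (s * (ζ : G) ^ (j * j) * s⁻¹) * g'⁻¹ := by rw [← c4]; group
    _ = _ := by rw [← conj_pow, a5, ← c4]; group

end

theorem exists_N {k : G} (hk : k * (f * f) * k⁻¹ ∈ Cx (φ (o 12))) :
    ∃ N : Subgroup G, N ≤ Cx (φ (o 12)) ∧ Cx (φ (o 12)) ≤ normalizer (N : Set G) ∧
      k * (f * f) * k⁻¹ ∈ N ∧ N ⊓ (S ⊓ Cx (φ (o 12))) ≤ J := by
  obtain ⟨N, a1, a2, -, a3, a4⟩ := k3 (Z := ⊥) (h.sylP d) (le_inf h.JS (h.JC d _)) (h.idxP d)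
    (fun g hg x hx e => by
      by_contra hn
      have b1 : g * x * g⁻¹ ∈ Q := by
        by_contra hq
        have := h.cube d e.1 hn hq
        rw [conj_pow, h.J3 x hx] at this
        rcases this with a | a
        · exact h.z1 (by simpa using a.symm)
        · exact h.z1 (by simpa using a.symm)
      obtain ⟨m, -, b2⟩ := (h.sylA d c b1 hn e.2).exists_cj_le (isPGroup_cj g h.pJ)
        (cj_le_iff.2 fun y hy => mem_inf.2 ⟨mul_mem (mul_mem hg (h.JC d _ hy)) (inv_mem hg),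
          conj_mem_Cx.2 (mem_Cx.2 (h.Jc y hy x hx))⟩)
      rw [← cj_mul] at b2
      replace b2 := b2.trans inf_le_right
      exact h.JQ (h.wc d (b2.trans h.QS) ▸ b2))
    bot_le (by simp) (by simp) hk (by rw [conj_mul, h.tt d]; simp) fun g hg x hx hx' e => by
      have b1 : g * k * (f * f) * (g * k)⁻¹ = g * (k * (f * f) * k⁻¹) * g⁻¹ := by group
      have b2 := mul_mem (mul_mem hg hk) (inv_mem hg)
      rw [← b1] at e b2
      by_cases hq : x ∈ Q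
      · exact h.invx d c hq hx' hx.2 b2 e
      refine h.invz d c b2 ?_
      have b3 := congrArg (· ^ 3) e
      simp only [conj_pow, inv_pow] at b3
      rcases h.cube d hx.1 hx' hq with a | a <;> rw [a] at b3
      · exact b3
      · exact inv_injective (conj_inv.trans b3)
  exact ⟨N, a1, a2, a3, a4⟩

theorem fixY {g : G} (hg : g ∈ normalizer (J : Set G)) (h1 : g ∈ Cx (φ (o 12))) :
    ∃ A ∈ tS, Act φ g (tm A) := by
  obtain ⟨W, a1, U, a2, w, a3, b, a4⟩ := h.actM d c hg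
  obtain ⟨A, a5, a6⟩ := (by decide +kernel : ∀ E ∈ tE, ∀ W ∈ tW, ∀ U ∈ tU, ∀ w ∈ wH, ∀ b,
    tm W (tm U (sg b (wv [E, tN] w (o 12)))) = o 12 →
    ∃ A ∈ tS, ∀ v, tm W (tm U (sg b (wv [E, tN] w v))) = tm A v) E c.mE W a1 U a2 w a3 b
    (a4.fix d.inj h1)
  exact ⟨A, a5, a4.congr a6⟩

theorem cY : Cx (φ (o 12)) ≤ normalizer (J : Set G) := by
  have am := aw d wG
  have mM := h.wM d wG
  generalize wg [q, f, n] wG = m at am mM
  have am' := am.inv (β := tm tG) (by decide +kernel)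
  have at1 : Act φ (m * (f * f) * m⁻¹) (tm tT1) := ((am.mul (aT d)).mul am').congr (by decide +kernel)
  have an1 : Act φ (m * n * m⁻¹) (tm tN1) := ((am.mul d.an).mul am').congr (by decide +kernel)
  obtain ⟨N, n1, n2, n3, n4⟩ := h.exists_N d c (at1.mem_Cx (by decide +kernel))
  have uu : m * (f * f) * m⁻¹ * (m * (f * f) * m⁻¹) = 1 := by rw [conj_mul, h.tt d]; simp
  have vv : m * n * m⁻¹ * (m * n * m⁻¹) = 1 := by rw [conj_mul, h.nn d]; simp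
  have uv : m * (f * f) * m⁻¹ * (m * n * m⁻¹) = m * n * m⁻¹ * (m * (f * f) * m⁻¹) := by
    rw [conj_mul, conj_mul, mem_Cx.1 (nt d)]
  generalize m * (f * f) * m⁻¹ = u at *
  generalize m * n * m⁻¹ = v at *
  have JY := h.JC d (o 12)
  have qY : q ∈ Cx (φ (o 12)) := d.aq.mem_Cx (by decide +kernel)
  have vN : v ∈ N := by
    have a1 := h.triv d ((((d.aq.inv (β := (tm tQ)^[2]) (by decide +kernel)).mul at1).mul d.aq).mul an1)
      (by decide +kernel)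
    rw [← conj_of_cube (a := q⁻¹ * u * q) (by
      calc _ = q⁻¹ * (u * u) * q := by group
        _ = 1 := by rw [uu]; simp) vv (h.J3 _ a1)]
    exact conj_mem_of_mem_normalizer (n2 (JY a1)) (conj_mem_of_mem_normalizer' (n2 qY) n3)
  let V3 : Subgroup V := sub In3 (by decide +kernel)
  have g3 : ∀ {K : Subgroup G}, J ≤ normalizer (K : Set G) → u ∈ K → v ∈ K → V3.map φ ≤ K := by
    rintro K a1 a2 a3 _ ⟨x, hx, rfl⟩
    have k : ∀ {g α} (y : V), Act φ g α → g ∈ K → φ (α y * y⁻¹) ∈ K := fun y a b => by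
      rw [map_mul, ← a, map_inv, mul_assoc, mul_assoc, ← mul_assoc (φ y)]
      exact mul_mem b (conj_mem_of_mem_normalizer (a1 (φJ d y)) (inv_mem b))
    refine map_mem_of_sp φ (gs := [tm tT1 (o 49) * (o 49)⁻¹, tm tT1 (o 77) * (o 77)⁻¹,
      tm tN1 (o 55) * (o 55)⁻¹]) (D := 3) ?_ ((by decide +kernel : ∀ x : V, In3 x →
        bit (sp [tm tT1 (o 49) * (o 49)⁻¹, tm tT1 (o 77) * (o 77)⁻¹,
          tm tN1 (o 55) * (o 55)⁻¹] 3) x.v = true) x hx)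
    simp only [List.forall_mem_cons]
    exact ⟨k _ at1 a2, k _ at1 a2, k _ an1 a3, by simp⟩
  have J3 : V3.map φ ≤ J := by rintro _ ⟨x, -, rfl⟩; exact φJ d x
  have JP : J ≤ S ⊓ Cx (φ (o 12)) := le_inf h.JS JY
  have nJ : ∀ {A : Subgroup G} {g}, V3.map φ ≤ A → A ≤ J → g ∈ Cx (φ (o 12)) →
      g ∈ normalizer (A : Set G) → g ∈ normalizer (J : Set G) := fun a1 a2 a3 a4 =>
    h.normP d c (v := o 55) (by decide +kernel) a3 (a2 (conj_mem_of_mem_normalizer a4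
      (a1 ⟨_, (by decide +kernel : In3 (o 55)), rfl⟩)))
  have s1 := (h.sylP d).inf_of_le_normalizer n2
  rw [inf_eq_right.2 n1, inf_comm] at s1
  have N3 := le_inf (g3 (JY.trans n2) n3 vN) (J3.trans JP)
  obtain ⟨K, k1, k2, k3, -, k4⟩ := exists_transfer s1 (fun x hx y hy => h.Jc x (n4 hx) y (n4 hy)) N3
    fun g a b x hx => by
      obtain ⟨A, a1, a2⟩ := h.fixY d c (nJ N3 n4 (n1 a) b) (n1 a)
      obtain ⟨y, rfl⟩ := (d.rng _).1 (n4 hx)
      exact ⟨_, (by decide +kernel : ∀ A ∈ tS, ∀ y, In3 (tm A y * y⁻¹)) A a1 y, by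
        rw [a2, map_mul, map_inv]⟩
  have o2 : ∀ {x : G}, x * x = 1 → (orderOf x).Coprime 3 := fun {x} a =>
    Nat.Coprime.coprime_dvd_left (orderOf_dvd_of_pow_eq_one (n := 2) (by rwa [pow_two])) (by norm_num)
  have uK := k4 u n3 (o2 uu)
  have vK := k4 v vN (o2 vv)
  have YK := n2.trans k2
  have KY := k1.trans n1
  have K3 : S ⊓ Cx (φ (o 12)) ⊓ K = V3.map φ := le_antisymm
    (fun x hx => k3 ⟨hx.2, k1 hx.2, hx.1⟩) (le_inf (J3.trans JP) (g3 (JY.trans YK) uK vK))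
  have s2 := (h.sylP d).inf_of_le_normalizer YK
  rw [inf_eq_right.2 KY, K3] at s2
  have JK : ∀ x ∈ J, x ∈ K → x ∈ V3.map φ := fun x a b => K3 ▸ ⟨JP a, b⟩
  have n3' : ∀ g ∈ K, g ∈ normalizer (J : Set G) → g ∈ normalizer ((V3.map φ : Subgroup G) : Set G) :=
    fun g a b => mem_normalizer_of_forall fun x hx => JK _ (conj_mem_of_mem_normalizer b (J3 hx))
      (mul_mem (mul_mem a (s2.le hx)) (inv_mem a))
  have no3 : ∀ {g α}, g ∈ K → g ∈ normalizer (J : Set G) → Act φ g α → Bas α^[3] (fun v => v) →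
      Bas α fun v => v := fun {g α} a1 a2 a3 a4 => by
    have b1 := actJ d (J3 (zpowers_le.1 (s2.le_of_normalizes (isPGroup_zpowers_of_pow (k := 2) (by
      rw [pow_two, pow_mul]; exact h.J3 _ (h.triv d (a3.pow 3) a4))) (zpowers_le.2 a1)
      (zpowers_le.2 (n3' g a1 a2)))))
    exact ⟨a3.ext d.inj b1 _, a3.ext d.inj b1 _, a3.ext d.inj b1 _, a3.ext d.inj b1 _⟩
  have cm : ∀ x y : V, φ x * φ y = φ y * φ x := fun x y => h.Jc _ (φJ d x) _ (φJ d y)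
  have iv : ∀ {g α x}, Act φ g α → α x = x⁻¹ → g * φ x * g⁻¹ = (φ x)⁻¹ := fun a b => by
    rw [a, b, map_inv]
  have fin := e27 (a := φ (o 49)) (b := φ (o 77)) (c := φ (o 55)) s2 (by
      rw [card_map_of_injective d.inj, card_sub]; decide +kernel)
    (le_antisymm (by
      rintro _ ⟨x, hx, rfl⟩
      refine map_mem_of_sp φ (gs := [o 49, o 77, o 55]) (D := 3) ?_ ((by decide +kernel : ∀ x : V,
        In3 x → bit (sp [(o 49 : V), o 77, o 55] 3) x.v = true) x hx)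
      simp only [List.forall_mem_cons]
      exact ⟨subset_closure (by simp), subset_closure (by simp), subset_closure (by simp), by simp⟩)
      ((closure_le _).2 (by
        rintro _ (rfl | rfl | rfl) <;> exact mem_map_of_mem φ (show In3 _ by decide +kernel))))
    (h.J3 _ (φJ d _)) (h.J3 _ (φJ d _)) (h.J3 _ (φJ d _)) (cm _ _) (cm _ _) (cm _ _)
    (by
      rintro _ ⟨x, hx, rfl⟩ x1 g hg
      exact n3' g hg.1 (h.cP d c ((by decide +kernel : ∀ x, In3 x → x ≠ 1 → ¬ InY x) x hx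
        fun e => x1 (by rw [e, map_one])) (KY hg.1) hg.2))
    uK vK (iv at1 (by decide +kernel)) (iv at1 (by decide +kernel))
    (mem_Cx'.1 (at1.mem_Cx (by decide +kernel))) (mem_Cx'.1 (an1.mem_Cx (by decide +kernel)))
    (iv an1 (by decide +kernel)) (iv an1 (by decide +kernel)) (fun g hg => by
      have a1 := nJ le_rfl J3 (KY hg.1) hg.2
      obtain ⟨A, a2, a3⟩ := h.fixY d c a1 (KY hg.1)
      have qJ := h.SN (h.QS d.qQ)
      rcases (by decide +kernel : ∀ A ∈ tS, (∃ i ∈ [0, 1], ∃ j ∈ [0, 1],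
        Bas (tm A) fun v => (tm tT1)^[i] ((tm tN1)^[j] v)) ∨
        (Bas (tm A)^[3] (fun v => v) ∧ ¬ Bas (tm A) fun v => v) ∨
        (Bas (fun v => tm A (tm tQ ((tm A)^[3] ((tm tQ)^[2] v))))^[3] (fun v => v) ∧
          ¬ Bas (fun v => tm A (tm tQ ((tm A)^[3] ((tm tQ)^[2] v)))) fun v => v)) A a2 with
        ⟨i, -, j, -, a⟩ | a | a
      · have b1 : u ^ i * v ^ j ∈ closure {u, v} :=
          mul_mem (pow_mem (subset_closure (by simp)) i) (pow_mem (subset_closure (by simp)) j)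
        exact (mul_mem_cancel_left (inv_mem (mem_sup_right b1))).1 (mem_sup_left (JK _
          (h.same d a3 ((at1.pow i).mul (an1.pow j)) a)
          (mul_mem (inv_mem (mul_mem (pow_mem uK i) (pow_mem vK j))) hg.1)))
      · exact absurd (no3 hg.1 a1 a3 a.1) a.2
      · refine absurd (no3 ?_ (mul_mem a1 (mul_mem qJ (mul_mem (pow_mem a1 3) (pow_mem qJ 2))))
          (a3.mul (d.aq.mul ((a3.pow 3).mul (d.aq.pow 2)))) a.1) a.2
        rw [show q ^ 2 = q⁻¹ from eq_inv_of_mul_eq_one_left (by rw [← pow_succ, h.Q3 q d.qQ]),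
          ← mul_assoc q]
        exact mul_mem hg.1 (conj_mem_of_mem_normalizer (YK qY) (pow_mem hg.1 3)))
    uu vv uv
  intro g hg
  have b55 : φ (o 55) ∈ V3.map φ := mem_map_of_mem φ (show In3 _ by decide +kernel)
  exact h.normP d c (v := o 55) (by decide +kernel) hg (J3 (zpowers_le.1 (s2.le_of_normalizes
    (isPGroup_zpowers_of_pow (k := 1) (by rw [conj_pow, pow_one, h.J3 _ (φJ d _)]; simp))
    (zpowers_le.2 (conj_mem_of_mem_normalizer (YK hg) (s2.le b55)))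
    (zpowers_le.2 (fin (conj_mem_of_mem_normalizer (YK hg) (s2.le b55)))))))

end Hyp

end CfsgLib.McLRec.Three
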