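import Mathlib
import Cfsg.Agent.Lib.McLRec.T6
import Cfsg.Agent.Lib.McLRec.Main
import Cfsg.Agent.Lib.Rec3.A8

/-!
The 3-local characterisation of the McLaughlin group: the centraliser of the involution `t`.
-/

set_option autoImplicit false
set_option maxHeartbeats 400000
set_option linter.unusedSectionVars false
set_option synthInstance.maxSize 4096

namespace CfsgLib.McLRec.Three

open Subgroup Cfsg CfsgLib.Tech CfsgLib.W2 CfsgLib.Rec3 TG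

/-- the parity of an element of `3 : S₅` -/
noncomputable def dl (m : A8.H0) : ℕ := Bool.rec 0 1 (A8.od (Nat.div m.v 3))

theorem exists_psi {K : Type*} [Group K] {ζ a : K} {ε : S25 →* K} (h1 : ε m1 = 1) (h2 : ζ ^ 3 = 1)
    (h3 : a * a = 1) (h4 : a * ζ * a⁻¹ = ζ⁻¹) (h5 : ∀ s, ζ * ε s = ε s * ζ)
    (h6 : ∀ s, a * ε s * a⁻¹ = ε (tau s)) :
    ∃ ψ : A8.H0 →* K, (∀ m, ψ m = ζ ^ Nat.mod m.v 3 * ε (sig (Nat.div m.v 3)) * a ^ dl m) ∧
      ψ A8.z0 = ζ ∧ ψ A8.a0 = a ∧ ψ A8.p0 = ε x0 ∧ ψ A8.b0 = ε e0 ∧ ∀ s, ε s ∈ ψ.range := by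
  have k1 : ∀ (c c' δ δ' : ℕ) s s', δ ∈ [0, 1] → ζ ^ c * ε s * a ^ δ * (ζ ^ c' * ε s' * a ^ δ') =
      ζ ^ (c + (1 + δ) * c') * ε (s * tau^[δ] s') * a ^ (δ + δ') := fun c c' δ δ' s s' hδ => by
    have b1 : a ^ δ * ζ ^ c' * (a ^ δ)⁻¹ = ζ ^ ((1 + δ) * c') ∧
        a ^ δ * ε s' * (a ^ δ)⁻¹ = ε (tau^[δ] s') := by
      simp only [List.mem_cons, List.not_mem_nil, or_false] at hδ
      rcases hδ with rfl | rfl
      · simp
      · refine ⟨?_, by simpa using h6 s'⟩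
        rw [pow_one, ← conj_pow, h4, pow_mul]
        exact congrArg (· ^ c') (eq_inv_of_mul_eq_one_left (by rw [← pow_succ, h2])).symm
    calc _ = ζ ^ c * (ε s * (a ^ δ * ζ ^ c' * (a ^ δ)⁻¹)) * (a ^ δ * ε s' * (a ^ δ)⁻¹) *
          (a ^ δ * a ^ δ') := by group
      _ = _ := by
        rw [b1.1, b1.2, ← ((show Commute ζ (ε s) from h5 s).pow_left _).eq, pow_add, pow_add, map_mul]
        simp only [mul_assoc]
  have k2 : ∀ {s s'}, s = s' ∨ s = s' * m1 → ε s = ε s' := by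
    rintro _ _ (rfl | rfl) <;> simp [h1]
  have k3 : a ^ 2 = 1 := by rwa [pow_two]
  let ψ := homOf A8.gen0 (fun m => ζ ^ Nat.mod m.v 3 * ε (sig (Nat.div m.v 3)) * a ^ dl m)
    (by show ζ ^ 0 * ε (sig 0) * a ^ 0 = 1
        rw [(by decide +kernel : sig 0 = 1)]; simp) fun g hg m => by
      obtain ⟨e0, e1, e2, e3⟩ := (by decide +kernel : ∀ g ∈ [A8.z0, A8.p0, A8.a0, A8.b0, A8.v0],
        ∀ m : A8.H0, dl m ∈ [0, 1] ∧
          Nat.mod (m * g).v 3 = (Nat.mod m.v 3 + (1 + dl m) * Nat.mod g.v 3) % 3 ∧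
          (sig (Nat.div (m * g).v 3) = sig (Nat.div m.v 3) * tau^[dl m] (sig (Nat.div g.v 3)) ∨
            sig (Nat.div (m * g).v 3) = sig (Nat.div m.v 3) * tau^[dl m] (sig (Nat.div g.v 3)) * m1) ∧
          dl (m * g) = (dl m + dl g) % 2) g hg m
      rw [k1 _ _ _ _ _ _ e0, e1, k2 e2, e3, ← pow_eq_pow_mod _ h2, ← pow_eq_pow_mod _ k3]
  have k4 : ∀ (m : A8.H0) (c δ : ℕ) s, Nat.mod m.v 3 = c ∧ dl m = δ ∧ (sig (Nat.div m.v 3) = s ∨
      sig (Nat.div m.v 3) = s * m1) → ψ m = ζ ^ c * ε s * a ^ δ := fun m c δ s e => by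
    rw [← e.1, ← e.2.1, ← k2 e.2.2]; rfl
  refine ⟨ψ, fun _ => rfl, by simpa using k4 _ 1 0 1 (by decide +kernel),
    by simpa using k4 _ 0 1 1 (by decide +kernel), by simpa using k4 _ 0 0 x0 (by decide +kernel),
    by simpa using k4 _ 0 0 e0 (by decide +kernel), fun s => ?_⟩
  obtain ⟨m, e⟩ := (by decide +kernel : ∀ s, ∃ m : A8.H0, Nat.mod m.v 3 = 0 ∧ dl m = 0 ∧
    (sig (Nat.div m.v 3) = s ∨ sig (Nat.div m.v 3) = s * m1)) s
  exact ⟨m, by simpa using k4 m 0 0 s e⟩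

theorem cover_of {C K : Type*} [Group C] [Group K] {π : C →* K} (hs : Function.Surjective π) {t e : C}
    (ht : orderOf t = 2) (hc : ∀ x, x * t = t * x) (hk : ∀ x, π x = 1 ↔ x ∈ zpowers t)
    (hK : center K = ⊥) (he : e * e = t) : IsNonsplitDoubleCover C K := by
  have h1 : center C = π.ker := le_antisymm (fun x hx => mem_bot.1 (hK ▸ mem_center_iff.2 fun y => by
      obtain ⟨y, rfl⟩ := hs y
      rw [← map_mul, mem_center_iff.1 hx y, map_mul]))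
    fun x hx => (zpowers_le.2 (mem_center_iff.2 hc) : _ ≤ center C) ((hk x).1 hx)
  have h2 : center C = zpowers t := h1.trans (Subgroup.ext hk)
  refine ⟨by rw [h2, Nat.card_zpowers, ht], ⟨(QuotientGroup.quotientMulEquivOfEq h1).trans
    (QuotientGroup.quotientKerEquivOfSurjective π hs)⟩, fun L hL => ?_⟩
  obtain ⟨⟨c, l⟩, rfl⟩ := hL.2 e
  have h3 : (c : C) * c = 1 := by
    obtain ⟨i, e⟩ := h2.le c.2
    rw [← e, ← pow_two, ← zpow_natCast, ← zpow_mul, mul_comm, zpow_mul, zpow_natCast, ← ht,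
      pow_orderOf_eq_one, one_zpow]
  have h4 : t = l * l := by
    rw [← he]
    calc _ = (c : C) * ((l : C) * c) * l := by simp only [mul_assoc]
      _ = _ := by rw [mem_center_iff.1 c.2 l, ← mul_assoc, h3, one_mul]
  exact ne_one_of_ord ht (disjoint_def.1 hL.disjoint (mem_center_iff.2 hc) (h4 ▸ mul_mem l.2 l.2))

variable {G : Type*} [Group G] [Finite G]

theorem lift3 {K : Type*} [Group K] {t : G} (ht : t * t = 1) {π : Cx t →* K}
    (hk : ∀ x : Cx t, π x = 1 ↔ (x : G) ∈ zpowers t) {x y : G} {a : K} (hx : Im π x a) (hy : Im π y a)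
    (x3 : x ^ 3 = 1) (y3 : y ^ 3 = 1) : x = y := by
  obtain ⟨i, e⟩ := (hk ⟨_, (hy.inv.mul hx).mem⟩).1 ((hy.inv.mul hx).2.trans (inv_mul_cancel a))
  have e' : x = y * t ^ i := by rw [show t ^ i = y⁻¹ * x from e]; group
  have c : Commute y (t ^ i) := Commute.zpow_right (mem_Cx.1 hy.mem) i
  rw [e', c.mul_pow, y3, one_mul] at x3
  rw [e', eq_one_of_sq x3 (by rw [← (Commute.refl t).mul_zpow, ht, one_zpow]), mul_one]

namespace Hyp

variable {S J Q M L T : Subgroup G} {z q f n e : G} {θ : M →* PG 6} {η : L →* S25} {φ : V →* G}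
  {E : ℕ} (h : Hyp S J Q M L z θ η) (d : Dat S J Q M z φ q f n T) (c : Dat2 S L T η φ f n e E)
include h d c

omit c in
theorem ot : orderOf (f * f) = 2 := ord_two (h.tt d) fun e =>
  absurd ((aT d).ext d.inj (e ▸ actJ d (one_mem J)) (o 3)) (by decide +kernel)

omit h c in
theorem TC {x : G} (hx : x ∈ T) : x ∈ Cx (f * f) := (d.sylT.le hx).2

omit h c in
theorem DC {v : V} (hv : tm tT v = v) : φ v ∈ Cx (f * f) := Cx_comm.1 ((aT d).mem_Cx hv)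

theorem ee : e * e = f * f := h.eqT d (c.ae.mul c.ae) (aT d) (mul_mem c.eT c.eT) (mul_mem d.fT d.fT)
  ((by decide +kernel : ∀ E ∈ tE, Bas (fun v => tm E (tm E v)) (tm tT)) E c.mE)

theorem exists_eps : ∃ ε : S25 →* G, (∀ s, Im η (ε s) s ∧ ε s ∈ Cx (f * f)) ∧ ε x0 = φ (o 27) ∧
    ε e0 = e ∧ ε m1 = f * f := by
  have z'C := DC d (v := o 27) (by decide +kernel)
  have zC := Cx_comm.1 (tz d)
  have k : ∀ {x}, x ∈ zpowers z → Im η x 1 ∧ x ∈ Cx (f * f) := fun a =>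
    ⟨(h.ηk _).2 (h.ZQ a), (zpowers_le.2 zC : _ ≤ Cx _) a⟩
  obtain ⟨w₀, a1⟩ := h.ηs w0
  obtain ⟨g, a2, a3⟩ := h.exists_c d (Cx_le_norm z (h.Lz a1.mem))
  have a4 := (((h.ηk g).2 a2).mul a1).of_eq (one_mul _)
  have a5 : ((g * w₀) ^ 6) ^ 5 = 1 := by
    have := h.Q3 _ ((h.ηk _).1 ((a4.pow 5).of_eq (by decide +kernel)))
    rw [← pow_mul] at this ⊢
    rw [show 6 * 5 = 5 * 3 * 2 from rfl, pow_mul, this, one_pow]
  have a6 : Im η ((g * w₀) ^ 6) w0 := (a4.pow 6).of_eq (by decide +kernel)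
  replace a3 := pow_mem a3 6
  generalize (g * w₀) ^ 6 = w at a3 a5 a6
  have b1 := h.memZ d ((h.ηk _).1 ((((c.ηz.mul a6).pow 2).mul c.ηt.inv).of_eq (by decide +kernel)))
    (mul_mem (pow_mem (mul_mem z'C a3) 2) (inv_mem (mem_Cx.2 rfl)))
  generalize hζ : (φ (o 27) * w) ^ 2 * (f * f)⁻¹ = ζ at b1
  have b2 : ∀ {x a}, Im η x a → Commute ζ x := fun a => (h.cen (h.Lz a.mem) b1).symm
  obtain ⟨⟨ε, e1, e2⟩, -⟩ := exists_hom25 (x := ζ * φ (o 27)) (w := w) (z := f * f)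
    (by rw [(b2 c.ηz).mul_pow, zp_cube h.zz b1, h.J3 _ (φJ d _), one_mul]) a5
    (by rw [pow_two, h.tt d]) (mem_Cx.1 (mul_mem (k b1).2 z'C)).symm (mem_Cx.1 a3).symm (by
      rw [mul_assoc, (b2 (c.ηz.mul a6)).mul_pow, eq_mul_of_mul_inv_eq hζ, ← mul_assoc, ← pow_succ,
        zp_cube h.zz b1, one_mul])
  have e3 : ∀ s, Im η (ε s) s ∧ ε s ∈ Cx (f * f) := ind_of_genB gen25
    (by rw [map_one]; exact ⟨Im.one, one_mem _⟩) fun s a g hg => by
      simp only [List.mem_cons, List.not_mem_nil, or_false] at hg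
      rw [map_mul]
      rcases hg with rfl | rfl
      · rw [e1]
        exact ⟨a.1.mul (((k b1).1.mul c.ηz).of_eq (one_mul _)), mul_mem a.2 (mul_mem (k b1).2 z'C)⟩
      · rw [e2]; exact ⟨a.1.mul a6, mul_mem a.2 a3⟩
  have e4 : ∀ {x s}, Im η x s → x ∈ Cx (f * f) → x ^ 4 = 1 → s ^ 4 = 1 → ε s = x := fun {x s} a b x4 s4 => by
    have b3 := h.memZ d ((h.ηk _).1 (((e3 s).1.mul a.inv).of_eq (mul_inv_cancel s)))
      (mul_mem (e3 s).2 (inv_mem b))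
    have b4 : Commute (ε s * x⁻¹) x := (h.cen (h.Lz a.mem) b3).symm
    have b5 := b4.mul_pow 4
    rw [inv_mul_cancel_right, ← map_pow, s4, map_one, x4, pow_succ, zp_cube h.zz b3] at b5
    exact mul_inv_eq_one.1 (by simpa using b5.symm)
  have e5 : ε e0 = e := e4 c.ηe (TC d c.eT) (by
    rw [show 4 = 2 * 2 from rfl, pow_mul, pow_two, pow_two, h.ee d c, h.tt d]) (by decide +kernel)
  refine ⟨ε, e3, ?_, e5, e4 c.ηt (mem_Cx.2 rfl) (by
    rw [show 4 = 2 * 2 from rfl, pow_mul, pow_two, pow_two, h.tt d, one_mul]) (by decide +kernel)⟩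
  have e6 := W2.Rel.conj ε e0 x0
  rw [W2.Rel, (by decide +kernel : e0 * x0 * e0⁻¹ = x0⁻¹), map_inv, e5, e1, ← conj_mul, c.ae,
    (by decide +kernel : ∀ E ∈ tE, tm E (o 27) = (o 27)⁻¹) E c.mE, map_inv, ← (b2 c.ηe).eq,
    mul_inv_cancel_right, mul_inv_rev, (b2 c.ηz.inv).eq] at e6
  rw [e1, eq_one_of_sq (zp_cube h.zz b1) (by nth_rw 1 [mul_left_cancel e6]; simp), one_mul]

section

variable {ε : S25 →* G} (he : ∀ s, Im η (ε s) s ∧ ε s ∈ Cx (f * f))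
include he

omit c in
theorem memL {g : G} (h1 : g ∈ L) (h2 : g ∈ Cx (f * f)) : ∃ (i : ℕ) (s : S25), g = z ^ i * ε s := by
  obtain ⟨s, a⟩ := Im.of_mem η h1
  rcases zp3_cases h.zz (h.memZ d ((h.ηk _).1 ((a.mul (he s).1.inv).of_eq (mul_inv_cancel s)))
    (mul_mem h2 (inv_mem (he s).2))) with b | b | b
  · exact ⟨0, s, by rw [eq_mul_of_mul_inv_eq b, pow_zero]⟩
  · exact ⟨1, s, by rw [eq_mul_of_mul_inv_eq b, pow_one]⟩
  · exact ⟨2, s, by rw [eq_mul_of_mul_inv_eq b,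
      eq_inv_of_mul_eq_one_left (show z ^ 2 * z = 1 by rw [← pow_succ, h.zz])]⟩

omit c in
theorem actE (hm : ε m1 = f * f) {g : G} (h1 : g ∈ normalizer (zpowers z : Set G))
    (h2 : g ∈ Cx (f * f)) (h3 : g ∈ Cx (ε x0)) : (g * ε e0 * g⁻¹ = ε e0 → ∀ s, g * ε s * g⁻¹ = ε s) ∧
      (g * ε e0 * g⁻¹ = (ε e0)⁻¹ → ∀ s, g * ε s * g⁻¹ = ε (tau s)) := by
  have inj : Function.Injective ε := fun a b e => (he a).1.uniq (e ▸ (he b).1)
  obtain ⟨i, w, a1⟩ := h.memL d he (conj_mem_of_mem_normalizer (h.NL h1) (he w0).1.mem)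
    (mul_mem (mul_mem h2 (he w0).2) (inv_mem h2))
  have a2 : (z ^ i * ε w) ^ 5 = 1 := by
    rw [← a1, conj_pow, ← map_pow, (by decide +kernel : w0 ^ 5 = 1)]; simp
  have a3 : w ^ 5 = 1 := by
    simpa using ((((h.ηk _).2 (pow_mem h.zQ i)).mul (he w).1).pow 5).eq_one a2
  rw [((show Commute z (ε w) from (mem_Cx.1 (h.Lz (he w).1.mem)).symm).pow_left i).mul_pow,
    ← map_pow, a3, map_one, mul_one, show 5 = 3 + 2 from rfl, pow_add,
    zp_cube h.zz (pow_mem (mem_zpowers z) i), one_mul, pow_two] at a2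
  rw [eq_one_of_sq (zp_cube h.zz (pow_mem (mem_zpowers z) i)) a2, one_mul] at a1
  have rx : W2.Rel ε g x0 x0 := mem_Cx'.1 h3
  have rw' : W2.Rel ε g w0 w := a1
  have a4 : (x0 * w) * (x0 * w) = m1 := ((rx.mul rw').mul (rx.mul rw')).uniq inj (p' := m1)
    (mem_Cx'.1 (hm ▸ h2)) (by decide +kernel)
  have a5 := (((((((rw'.mul rx).mul rx).mul rw').mul rw').mul rx).mul rx).mul rw').mul rw'
  have k : ∀ α : S25 →* S25, α x0 = x0 → α w0 = w → ∀ s, g * ε s * g⁻¹ = ε (α s) := fun α b1 b2 =>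
    ind_of_genB gen25 (by simp) fun s a x hx => by
      simp only [List.mem_cons, List.not_mem_nil, or_false] at hx
      rw [map_mul, map_mul, map_mul, ← conj_mul, a]
      rcases hx with rfl | rfl
      · rw [b1, rx]
      · rw [b2, rw']
  have k2 := (by decide +kernel : ∀ w : S25, w ^ 5 = 1 → x0 * w * (x0 * w) = m1 →
    (w * x0 * x0 * w * w * x0 * x0 * w * w = e0 → w0 = w) ∧
    (w * x0 * x0 * w * w * x0 * x0 * w * w = e0⁻¹ → tau w0 = w)) w a3 a4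
  exact ⟨fun e => k (MonoidHom.id _) rfl (k2.1 (a5.uniq inj (p' := e0) e (by decide +kernel))),
    fun e => k tau (by decide +kernel) (k2.2 (a5.uniq inj (p' := e0) (e.trans (map_inv ε _).symm)
      (by decide +kernel)))⟩

end

theorem dec16 {g : G} (h1 : g ∈ normalizer (S : Set G)) (h2 : g ∈ Cx (f * f)) :
    ∃ w ∈ wH, ∃ b k, k ∈ Cx (f * f) ∧ Act φ k (sg b) ∧ g = k * wg [e, n] w := by
  obtain ⟨w, a1, b, a2⟩ := c.h16 g h1 h2
  have a3 : wg [e, n] w ∈ T := wg_mem (by simp [c.eT, d.nT]) w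
  have a4 : Act φ (wg [e, n] w) (wv [E, tN] w) := Act.wd (by simp [c.ae, d.an]) w
  refine ⟨w, a1, b, g * (wg [e, n] w)⁻¹, mul_mem h2 (inv_mem (TC d a3)), fun v => ?_, by group⟩
  obtain ⟨u, a5⟩ := (d.rng _).1 (conj_mem_of_mem_normalizer' (d.sylT.le a3).1 (φJ d v))
  rw [← a4.eq d.inj (u := u) (v := v) (by rw [a5]; group), ← a2, ← a4]; group

theorem H3 {H : Subgroup G} (h1 : L ⊓ Cx (f * f) ≤ H) (h2 : n * e * n⁻¹ ∈ H)
    (h3 : ∀ k ∈ Cx (f * f), Act φ k (sg true) → k ∈ H) {g : G}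
    (a1 : g ∈ normalizer (zpowers z : Set G)) (a2 : g ∈ Cx (f * f)) : g ∈ H := by
  have JL := h.JS.trans h.SL
  obtain ⟨l, b1, b2⟩ := ((h.sylD d).of_le (inf_le_inf_right _ JL) inf_le_right).frattini
    (inf_normalizer_le_normalizer_inf ⟨h.NL a1, le_normalizer a2⟩)
  obtain ⟨w, b3, b, k, b4, b5, b6⟩ := h.dec16 d c (h.normS (mul_mem (Cx_le_norm z (h.Lz b1.1)) a1)
    (h.JS (φJ d _)) (h.z'Q d) (h.JS (conj_mem_of_mem_normalizer b2
      ⟨φJ d _, DC d (by decide +kernel)⟩).1)) (mul_mem b1.2 a2)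
  have k0 : ∀ w, wg [e, n] w ∈ H → wg [e, n] (0 :: w) ∈ H := fun _ =>
    mul_mem (h1 ⟨c.ηe.mem, TC d c.eT⟩)
  have k1 : wg [e, n] [1, 0, 1] ∈ H := by
    simpa [wg, mul_assoc, inv_eq_of_mul_eq_one_right (h.nn d)] using h2
  refine (mul_mem_cancel_left (h1 b1)).1 (b6 ▸ mul_mem ?_ ?_)
  · cases b
    exacts [h1 ⟨JL (h.triv d b5 ⟨rfl, rfl, rfl, rfl⟩), b4⟩, h3 k b4 b5]
  · clear b6
    revert w
    simp only [wH, List.forall_mem_cons]
    have k2 : wg [e, n] [] ∈ H := H.one_mem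
    exact ⟨k2, k0 _ k2, k0 _ (k0 _ k2), k0 _ (k0 _ (k0 _ k2)), k1,
      k0 _ k1, k0 _ (k0 _ k1), k0 _ (k0 _ (k0 _ k1)), by simp⟩

theorem cY' {g : G} (hg : g ∈ Cx (φ (o 28))) : g ∈ normalizer (J : Set G) := by
  have a := h.MJ (h.wM d wG)
  refine (mul_mem_cancel_left a).1 ((mul_mem_cancel_right (inv_mem a)).1 (h.cY d c ?_))
  rwa [← (by decide +kernel : wv tb3 wG (o 28) = o 12), ← aw d, conj_mem_Cx]

omit c in
theorem nT : IsConj (f * f) n := by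
  have a := aw d [0, 0, 2, 0, 2, 0]
  generalize wg [q, f, n] [0, 0, 2, 0, 2, 0] = m at a
  refine isConj_iff.2 ⟨m * (f * f) * m⁻¹ * n * m, Eq.trans (by group) (conj_of_cube
    (a := m * (f * f) * m⁻¹) (by rw [conj_mul, h.tt d]; simp) (h.nn d) (h.J3 _ (h.triv d
      (((a.mul (aT d)).mul (a.inv (β := wv tb3 [0, 0, 2, 0, 0, 2, 0]) (by decide +kernel))).mul d.an)
      (by decide +kernel))))⟩

end Hyp

end CfsgLib.McLRec.Three
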