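import Mathlib
import Cfsg.Agent.Lib.McLRec.T7
import Cfsg.Agent.Lib.Rec3.S8c

/-!
The 3-local characterisation of the McLaughlin group: the quotient `C(t) / ⟨t⟩` is `A₈` or `S₈`.
-/

set_option autoImplicit false
set_option maxHeartbeats 400000
set_option linter.unusedSectionVars false
set_option synthInstance.maxSize 4096

namespace CfsgLib.McLRec.Three

open Subgroup Cfsg CfsgLib.Tech CfsgLib.W2 CfsgLib.Rec3 TG Equiv

theorem exists_chi {K : Type*} [Group K] {ζ ρ w : K} {ε : S25 →* K} (h1 : ε m1 = 1) (h2 : ζ ^ 3 = 1)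
    (h3 : ρ * ρ = 1) (h4 : ρ * ζ * ρ⁻¹ = ζ⁻¹) (h5 : w * w = 1) (h6 : ∀ s, w * ε s * w⁻¹ = ε (tau s))
    (c1 : ∀ s, Commute ζ (ε s)) (c2 : Commute ζ w) (c3 : ∀ s, Commute ρ (ε s)) (c4 : Commute ρ w) :
    ∃ χ : S8.H0 →* K, χ S8.z = ζ ∧ χ S8.ρ = ρ ∧ χ S8.z' = ε x0 ∧ χ S8.r = w ∧ χ S8.s = ε e0 ∧
      ∀ s, ε s ∈ χ.range := by
  obtain ⟨ψ, a0, a1, a2, -⟩ := exists_psi (ε := 1) rfl h2 h3 h4 (by simp) (by simp)
  obtain ⟨ψ', b0, -, b2, b3, b4, b5⟩ := exists_psi (ζ := 1) h1 (one_pow 3) h5 (by simp) (by simp) h6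
  let R : A8.H0 × A8.H0 →* S8.H0 := ((MonoidHom.fst _ _).comp A8.rho).prodMap
    ((MulAut.conj (PG.pl [3, 0, 1, 2, 4])).toMonoidHom.comp ((MonoidHom.snd _ _).comp A8.rho))
  let Ψ := ψ.noncommCoprod ψ' fun m m' => by
    rw [a0, b0, MonoidHom.one_apply, mul_one, one_pow, one_mul]
    exact (((c1 _).mul_right (c2.pow_right _)).pow_left _).mul_left
      (((c3 _).mul_right (c4.pow_right _)).pow_left _)
  have hR : Function.Surjective R := Function.Surjective.prodMap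
    (by decide +kernel : ∀ a, ∃ m, (A8.rho m).1 = a) (by decide +kernel : ∀ a, ∃ m,
      PG.pl [3, 0, 1, 2, 4] * (A8.rho m).2 * (PG.pl [3, 0, 1, 2, 4])⁻¹ = a)
  have hk : R.ker ≤ Ψ.ker := fun ⟨m, m'⟩ e => by
    obtain ⟨e1, e2⟩ := (by decide +kernel : ∀ m, (A8.rho m).1 = 1 → Nat.mod m.v 3 = 0 ∧ dl m = 0) m
      (congrArg Prod.fst e)
    obtain ⟨e3, e4⟩ := (by decide +kernel : ∀ m, PG.pl [3, 0, 1, 2, 4] * (A8.rho m).2 *
      (PG.pl [3, 0, 1, 2, 4])⁻¹ = 1 → dl m = 0 ∧ (sig (Nat.div m.v 3) = 1 ∨ sig (Nat.div m.v 3) = m1))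
      m' (congrArg Prod.snd e)
    show ψ m * ψ' m' = 1
    rw [a0, b0, e1, e2, e3]
    rcases e4 with e | e <;> simp [e, h1]
  have k : ∀ m m' x, R (m, m') = x → R.liftOfSurjective hR ⟨Ψ, hk⟩ x = ψ m * ψ' m' := fun m m' x e =>
    e ▸ R.liftOfRightInverse_comp_apply _ _ ⟨Ψ, hk⟩ _
  refine ⟨R.liftOfSurjective hR ⟨Ψ, hk⟩, by rw [k A8.z0 1 _ (by decide +kernel), a1]; simp,
    by rw [k A8.a0 1 _ (by decide +kernel), a2]; simp, by rw [k 1 A8.p0 _ (by decide +kernel), b3]; simp,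
    by rw [k 1 A8.a0 _ (by decide +kernel), b2]; simp, by rw [k 1 A8.b0 _ (by decide +kernel), b4]; simp,
    fun s => ?_⟩
  obtain ⟨m, e⟩ := b5 s
  exact ⟨_, by rw [k 1 m _ rfl, e]; simp⟩

theorem inj_of {X K : Type*} [Group X] [Group K] {ψ : X →* K} {a b : X} (ha : ψ a ≠ 1) (hb : ψ b ≠ 1)
    (hc : ψ (a * b) ≠ 1) (h1 : ∀ m : X, m ≠ 1 → ∃ k, (m * k * m⁻¹ * k⁻¹) ^ 3 = 1 ∧ m * k * m⁻¹ * k⁻¹ ≠ 1)
    (h2 : ∀ c : X, c ^ 3 = 1 → c ≠ 1 → ∃ l, l * a * l⁻¹ = c ∨ l * b * l⁻¹ = c ∨ l * (a * b) * l⁻¹ = c) :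
    Function.Injective ψ := (injective_iff_map_eq_one ψ).2 fun m e => by
  by_contra hm
  obtain ⟨k, e1, e2⟩ := h1 m hm
  have e3 : ∀ l x, l * x * l⁻¹ = m * k * m⁻¹ * k⁻¹ → ψ x = 1 := fun l x a => by
    simpa [e] using congrArg ψ a
  obtain ⟨l, e | e | e⟩ := h2 _ e1 e2
  exacts [ha (e3 _ _ e), hb (e3 _ _ e), hc (e3 _ _ e)]

theorem card_list {X : Type*} [Group X] [DecidableEq X] {A : Subgroup X} {P : X → Prop} {l : List X}
    (h : ∀ x, x ∈ A ↔ P x) (h1 : l.Nodup ∧ (∀ x ∈ l, P x) ∧ ∀ x, P x → x ∈ l) :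
    Nat.card A = l.length := by
  rw [← List.toFinset_card_of_nodup h1.1]
  exact Nat.subtype_card _ fun x => by rw [List.mem_toFinset, h]; exact ⟨h1.2.1 x, h1.2.2 x⟩

/-- the elements of the normaliser of `⟨z, z'⟩` in `S₃ × S₅` -/
noncomputable def l72 (k : ℕ) : List S8.H0 := (List.range k).map fun i =>
  S8.z ^ (i % 3) * S8.z' ^ (i / 3 % 3) * S8.r ^ (i / 9 % 2) * S8.ρ ^ (i / 18 % 2) * S8.ρ' ^ (i / 36)

variable {G : Type*} [Group G] [Finite G]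

theorem Im.pre {A : Type*} [Group A] {M : Subgroup G} {θ : M →* A} {g : G} {a : A} (h : Im θ g a)
    {X : Subgroup A} : g ∈ qpre θ X ↔ a ∈ X := h.2 ▸ mem_pre (x := ⟨g, h.1⟩)

/-- the quotient `C(t) / ⟨t⟩` -/
structure Kd {K : Type*} [Group K] (L : Subgroup G) (z : G) (φ : V →* G) (f n e : G)
    (π : Cx (f * f) →* K) (ε : S25 →* K) (ζ ν : K) : Prop where
  surj : ∀ a, ∃ g, Im π g a
  ker : ∀ x : Cx (f * f), π x = 1 ↔ (x : G) ∈ zpowers (f * f)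
  iz : Im π (φ (o 1)) ζ
  ix : Im π (φ (o 27)) (ε x0)
  ie : Im π e (ε e0)
  iν : Im π n ν
  m : ε m1 = 1
  memL : ∀ g ∈ L ⊓ Cx (f * f), ∃ (i : ℕ) (s : S25), Im π g (ζ ^ i * ε s)
  cen : ∀ s, ζ * ε s = ε s * ζ
  act : ∀ {g γ}, Im π g γ → g ∈ normalizer (zpowers z : Set G) → g ∈ Cx (φ (o 27)) →
    (g * e * g⁻¹ = e → ∀ s, γ * ε s * γ⁻¹ = ε s) ∧
      (g * e * g⁻¹ = e⁻¹ → ∀ s, γ * ε s * γ⁻¹ = ε (tau s))

namespace Hyp

variable {S J Q M L T : Subgroup G} {z q f n e : G} {θ : M →* PG 6} {η : L →* S25} {φ : V →* G}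
  {E : ℕ} (h : Hyp S J Q M L z θ η) (d : Dat S J Q M z φ q f n T) (c : Dat2 S L T η φ f n e E)
include h d c

theorem exists_Kd {K : Type*} [Group K] {π : Cx (f * f) →* K} (hs : Function.Surjective π)
    (hk : ∀ x : Cx (f * f), π x = 1 ↔ (x : G) ∈ zpowers (f * f)) :
    ∃ ε ζ ν, Kd L z φ f n e π ε ζ ν := by
  obtain ⟨ε, a1, a2, a3, a4⟩ := h.exists_eps d c
  have a5 : ∀ s, Im π (ε s) (π.comp (ε.codRestrict _ fun s => (a1 s).2) s) := fun s => ⟨_, rfl⟩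
  generalize π.comp (ε.codRestrict _ fun s => (a1 s).2) = ε' at a5
  obtain ⟨ζ, a6⟩ := Im.of_mem π (Cx_comm.1 (tz d))
  obtain ⟨ν, a7⟩ := Im.of_mem π (nt d)
  refine ⟨ε', ζ, ν, fun a => let ⟨g, e⟩ := hs a; ⟨g, g.2, e⟩, hk, d.φz ▸ a6, a2 ▸ a5 _, a3 ▸ a5 _, a7,
    (a4 ▸ a5 m1).uniq ⟨mem_Cx.2 rfl, (hk _).2 (mem_zpowers _)⟩, fun g hg => ?_,
    fun s => (a6.mul (a5 s)).uniq (mem_Cx.1 (h.Lz (a1 s).1.mem) ▸ (a5 s).mul a6), fun a b1 b2 => ?_⟩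
  · obtain ⟨i, s, rfl⟩ := h.memL d a1 hg.1 hg.2
    exact ⟨i, s, (a6.pow i).mul (a5 s)⟩
  · obtain ⟨b3, b4⟩ := h.actE d a1 a4 b1 a.mem (a2 ▸ b2)
    exact ⟨fun b s => (a.conj (a5 s)).uniq ((b3 (a3 ▸ b) s).symm ▸ a5 s),
      fun b s => (a.conj (a5 s)).uniq ((b4 (a3 ▸ b) s).symm ▸ a5 _)⟩

theorem aa : Act φ (n * e * n⁻¹) fun v => tm tN (tm E (tm tN v)) :=
  (d.an.mul c.ae).mul (d.an.inv (by decide +kernel))

theorem az : n * e * n⁻¹ * z * (n * e * n⁻¹)⁻¹ = z⁻¹ := by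
  rw [← φ2 d, ← d.φz, h.aa d c]
  exact congrArg φ ((by decide +kernel : ∀ E ∈ tE, tm tN (tm E (tm tN (o 1))) = o 2) E c.mE)

theorem ae : n * e * n⁻¹ * e * (n * e * n⁻¹)⁻¹ = e⁻¹ := by
  have a := mul_mem (mul_mem d.nT c.eT) (inv_mem d.nT)
  have b := h.eqT d (c.ae.mul ((h.aa d c).mul c.ae)) (h.aa d c) (mul_mem c.eT (mul_mem a c.eT)) a
    ((by decide +kernel : ∀ E ∈ tE, Bas (fun v => tm E (tm tN (tm E (tm tN (tm E v)))))
      fun v => tm tN (tm E (tm tN v))) E c.mE)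
  rw [mul_inv_eq_iff_eq_mul, eq_inv_mul_iff_mul_eq, b]

theorem iota {ι : G} (i1 : Act φ ι (sg true)) (i2 : ι ∈ T) :
    ι * ι = 1 ∧ ι * e = e * ι ∧ ι * n = n * ι :=
  ⟨h.eqT d (i1.mul i1) (actJ d (one_mem J)) (mul_mem i2 i2) (one_mem T) (by decide +kernel),
    h.eqT d (i1.mul c.ae) (c.ae.mul i1) (mul_mem i2 c.eT) (mul_mem c.eT i2) ((by decide +kernel :
      ∀ E ∈ tE, Bas (fun v => sg true (tm E v)) fun v => tm E (sg true v)) E c.mE),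
    h.eqT d (i1.mul d.an) (d.an.mul i1) (mul_mem i2 d.nT) (mul_mem d.nT i2) (by decide +kernel)⟩

section

variable {K : Type*} [Group K] [Finite K] {π : Cx (f * f) →* K} {ε : S25 →* K} {ζ ν : K}
  (k : Kd L z φ f n e π ε ζ ν)
include k

omit c in
theorem lift {g : G} {γ a b : K} {u v : V} (h1 : Im π g γ) (h2 : Im π (φ u) a) (h3 : Im π (φ v) b)
    (e : γ * a * γ⁻¹ = b) : g * φ u * g⁻¹ = φ v :=
  lift3 (h.tt d) k.ker (h1.conj h2) (e ▸ h3) (by rw [conj_pow, h.J3 _ (φJ d u)]; simp) (h.J3 _ (φJ d v))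

omit c in
theorem ne1 {v : V} {a : K} (h1 : Im π (φ v) a) (hv : v ≠ 1) : a ≠ 1 := fun e =>
  hv (d.inj ((lift3 (h.tt d) k.ker h1 (e ▸ Im.one) (h.J3 _ (φJ d v)) (one_pow 3)).trans (map_one φ).symm))

omit h d c in
theorem iD (i j : ℕ) : Im π (φ (o 1 ^ i * o 27 ^ j)) (ζ ^ i * ε x0 ^ j) := by
  rw [map_mul, map_pow, map_pow]; exact (k.iz.pow i).mul (k.ix.pow j)

omit h d c in
theorem iy : Im π (φ (o 28)) (ζ * ε x0) := by
  rw [(by decide +kernel : (o 28 : V) = o 1 * o 27), map_mul]; exact k.iz.mul k.ix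

omit h c in
theorem imD {g : G} (h1 : g ∈ J) (h2 : g ∈ Cx (f * f)) : ∃ i j : ℕ, Im π g (ζ ^ i * ε x0 ^ j) := by
  obtain ⟨v, rfl⟩ := (d.rng g).1 h1
  obtain ⟨i, -, j, -, rfl⟩ := (by decide +kernel : ∀ v, tm tT v = v → ∃ i ∈ [0, 1, 2], ∃ j ∈ [0, 1, 2],
    v = o 1 ^ i * o 27 ^ j) v ((aT d).fix d.inj (Cx_comm.1 h2))
  exact ⟨i, j, iD k i j⟩

omit c in
theorem ζ3 : ζ ^ 3 = 1 := (k.iz.pow 3).eq_one (h.J3 _ (φJ d _))

omit c in
theorem νν : ν * ν = 1 := (k.iν.mul k.iν).eq_one (h.nn d)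

omit h c in
theorem νζ : ν * ζ * ν⁻¹ = ε x0 := (k.iν.conj k.iz).uniq (by
  rw [d.an, (by decide +kernel : tm tN (o 1) = o 27)]; exact k.ix)

omit h c in
theorem νx : ν * ε x0 * ν⁻¹ = ζ := (k.iν.conj k.ix).uniq (by
  rw [d.an, (by decide +kernel : tm tN (o 27) = o 1)]; exact k.iz)

omit h d c in
theorem εe : ε e0 * ε e0 = 1 := by rw [← map_mul, ← k.m]; exact congrArg ε (by decide +kernel)

theorem αζ : ν * ε e0 * ν⁻¹ * ζ * (ν * ε e0 * ν⁻¹)⁻¹ = ζ⁻¹ :=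
  ((k.iν.conj k.ie).conj k.iz).uniq (by rw [d.φz, h.az d c, ← d.φz]; exact k.iz.inv)

theorem αε (s : S25) : ν * ε e0 * ν⁻¹ * ε s * (ν * ε e0 * ν⁻¹)⁻¹ = ε (tau s) :=
  (k.act (k.iν.conj k.ie) (norm_zp (Or.inr (h.az d c))) ((h.aa d c).mem_Cx ((by decide +kernel :
    ∀ E ∈ tE, tm tN (tm E (tm tN (o 27))) = o 27) E c.mE))).2 (h.ae d c) s

theorem nz {X : Subgroup K} (h1 : ζ ∈ X) (h2 : ∀ s, ε s ∈ X) (h3 : ν * ε e0 * ν⁻¹ ∈ X)
    (h4 : ∀ g γ, Im π g γ → Act φ g (sg true) → γ ∈ X) {γ : K}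
    (hγ : γ * ζ * γ⁻¹ = ζ ∨ γ * ζ * γ⁻¹ = ζ⁻¹) : γ ∈ X := by
  obtain ⟨g, a⟩ := k.surj γ
  refine a.pre.1 (h.H3 d c (fun l hl => ?_) ((k.iν.conj k.ie).pre.2 h3) (fun l hl b => ?_)
    (norm_zp ?_) a.mem)
  · obtain ⟨i, s, b⟩ := k.memL l hl
    exact b.pre.2 (mul_mem (pow_mem h1 i) (h2 s))
  · obtain ⟨β, b'⟩ := Im.of_mem π hl
    exact b'.pre.2 (h4 _ _ b' b)
  · rw [← d.φz, ← map_inv]
    exact hγ.imp (h.lift d k a k.iz k.iz) (h.lift d k a k.iz (map_inv φ _ ▸ k.iz.inv))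

omit c in
theorem nc : ¬ IsConj (ζ * ε x0) ζ := fun a => by
  obtain ⟨γ, a⟩ := isConj_iff.1 a.symm
  obtain ⟨g, b⟩ := k.surj γ
  exact absurd (h.X_conj d (by decide +kernel) (h.lift d k b k.iz (iy k) a)) (by decide +kernel)

omit c in
theorem n27 : ¬ 27 ∣ Nat.card K := fun a => by
  have a1 := card_mul_relIndex' (h.sylD d).le
  have a2 : J ⊓ Cx (f * f) = (sub (fun v => tm tT v = v) (by decide +kernel)).map φ :=
    le_antisymm (fun x hx => by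
      obtain ⟨v, rfl⟩ := (d.rng x).1 hx.1
      exact ⟨v, (aT d).fix d.inj (Cx_comm.1 hx.2), rfl⟩) (by
      rintro _ ⟨v, hv, rfl⟩; exact ⟨φJ d v, DC d hv⟩)
  have a3 := a.trans (card_dvd_of_surjective π fun a => let ⟨_, h1, h2⟩ := k.surj a; ⟨_, h2⟩)
  rw [← a1] at a3
  nth_rw 1 [a2] at a3
  rw [card_map_of_injective d.inj, card_sub, show cnt (fun v : V => tm tT v = v) = 9 by decide +kernel]
    at a3
  exact (h.sylD d).not_dvd (by omega)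

theorem case1 (h0 : ∀ g, ¬ Act φ g (sg true)) : Nonempty (K ≃* alternatingGroup (Fin 8)) := by
  obtain ⟨ψ, -, a1, a2, a3, a4, a5⟩ := exists_psi k.m (h.ζ3 d k) (by rw [conj_mul, εe k]; simp)
    (h.αζ d c k) k.cen (h.αε d c k)
  have cy : ∀ {g γ}, Im π g γ → g ∈ normalizer (S : Set G) → g ∈ Cx (φ (o 28)) →
      ∃ d, A8.InD d ∧ γ = ψ d := fun {g γ} b1 b2 b3 => by
    obtain ⟨w, c1, b, l, c2, c3, rfl⟩ := h.dec16 d c b2 b1.mem
    cases b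
    swap
    · exact absurd c3 (h0 l)
    obtain ⟨i, j, c4⟩ := imD d k (h.triv d c3 ⟨rfl, rfl, rfl, rfl⟩) c2
    refine ⟨A8.z0 ^ i * A8.p0 ^ j, A8.D0.mul_mem (A8.D0.pow_mem (show A8.InD _ by decide +kernel) i)
      (A8.D0.pow_mem (show A8.InD _ by decide +kernel) j), ?_⟩
    rw [map_mul, map_pow, map_pow, a1, a3]
    rcases (by decide +kernel : ∀ E ∈ tE, ∀ w ∈ wH, wv [E, tN] w (o 28) = o 28 → w = [] ∨ w = [0, 0])
      E c.mE w c1 ((c3.mul (Act.wd (by simp [c.ae, d.an]) w)).fix d.inj b3) with rfl | rfl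
    · exact b1.uniq ((c4.mul Im.one).of_eq (mul_one _))
    · exact b1.uniq ((c4.mul (k.ie.mul (k.ie.mul Im.one))).of_eq (by rw [mul_one, εe k, mul_one]))
  have e1 : ψ (A8.z0 * A8.p0) = ζ * ε x0 := by rw [map_mul, a1, a3]
  refine (A8.S29.main (ψ := ψ) (t := ν) ⟨inj_of (a1 ▸ h.ne1 d k k.iz (by decide +kernel))
    (a3 ▸ h.ne1 d k k.ix (by decide +kernel)) (e1 ▸ h.ne1 d k (iy k) (by decide +kernel))
    (by decide +kernel) (by decide +kernel), fun γ a => h.nz d c k (X := ψ.range) ⟨_, a1⟩ a5 ⟨_, a2⟩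
      (fun g _ _ b => absurd b (h0 g)) (by simpa only [W2.Rel, map_inv, a1] using a),
    by rw [W2.Rel, a1, a3, νζ d k], by rw [W2.Rel, a1, a3, νx d k],
    by rw [W2.Rel, a2, a4, ← mul_assoc, ← mul_assoc, h.νν d k, mul_assoc, ← mul_inv_rev, h.νν d k]; simp,
    by rw [W2.Rel, a2, a4], fun γ a => ?_, by rw [e1, a1]; exact h.nc d k⟩).resolve_right
    fun ⟨e⟩ => h.n27 d k ?_
  · obtain ⟨g, b1⟩ := k.surj γ
    have b2 : g ∈ Cx (φ (o 28)) := mem_Cx'.2 (h.lift d k b1 (iy k) (iy k) (e1 ▸ mem_Cx'.1 a))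
    rcases h.split' d (inv_mem (h.cY' d c b2)) (inv_mem b1.mem) with b | b
    · exact (cy b1 (inv_mem_iff.1 b) b2).imp fun _ => And.imp_right Or.inl
    · exact (cy (b1.mul k.iν.inv) (by simpa using inv_mem b) (mul_mem b2 (inv_mem (d.an.mem_Cx
        (by decide +kernel))))).imp fun _ => And.imp_right fun e => Or.inr (eq_mul_of_mul_inv_eq e)
  · have := two_mul_nat_card_alternatingGroup (α := Fin 9)
    rw [Nat.card_perm, Nat.card_eq_fintype_card (α := Fin 9), Fintype.card_fin,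
      show Nat.factorial 9 = 362880 from rfl] at this
    rw [Nat.card_congr e.toEquiv]
    omega

theorem case2 {ι : G} {κ : K} (i1 : Act φ ι (sg true)) (i2 : ι ∈ T) (i3 : Im π ι κ) :
    ∃ ψ : Perm (Fin 8) ≃* K, ψ (swap 0 1) = κ * ε e0 ∧ ψ (swap 3 4 * swap 6 7) = ε e0 := by
  obtain ⟨j1, j2, j3⟩ := h.iota d c i1 i2
  have j4 := i1.mul c.ae
  have j5 : ι * e * φ (o 1) * (ι * e)⁻¹ = (φ (o 1))⁻¹ := by
    rw [j4, ← map_inv]
    exact congrArg φ ((by decide +kernel : ∀ E ∈ tE, sg true (tm E (o 1)) = (o 1)⁻¹) E c.mE)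
  have iρ := i3.mul k.ie
  have ρε := (k.act iρ (norm_zp (Or.inr (d.φz ▸ j5))) (j4.mem_Cx ((by decide +kernel :
    ∀ E ∈ tE, sg true (tm E (o 27)) = o 27) E c.mE))).1 (by rw [j2, mul_assoc e, j2]; group)
  have ρζ : κ * ε e0 * ζ * (κ * ε e0)⁻¹ = ζ⁻¹ := (iρ.conj k.iz).uniq (j5 ▸ k.iz.inv)
  have κκ : κ * κ = 1 := (i3.mul i3).eq_one j1
  have κe : Commute κ (ε e0) := iρ.uniq (j2 ▸ k.ie.mul i3)
  have κν : Commute κ ν := (i3.mul k.iν).uniq (j3 ▸ k.iν.mul i3)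
  have αε := h.αε d c k
  have αζ := h.αζ d c k
  have να : ν * (ν * ε e0 * ν⁻¹) * ν⁻¹ = ε e0 := by
    rw [← mul_assoc, ← mul_assoc, h.νν d k, mul_assoc, ← mul_inv_rev, h.νν d k]; simp
  have κα := (κν.mul_right κe).mul_right κν.inv_right
  have αα : ν * ε e0 * ν⁻¹ * (ν * ε e0 * ν⁻¹) = 1 := by rw [conj_mul, εe k]; simp
  generalize hα : ν * ε e0 * ν⁻¹ = α at αε αζ να κα αα
  have αe : Commute α (ε e0) := mul_inv_eq_iff_eq_mul.1 ((αε e0).trans (by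
    rw [(by decide +kernel : tau e0 = e0⁻¹), map_inv, inv_eq_of_mul_eq_one_right (εe k)]))
  have ρα := κα.mul_left αe.symm
  have ρρ : κ * ε e0 * (κ * ε e0) = 1 := by rw [κe.symm.mul_mul_mul_comm, κκ, εe k, mul_one]
  obtain ⟨χ, a1, a2, a3, a4, a5, a6⟩ := exists_chi (w := κ * ε e0 * α) k.m (h.ζ3 d k) ρρ ρζ
    (by rw [ρα.symm.mul_mul_mul_comm, ρρ, αα, mul_one])
    (fun s => by rw [← ρε (tau s), ← αε]; group) k.cen
    (Commute.symm (mul_inv_eq_iff_eq_mul.1 (by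
      calc _ = κ * ε e0 * (α * ζ * α⁻¹) * (κ * ε e0)⁻¹ := by group
        _ = ζ := by rw [αζ, ← conj_inv, ρζ, inv_inv])))
    (fun s => mul_inv_eq_iff_eq_mul.1 (ρε s)) ((Commute.refl _).mul_right ρα)
  have a7 : χ S8.ρ' = κ * α := by
    rw [(by decide +kernel : S8.ρ' = S8.s * S8.r), map_mul, a4, a5, κe.eq, ← mul_assoc, ← mul_assoc,
      εe k, one_mul]
  have a8 : χ S8.y = ζ * ε x0 := by rw [S8.y, map_mul, a1, a3]
  have a9 : ∀ i j : ℕ, χ (S8.z ^ i * S8.z' ^ j) = ζ ^ i * ε x0 ^ j := fun i j => by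
    rw [map_mul, map_pow, map_pow, a1, a3]
  have inj : Function.Injective χ := inj_of (a1 ▸ h.ne1 d k k.iz (by decide +kernel))
    (a3 ▸ h.ne1 d k k.ix (by decide +kernel)) (a8.trans_ne (h.ne1 d k (iy k) (by decide +kernel)))
    (by decide +kernel) (by decide +kernel)
  have nz : ∀ γ, Cm χ γ S8.z S8.z ∨ Cm χ γ S8.z S8.z⁻¹ → γ ∈ χ.range := fun γ a =>
    h.nz d c k (X := χ.range) ⟨_, a1⟩ a6
      (hα ▸ (mul_mem_cancel_left (show _ ∈ χ.range from ⟨_, a2⟩)).1 ⟨_, a4⟩) (fun g γ b1 b2 => by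
        obtain ⟨i, j, b3⟩ := imD d k (h.same d b2 i1 ⟨rfl, rfl, rfl, rfl⟩) (i3.inv.mul b1).mem
        exact (mul_mem_cancel_left (inv_mem ((mul_mem_cancel_right (a6 e0)).1 ⟨_, a2⟩))).1
          ⟨_, (a9 i j).trans (b3.uniq (i3.inv.mul b1))⟩)
      (by simpa only [Cm, map_inv, a1, eq_comm] using a)
  have tz : Cm χ ν S8.z S8.z' := by rw [Cm, a1, a3, νζ d k]
  have tz' : Cm χ ν S8.z' S8.z := by rw [Cm, a1, a3, νx d k]
  have tρ : Cm χ ν S8.ρ S8.ρ' := by rw [Cm, a2, a7, ← conj_mul, ← κν.eq, mul_inv_cancel_right, hα]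
  have nd : ∀ γ ∈ normalizer (S8.D0.map χ : Set K), Cm χ γ S8.z S8.z ∨ Cm χ γ S8.z S8.z⁻¹ ∨
      Cm χ γ S8.z S8.z' ∨ Cm χ γ S8.z S8.z'⁻¹ := fun γ a => by
    obtain ⟨x, b1, b2⟩ := gimg a S8.z_D
    obtain ⟨i, hi, j, hj, rfl⟩ := S8.D_form x b1
    obtain ⟨g, b3⟩ := k.surj γ
    rcases (by decide +kernel : ∀ i < 3, ∀ j < 3, InX (o 1 ^ i * o 27 ^ j) →
      S8.z ^ i * S8.z' ^ j = S8.z ∨ S8.z ^ i * S8.z' ^ j = S8.z⁻¹ ∨ S8.z ^ i * S8.z' ^ j = S8.z' ∨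
        S8.z ^ i * S8.z' ^ j = S8.z'⁻¹) i hi j hj (h.X_conj d (by decide +kernel)
      (h.lift d k b3 k.iz (iD k i j) (by rw [← a9, b2, a1]))) with b | b | b | b <;> rw [b] at b2
    exacts [.inl b2, .inr (.inl b2), .inr (.inr (.inl b2)), .inr (.inr (.inr b2))]
  have st : S8.St χ ν := ⟨inj, nz, h.νν d k, tz, by
      rw [Cm, a4, ← conj_mul, ← conj_mul, ← κν.eq, mul_inv_cancel_right, hα, να, mul_assoc, mul_assoc,
        αe.eq], .inl tρ, nd, fun γ a => by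
      obtain ⟨g, b1⟩ := k.surj γ
      have b2 := h.cY' d c (mem_Cx'.2 (h.lift d k b1 (iy k) (iy k) (a8 ▸ mem_Cx'.1 a)))
      have b3 : ∀ {v x}, Im π (φ v) (χ x) → ∃ x', S8.InD x' ∧ Cm χ γ x x' := fun b => by
        obtain ⟨i, j, b4⟩ := imD d k (conj_mem_of_mem_normalizer b2 (φJ d _)) (b1.conj b).mem
        exact ⟨_, S8.D0.mul_mem (S8.D0.pow_mem S8.z_D i) (S8.D0.pow_mem S8.z'_D j),
          (a9 i j).trans (b4.uniq (b1.conj b))⟩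
      exact S8.mem_nD (b3 (a1 ▸ k.iz)) (b3 (a3 ▸ k.ix)),
    ⟨le_top, S8.three_D, fun a => h.n27 d k (by
      rw [← card_top, ← card_mul_relIndex' (le_top (a := S8.D0.map χ)), card_map_of_injective inj,
        card_list (P := S8.InD) (l := l72 9) (fun _ => Iff.rfl) (by decide +kernel)]
      exact mul_dvd_mul_left 9 a)⟩, by rw [a8, a1]; exact h.nc d k, by
      rw [show centralizer (S8.D0.map χ : Set K) = ((centralizer (S8.D0.map χ : Set K)).comap χ).map χ from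
        (map_comap_eq_self fun γ a => nz γ (.inl (S8.mem_cD.1 a).1)).symm, card_map_of_injective inj,
        card_list (P := fun x => x * S8.z * x⁻¹ = S8.z ∧ x * S8.z' * x⁻¹ = S8.z') (l := l72 18)
          (fun x => by rw [mem_comap, S8.mem_cD, S8.cm_iff inj, S8.cm_iff inj]) (by decide +kernel)]
      rfl, by
      rw [← card_mul_relIndex' (inf_le_right : χ.range ⊓ normalizer (S8.D0.map χ : Set K) ≤ _),
        inf_relIndex_right, ← map_comap_eq, card_map_of_injective inj,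
        card_list (A := (normalizer (S8.D0.map χ : Set K)).comap χ)
          (P := fun x => S8.InD (x * S8.z * x⁻¹) ∧ S8.InD (x * S8.z' * x⁻¹)) (l := l72 72)
          (fun x => ⟨fun a => by
            obtain ⟨y, b1, b2⟩ := gimg a S8.z_D
            obtain ⟨y', b3, b4⟩ := gimg a S8.z'_D
            exact ⟨(S8.cm_iff inj).1 b2 ▸ b1, (S8.cm_iff inj).1 b4 ▸ b3⟩,
            fun a => S8.map_nD a⟩) (by decide +kernel),
        (relIndex_eq_two_iff_exists_notMem_and' (H := χ.range)).2 ⟨ν, S8.mem_nD ⟨_, S8.z'_D, tz⟩ ⟨_, S8.z_D, tz'⟩,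
          fun ⟨x, b⟩ => absurd ((S8.cm_iff inj).1 (b ▸ tz))
            ((by decide +kernel : ∀ x, x * S8.z * x⁻¹ ≠ S8.z') x), fun γ a => ?_⟩]
      · rfl
      rcases or_assoc.2 (nd γ a) with b | b | b
      exacts [.inr (nz γ b), .inl (nz _ (.inl (b.trans tz'))), .inl (nz _ (.inr (b.trans tz'.inv)))]⟩
  obtain ⟨_, hf⟩ := st.exists_f tρ
  obtain ⟨ψ, hψ⟩ := st.exists_psi tρ hf
  refine ⟨MulEquiv.ofBijective ψ ⟨st.psi_inj tρ hψ, MonoidHom.range_eq_top.1 (st.range_eq tρ hψ)⟩,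
    hψ.p0.trans a2, ?_⟩
  show ψ _ = _
  rw [map_mul, hψ.p3, hψ.p6, ← map_mul, ← a5]
  exact congrArg χ (by decide +kernel)

end

end Hyp

end CfsgLib.McLRec.Three
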