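import Mathlib
import Cfsg.Agent.Lib.McLRec.T8
import Cfsg.Agent.Lib.Transfer.Thompson

/-!
The 3-local characterisation of the McLaughlin group: the main theorem.
-/

set_option autoImplicit false
set_option maxHeartbeats 400000
set_option linter.unusedSectionVars false
set_option synthInstance.maxSize 4096

namespace CfsgLib.McLRec.Three

open Subgroup Cfsg CfsgLib.Tech CfsgLib.W2 CfsgLib.Rec3 TG Equiv

variable {G : Type*} [Group G] [Finite G]

theorem fin {N : Subgroup G} {t e g : G} (ht : orderOf t = 2) {σ : Cx t →* Perm (Fin 8)}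
    (hk : ∀ x, σ x = 1 ↔ (x : G) ∈ zpowers t) (hN : ∀ x : Cx t, (x : G) ∈ N ↔ Perm.sign (σ x) = 1)
    (hs : ∀ μ, Perm.sign μ = 1 → ∃ x, σ x = μ) (he : e * e = t) (eN : e ∈ N) (gN : g ∈ N)
    (h1 : g * t * g⁻¹ ∈ Cx t) (h2 : g * t * g⁻¹ ≠ t) : Nonempty (N ≃* Spor.McL) := by
  let u : N := ⟨t, he ▸ mul_mem eN eN⟩
  have hu : orderOf u = 2 := (orderOf_coe u).symm.trans ht
  have k : ∀ {x : N}, x ∈ Cx u ↔ (x : G) ∈ Cx t := by
    simp only [mem_Cx, Subtype.ext_iff]; exact Iff.rfl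
  let ι : Cx u →* Cx t := (N.subtype.comp (Cx u).subtype).codRestrict _ fun x => k.1 x.2
  refine recog_of_not_isolated hu (cover_of (π := (σ.comp ι).codRestrict (alternatingGroup _)
    fun x => (hN (ι x)).1 x.1.2) (fun μ => ?_) (t := ⟨u, mem_Cx.2 rfl⟩)
    (e := ⟨⟨e, eN⟩, k.2 (mem_Cx.2 (by rw [← he, mul_assoc]))⟩) ((orderOf_coe _).symm.trans hu)
    (fun x => Subtype.ext (mem_Cx.1 x.2)) (fun x => Subtype.ext_iff.trans ((hk (ι x)).trans
      (exists_congr fun i => ⟨fun a => Subtype.ext (Subtype.ext a), fun a => congrArg (·.1.1) a⟩)))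
    (alternatingGroup.center_eq_bot (by simp)) (Subtype.ext (Subtype.ext he)))
    fun a => h2 (congrArg Subtype.val (a.2 ⟨g, gN⟩ (Subtype.ext (mem_Cx.1 h1).symm)))
  obtain ⟨x, a⟩ := hs μ μ.2
  exact ⟨⟨⟨x, (hN x).2 (a ▸ μ.2)⟩, k.2 x.2⟩, Subtype.ext a⟩

theorem lift_conj {A : Type*} [Group A] {t : G} (ht : t * t = 1) {σ : Cx t →* A}
    (hs : Function.Surjective σ) (hk : ∀ x, σ x = 1 ↔ (x : G) ∈ zpowers t) {x y : G} {a b : A}
    (hx : Im σ x a) (hy : Im σ y b) (e : IsConj b a) :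
    ∃ c ∈ Cx t, x = c * y * c⁻¹ ∨ x = c * (y * t) * c⁻¹ := by
  obtain ⟨γ, rfl⟩ := isConj_iff.1 e
  obtain ⟨c, rfl⟩ := hs γ
  have a1 := (Im.conj ⟨c.2, rfl⟩ hy).inv.mul hx
  refine ⟨c, c.2, ((S8.cases_two ht).1 ((hk ⟨_, a1.mem⟩).1 (a1.2.trans (inv_mul_cancel _)))).imp
    (fun e => (inv_mul_eq_one.1 e).symm) fun e => ?_⟩
  rw [← conj_mul, mem_Cx'.1 c.2]
  exact inv_mul_eq_iff_eq_mul.1 e

namespace Hyp

variable {S J Q M L T : Subgroup G} {z q f n e : G} {θ : M →* PG 6} {η : L →* S25} {φ : V →* G}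
  {E : ℕ} (h : Hyp S J Q M L z θ η) (d : Dat S J Q M z φ q f n T) (c : Dat2 S L T η φ f n e E)
include h d c

omit c in
theorem cen_bot {N : Subgroup G} (hN : ∀ x : G, x ^ 3 = 1 → x ∈ N) : centralizer (N : Set G) = ⊥ :=
  eq_bot_iff.2 fun g hg => by
    have a1 := hg _ (hN (n * q * n⁻¹) (by rw [conj_pow, h.Q3 q d.qQ]; simp))
    have a2 : n * q * n⁻¹ ∉ Cx (φ (o 1)) := fun a => absurd
      (((d.an.mul d.aq).mul (d.an.inv (β := tm tN) (by decide +kernel))).fix d.inj a) (by decide +kernel)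
    rw [d.φz] at a2
    rcases zp3_cases h.zz (h.CQ g fun x hx => (hg x (hN x (h.Q3 x hx))).symm) with rfl | rfl | rfl
    exacts [rfl, absurd (mem_Cx.2 a1) a2, absurd (Cx_comm.1 (inv_mem_iff.1 (Cx_comm.1 (mem_Cx.2 a1)))) a2]

omit c in
theorem exists_iota {g : G} (a : Act φ g (sg true)) : ∃ ι ∈ T, Act φ ι (sg true) := by
  have nJ : ∀ {g α}, Act φ g α → g ∈ normalizer (J : Set G) := fun a =>
    mem_normalizer_of_forall fun x hx => by
      obtain ⟨v, rfl⟩ := (d.rng x).1 hx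
      exact a v ▸ φJ d _
  obtain ⟨j, a1, a2⟩ := exists_cent h.J3 (h.tt d) (h.triv d (((a.mul (aT d)).mul
    (a.inv (β := sg true) (by decide +kernel))).mul (aT d)) (by decide +kernel))
  have a3 := (actJ d a1).mul a
  generalize j * g = g at a2 a3
  have a4 : Act φ (g ^ 3) (sg true) := (a3.pow 3).congr (by decide +kernel)
  obtain ⟨m, b1, b2⟩ := d.sylT.exists_conj_mem (mem_inf.2 ⟨nJ a4, pow_mem a2 3⟩)
    (isPGroup_zpowers_of_pow (k := 1) (by
      rw [← pow_mul, mul_comm, pow_mul]; exact h.J3 _ (h.triv d (a3.pow _) (by decide +kernel))))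
  refine ⟨_, b2, fun v => ?_⟩
  obtain ⟨u, b3⟩ := (d.rng _).1 (conj_mem_of_mem_normalizer' b1.1 (φJ d v))
  calc _ = m * (g ^ 3 * φ u * (g ^ 3)⁻¹) * m⁻¹ := by rw [b3]; group
    _ = _ := by rw [a4, sg, sg, map_mul, map_mul, b3]; group

omit c in
theorem fnf : f * n * f⁻¹ = n * (f * f) := by
  rw [mul_inv_eq_iff_eq_mul]
  exact h.eqT d (d.af.mul d.an) ((d.an.mul (aT d)).mul d.af) (mul_mem d.fT d.nT)
    (mul_mem (mul_mem d.nT (mul_mem d.fT d.fT)) d.fT) (by decide +kernel)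

omit c in
theorem n_ne : n ∉ zpowers (f * f) := fun a => by
  rcases (S8.cases_two (h.tt d)).1 a with a | a
  · exact absurd (d.an.ext d.inj (a ▸ actJ d (one_mem J)) (o 1)) (by decide +kernel)
  · exact absurd (d.an.ext d.inj (a ▸ aT d) (o 1)) (by decide +kernel)

theorem two {ι : G} (i1 : Act φ ι (sg true)) (i2 : ι ∈ T) {σ : Cx (f * f) →* Perm (Fin 8)}
    (hs : Function.Surjective σ) (hk : ∀ x, σ x = 1 ↔ (x : G) ∈ zpowers (f * f))
    (s1 : Im σ (ι * e) (swap 0 1)) (s2 : Im σ e (swap 3 4 * swap 6 7)) :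
    ∃ N : Subgroup G, N.Normal ∧ Nonempty (N ≃* Spor.McL) ∧ N.index = 2 := by
  obtain ⟨j1, j2, -⟩ := h.iota d c i1 i2
  have nr : ¬ IsConj (f * f) (ι * (f * f)) := fun a => by
    obtain ⟨k, a⟩ := isConj_iff.1 a
    exact h.notT d (k := k) (a := o 3) (b := o 9) (by decide +kernel)
      (a ▸ (i1.mul (aT d)).mem_Cx (by decide +kernel)) (a ▸ (i1.mul (aT d)).mem_Cx (by decide +kernel))
  have r1 : ι * (f * f) ≠ 1 := fun a =>
    absurd ((i1.mul (aT d)).ext d.inj (a ▸ actJ d (one_mem J)) (o 1)) (by decide +kernel)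
  have s3 : Im σ ι _ := mul_inv_cancel_right ι e ▸ s1.mul s2.inv
  obtain ⟨ν, s4⟩ := Im.of_mem σ (nt d)
  obtain ⟨P, p1, p2⟩ := exists_isSylowIn_ge d.sylT.pgroup (d.sylT.le.trans inf_le_right)
  have ot := h.ot d
  have tt := h.tt d
  have ee := h.ee d c
  have nT := h.nT d
  have nn := h.nn d
  have fnf := h.fnf d
  have n1 := h.n_ne d
  have fC := TC d d.fT
  have eP := p2 c.eT
  have f4 : f ^ 2 ^ 2 = 1 := by
    rw [← tt, show 2 ^ 2 = 4 from rfl]; simp only [pow_succ, pow_zero, one_mul, mul_assoc]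
  generalize f * f = t at *
  clear h d c i1 i2 p2
  have t1 := ne_one_of_ord ot
  have lc := fun {x y a b} => lift_conj tt hs hk (x := x) (y := y) (a := a) (b := b)
  have rr : ι * t * (ι * t) = 1 := by rw [Commute.mul_mul_mul_comm (mem_Cx.1 s3.mem).symm, j1, tt, mul_one]
  have cls : ∀ {x μ}, Im σ x μ → x * x = 1 → x ∉ zpowers t →
      IsConj (swap 0 1 * (swap 3 4 * swap 6 7)⁻¹) μ ∨
        IsConj (swap 0 3 * swap 1 4 * swap 2 5 * swap 6 7) μ := fun {x μ} a1 a2 a3 => by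
    have k : ∀ {y b}, Im σ y b → y * y = t → ¬ IsConj b μ := fun {y b} b1 b2 b3 => by
      obtain ⟨k, -, rfl | rfl⟩ := lc a1 b1 b3 <;> rw [conj_mul, conj_eq_one_iff] at a2
      · exact t1 (b2.symm.trans a2)
      · rw [Commute.mul_mul_mul_comm (mem_Cx.1 b1.mem).symm, tt, mul_one, b2] at a2
        exact t1 a2
    rcases S8.cls8 ((a1.mul a1).eq_one a2) fun a => a3 ((hk ⟨x, a1.1⟩).1 (a1.2.trans a)) with
      a | a | a | a
    · exact absurd ((S8.conj_of_supp (by decide +kernel) (by decide +kernel) (by decide +kernel)).trans a)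
        (k s1 (by rw [Commute.mul_mul_mul_comm j2.symm, j1, ee, one_mul]))
    · exact absurd ((S8.conj_of_supp (by decide +kernel) (by decide +kernel) (by decide +kernel)).trans a)
        (k s2 ee)
    · exact .inl ((S8.conj_of_supp (by decide +kernel) (by decide +kernel) (by decide +kernel)).trans a)
    · exact .inr a
  have s5 := (cls s4 nn n1).resolve_left fun a => nr (nT.trans (by
    obtain ⟨k, b, a | a⟩ := lc s4 s3 a
    · refine (isConj_iff.2 ⟨f, fnf⟩).trans (IsConj.symm (isConj_iff.2 ⟨k, ?_⟩))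
      rw [← conj_mul, ← a, mem_Cx'.1 b]
    · exact IsConj.symm (isConj_iff.2 ⟨k, a.symm⟩)))
  have ev : ∀ {x μ}, Im σ x μ → x * x = 1 → x ∉ zpowers t → Perm.sign μ = 1 →
      ∃ k ∈ Cx t, x = k * n * k⁻¹ := fun a1 a2 a3 a4 => by
    rcases cls a1 a2 a3 with a | a
    · exact absurd ((isConj_iff_eq.1 (Perm.sign.map_isConj a)).trans a4) (by decide +kernel)
    · obtain ⟨k, b, a | a⟩ := lc a1 s4 (s5.symm.trans a)
      exacts [⟨k, b, a⟩, ⟨k * f, mul_mem b fC, by rw [a, ← fnf]; group⟩]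
  have syl : IsSylowIn 2 P ⊤ := sylow_of p1.pgroup le_top fun g _ a ⟨i, b⟩ => by
    by_cases hg : g ∈ Cx t
    · exact zpowers_le.1 (p1.le_of_normalizes (isPGroup_zpowers_of_pow b) (zpowers_le.2 hg)
        (zpowers_le.2 a))
    obtain ⟨μ, a1⟩ := Im.of_mem σ (p1.le (conj_mem_of_mem_normalizer a eP))
    obtain ⟨k, a2, a3⟩ := ev (a1.mul a1) (by rw [conj_mul, conj_mul, ee, tt]; simp) (fun a2 => by
      rw [conj_mul, ee, S8.cases_two tt, conj_eq_one_iff] at a2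
      exact a2.elim t1 (mt mem_Cx'.2 hg)) (by rw [map_mul, Int.units_mul_self])
    rw [conj_mul, ee] at a3
    have a4 : P ≤ Cx (k * n * k⁻¹) := fun x hx => by
      rw [← a3, ← conj_mem_Cx (g := g⁻¹)]
      simpa [mul_assoc] using p1.le (conj_mem_of_mem_normalizer' a hx)
    have a5 : k * f * k⁻¹ * (k * n * k⁻¹) * (k * f * k⁻¹)⁻¹ = k * n * k⁻¹ * t := by
      rw [← mem_Cx'.1 a2, conj_mul, conj_mul, ← fnf]; group
    have a6 : (k * f * k⁻¹) ^ 2 ^ 2 = 1 := by rw [conj_pow, f4]; simp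
    have a7 := mul_mem (mul_mem a2 fC) (inv_mem a2)
    have a8 := mul_mem (mul_mem a2 s4.mem) (inv_mem a2)
    generalize k * f * k⁻¹ = u at a5 a6 a7
    generalize k * n * k⁻¹ = x at a4 a5 a8
    have cj : ∀ {g}, g ∈ Cx t → g * x * g⁻¹ = x ∨ g * x * g⁻¹ = x * t →
        g ∈ Cx t ⊓ cjC (zpowers t) {x} := fun {g} b1 b2 => ⟨b1, Cx_le_norm t b1, fun _ e => e ▸ Cj.symm (by
      rcases b2 with b | b <;> rw [Cj, b]
      · simp
      · rw [mem_Cx'.1 a8]; exact mem_zpowers t)⟩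
    obtain ⟨m, b1, b2⟩ := (p1.of_le (fun y hy => cj (p1.le hy) (.inl (mem_Cx'.1 (a4 hy))))
      inf_le_left).exists_conj_mem (cj a7 (.inr a5)) (isPGroup_zpowers_of_pow a6)
    have b3 : u ∈ Cx (m⁻¹ * x * m⁻¹⁻¹) := by
      rw [← conj_mem_Cx (g := m)]; simpa [mul_assoc] using a4 b2
    have b4 : m⁻¹ * x * m⁻¹⁻¹ * x⁻¹ ∈ Cx u :=
      (zpowers_le.2 (Cx_comm.1 a7) : _ ≤ Cx u) ((inv_mem b1).2.2 x rfl).symm
    rw [mul_mem_cancel_left (Cx_comm.1 b3), inv_mem_iff, Cx_comm, mem_Cx', a5] at b4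
    exact absurd (mul_eq_left.1 b4) t1
  obtain ⟨N, n2, n3, n4⟩ := (Transfer.thompson_transfer (H := Cx t) (Q := qpre σ (alternatingGroup _))
    (fun a => syl.not_dvd (a.trans (by rw [relIndex_top_right]; exact index_dvd_of_le p1.le)))
    (by rw [relIndex, qpre, subgroupOf, comap_map_eq_self_of_injective (subtype_injective _),
      index_comap_of_surjective _ hs, alternatingGroup.index_eq_two]) (ord_two rr r1)).resolve_right
    fun ⟨g, a⟩ => nr (IsConj.trans (b := g * (ι * t) * g⁻¹) (by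
      obtain ⟨μ, a1⟩ := Im.of_mem σ (pre_le _ a)
      by_cases a2 : g * (ι * t) * g⁻¹ ∈ zpowers t
      · rw [S8.cases_two tt, conj_eq_one_iff] at a2
        rw [a2.resolve_left r1]
      · obtain ⟨k, -, a3⟩ := ev a1 (by rw [conj_mul, rr]; simp) a2 (a1.pre.1 a)
        exact nT.trans (isConj_iff.2 ⟨k, a3.symm⟩)) (isConj_iff.2 ⟨g, rfl⟩).symm)
  have rC := mul_mem s3.mem (mem_Cx.2 rfl)
  have tN : zpowers t ≤ N := zpowers_le.2 (ee ▸ mul_self_mem_of_index_two n3 e)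
  have hN : ∀ x : Cx t, (x : G) ∈ N ↔ Perm.sign (σ x) = 1 := fun x => by
    rw [← mem_im_iff hk tN, Perm.eq_alternatingGroup_of_index_eq_two (G := qim σ N) (by
      rw [qim, index_map_eq _ hs fun x hx => tN ((hk x).1 hx)]
      exact ((Nat.dvd_prime Nat.prime_two).1 (n3 ▸ relIndex_dvd_index_of_normal N _)).resolve_left
        fun a => n4 (relIndex_eq_one.1 a rC)), Perm.mem_alternatingGroup]
  obtain ⟨g, a1⟩ := isConj_iff.1 nT
  obtain ⟨g, a1, a2⟩ : ∃ g, g * t * g⁻¹ = n ∧ g ∈ N := by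
    by_cases a : g ∈ N
    exacts [⟨g, a1, a⟩, ⟨g * (ι * t), (show _ = g * (ι * t * t * (ι * t)⁻¹) * g⁻¹ by group).trans
      (by rw [mem_Cx'.1 rC, a1]), (mul_mem_iff_of_index_two n3).2 (iff_of_false a n4)⟩]
  exact ⟨N, n2, fin ot hk hN (fun μ _ => hs μ) ee ((hN ⟨e, s2.1⟩).2 (by rw [s2.2]; decide +kernel)) a2
    (a1 ▸ s4.mem) (fun a => n1 (a1 ▸ a.symm ▸ mem_zpowers t)), n3⟩

omit d c in
theorem main : ∃ N : Subgroup G, N.Normal ∧ Nonempty (N ≃* Spor.McL) ∧ centralizer (N : Set G) = ⊥ ∧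
    (N = ⊤ ∨ N.index = 2) := by
  obtain ⟨φ, q, f, n, T, d⟩ := h.exists_dat
  obtain ⟨η, e, E, h, c⟩ := h.exists_dat2 d
  obtain ⟨K, _, _, π, hs, hk⟩ := exists_quo (K := Cx (f * f)) (Cx_le_norm (f * f))
  obtain ⟨ε, ζ, ν, k⟩ := h.exists_Kd d c hs hk
  by_cases a : ∃ g, Act φ g (sg true)
  · obtain ⟨g, a⟩ := a
    obtain ⟨ι, i2, i1⟩ := h.exists_iota d a
    obtain ⟨κ, i3⟩ := Im.of_mem π (TC d i2)
    obtain ⟨ψ, a1, a2⟩ := h.case2 d c k i1 i2 i3
    have k1 : ∀ {g μ}, Im π g (ψ μ) → Im (ψ.symm.toMonoidHom.comp π) g μ := fun a =>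
      ⟨a.1, ψ.symm_apply_eq.2 a.2⟩
    obtain ⟨N, n1, n2, n3⟩ := h.two d c i1 i2 (σ := ψ.symm.toMonoidHom.comp π)
      (ψ.symm.surjective.comp hs) (fun x => (map_eq_one_iff _ ψ.symm.injective).trans (hk x))
      (k1 (a1 ▸ i3.mul k.ie)) (k1 (a2 ▸ k.ie))
    exact ⟨N, n1, n2, h.cen_bot d fun x hx => mem_of_sq hx (mul_self_mem_of_index_two n3 x), .inr n3⟩
  · obtain ⟨ψ⟩ := h.case1 d c k (not_exists.1 a)
    obtain ⟨g, a1⟩ := isConj_iff.1 (h.nT d)
    refine ⟨⊤, inferInstance, fin (h.ot d)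
      (σ := (alternatingGroup _).subtype.comp (ψ.toMonoidHom.comp π))
      (fun x => OneMemClass.coe_eq_one.trans ((map_eq_one_iff _ ψ.injective).trans (hk x)))
      (fun x => iff_of_true (mem_top _) (ψ (π x)).2) (fun μ a => ?_) (h.ee d c) (mem_top _) (mem_top g)
      (a1 ▸ nt d) (fun a => h.n_ne d (a1 ▸ a.symm ▸ mem_zpowers _)),
      h.cen_bot d fun _ _ => mem_top _, .inl rfl⟩
    obtain ⟨x, e⟩ := (ψ.surjective.comp hs) ⟨μ, a⟩
    exact ⟨x, congrArg Subtype.val e⟩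

end Hyp

end CfsgLib.McLRec.Three
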