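import Mathlib
import Cfsg.Agent.Lib.McLRec.T9
import Cfsg.Agent.Lib.PGroup.Extraspecial
import Cfsg.Agent.Lib.Comp.Primitive
import Cfsg.Agent.S2073

/-!
The 3-local characterisation of the McLaughlin group: translation of the hypotheses.
-/

set_option autoImplicit false
set_option maxHeartbeats 400000
set_option linter.unusedSectionVars false
set_option synthInstance.maxSize 4096

namespace CfsgLib.McLRec.Three

open Subgroup Cfsg CfsgLib.Tech CfsgLib.W2 CfsgLib.Rec3 TG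

variable {G : Type*} [Group G] [Finite G]

theorem concl {N : Subgroup G} [N.Normal] (e : N ≃* Spor.McL) (hc : centralizer (N : Set G) = ⊥)
    (h : N = ⊤ ∨ N.index = 2) : Nonempty (G ≃* Spor.McL) ∨ Nonempty (G ≃* MulAut Spor.McL) := by
  rcases h with rfl | h
  · exact .inl ⟨topEquiv.symm.trans e⟩
  have h1 : Function.Injective (MulAut.conjNormal (H := N)) := (injective_iff_map_eq_one _).2
    fun g a => mem_bot.1 (hc ▸ fun x hx => (mul_inv_eq_iff_eq_mul.1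
      (congrArg (fun α : MulAut N => (α ⟨x, hx⟩ : G)) a)).symm)
  have h2 : Function.Injective (MulAut.conj (G := N)) := (injective_iff_map_eq_one _).2
    fun g a => Subtype.ext (mem_bot.1 (hc ▸ fun x hx => (mul_inv_eq_iff_eq_mul.1
      (congrArg (fun α : MulAut N => (α ⟨x, hx⟩ : G)) a)).symm))
  refine .inr ⟨(MulEquiv.ofBijective _ ((Nat.bijective_iff_injective_and_card _).2 ⟨h1, ?_⟩)).trans
    (MulAut.congr e)⟩
  rw [← N.card_mul_index, h, card_eq_card_quotient_mul_card_subgroup (Inn N),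
    (MultC.card_out_congr e).trans Agent.S2073.result,
    ← Nat.card_congr (MonoidHom.ofInjective h2).toEquiv, mul_comm]

theorem fstar_eq {N : Subgroup G} [N.Normal] (e : N ≃* Spor.McL) (hc : centralizer (N : Set G) = ⊥) :
    generalizedFittingSubgroup G = N := by
  obtain ⟨e'⟩ := iso_McL
  have := simple_X
  have h1 : Comp.fstarOf N = N := by
    rw [Comp.fstarOf, eq_top_iff.2 ((Comp.layer_eq_top_of_qs (Comp.qs_of_mulEquiv
      (Comp.qs_of_isSimpleGroup fun a => not_solvable_X (Group.isSolvable_of_comm a.is_comm.comm))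
      (e.trans e').symm)).ge.trans Comp.layer_le_fstar), ← MonoidHom.range_eq_map, range_subtype]
  rw [← (Comp.fstar_eq_of_centralizer_eq_bot (N := N) (by rw [h1, hc])).2.1, h1]

omit [Finite G] in
theorem exists_im {M J : Subgroup G} (hJ : J ≤ M) {A B : Type*} [Group A] [Group B] {θ : M →* A}
    (hs : Function.Surjective θ) (hk : ∀ x, θ x = 1 ↔ (x : G) ∈ J) {κ : A →* B}
    (hκ : Function.Injective κ) : ∃ θ' : M →* B, (∀ a ∈ κ.range, ∃ g, Im θ' g a) ∧
      (∀ g a, Im θ' g a → a ∈ κ.range) ∧ ∀ g, Im θ' g 1 ↔ g ∈ J :=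
  ⟨κ.comp θ, by
    rintro _ ⟨a, rfl⟩
    obtain ⟨x, rfl⟩ := hs a
    exact ⟨x, x.2, rfl⟩, fun _ _ a => ⟨_, a.2⟩, fun g =>
    ⟨fun a => (hk ⟨g, a.1⟩).1 ((map_eq_one_iff κ hκ).1 a.2),
      fun a => ⟨hJ a, (map_eq_one_iff κ hκ).2 ((hk ⟨g, hJ a⟩).2 a)⟩⟩⟩

omit [Finite G] in
theorem exists_θ {M J : Subgroup G} (hJ : J ≤ M) {θ : M →* alternatingGroup (Fin 6)}
    (hs : Function.Surjective θ) (hk : ∀ x, θ x = 1 ↔ (x : G) ∈ J) :
    ∃ θ' : M →* PG 6, (∀ a ∈ PG.alt 6, ∃ g, Im θ' g a) ∧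
      (∀ g a, Im θ' g a → a ∈ PG.alt 6) ∧ ∀ g, Im θ' g 1 ↔ g ∈ J := by
  simpa only [range_subtype] using exists_im hJ (θ := (PG.altE 6).toMonoidHom.comp θ)
    ((PG.altE 6).surjective.comp hs)
    (fun x => (map_eq_one_iff _ (PG.altE 6).injective).trans (hk x)) (subtype_injective _)

omit [Finite G] in
theorem exists_η {L Q : Subgroup G} (hQ : Q ≤ L) {η : L →* FrobCompl.SL25}
    (hs : Function.Surjective η) (hk : ∀ x, η x = 1 ↔ (x : G) ∈ Q) :
    ∃ η' : L →* S25, (∀ a, ∃ g, Im η' g a) ∧ ∀ g, Im η' g 1 ↔ g ∈ Q := by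
  obtain ⟨e⟩ := equiv25
  obtain ⟨η', a, -, b⟩ := exists_im hQ hs hk (κ := e.toMonoidHom) e.injective
  exact ⟨η', fun s => a s (e.surjective s), b⟩

theorem norm_cl {H : Subgroup G} :
    H ≤ normalizer (closure {g | g ∈ H ∧ ∃ k : ℕ, orderOf g = 3 ^ k} : Set G) := fun g hg =>
  mem_normalizer_of_cj_le (map_le_iff_le_comap.2 ((closure_le _).2 fun x hx => subset_closure
    ⟨mul_mem (mul_mem hg hx.1) (inv_mem hg), (ord_conj g x).symm ▸ hx.2⟩))

omit [Finite G] in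
theorem ord3 {g : G} (h : ∃ k, g ^ 3 ^ k = 1) : ∃ k : ℕ, orderOf g = 3 ^ k :=
  let ⟨_, e⟩ := h
  let ⟨j, _, e⟩ := (Nat.dvd_prime_pow Nat.prime_three).1 (orderOf_dvd_of_pow_eq_one e)
  ⟨j, e⟩

theorem cen3 {z g : G} (hz : z ^ 3 = 1) (h : g ∈ normalizer (zpowers z : Set G)) {k : ℕ}
    (e : g ^ 3 ^ k = 1) : g ∈ Cx z := by
  rcases zp3_cases hz (conj_mem_of_mem_normalizer h (mem_zpowers z)) with a | a | a
  · rw [conj_eq_one_iff.1 a]; simp
  · exact mem_Cx'.2 a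
  · refine mem_of_coprime_pow (a := 2) (b := 3 ^ k) (Nat.Coprime.pow_right k (by norm_num))
      (mem_Cx'.2 ?_) (e ▸ one_mem _)
    calc _ = g * (g * z * g⁻¹) * g⁻¹ := by rw [pow_two]; group
      _ = z := by rw [a, ← conj_inv, a, inv_inv]

theorem exists_gen {Z : Subgroup G} (hZ : Nat.card Z = 3) : ∃ z, orderOf z = 3 ∧ Z = zpowers z := by
  obtain ⟨x, e⟩ := (isCyclic_of_prime_card hZ).exists_ofOrder_eq_natCard
  refine ⟨x, by rw [orderOf_coe, e, hZ], (eq_of_le_of_card_ge (zpowers_le.2 x.2) ?_).symm⟩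
  rw [Nat.card_zpowers, orderOf_coe, e]

omit [Finite G] in
theorem cen_zp (z : G) : centralizer (zpowers z : Set G) = Cx z := by
  rw [zpowers_eq_closure, centralizer_closure]

theorem setup (S : Sylow 3 G) {Z J M L Q : Subgroup G}
    (hZ : Z = (S : Subgroup G) ⊓ centralizer ((S : Subgroup G) : Set G))
    (hJS : J ≤ S) (Jc : IsMulCommutative J) (J3 : ∀ a ∈ J, a ^ 3 = 1) (cJ : Nat.card J = 3 ^ 4)
    (hM : M = closure {g : G | g ∈ normalizer (J : Set G) ∧ ∃ k : ℕ, orderOf g = 3 ^ k})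
    (hJM : J ≤ M) [(J.subgroupOf M).Normal] (eM : M ⧸ J.subgroupOf M ≃* alternatingGroup (Fin 6))
    (hL : L = closure {g : G | g ∈ normalizer (Z : Set G) ∧ ∃ k : ℕ, orderOf g = 3 ^ k})
    (hQ : Q = (pCore 3 (normalizer (Z : Set G))).map (normalizer (Z : Set G)).subtype)
    (Qx : IsExtraspecial 3 Q) (cQ : Nat.card Q = 3 ^ 5) (Q3 : ∀ a ∈ Q, a ^ 3 = 1)
    (hQL : Q ≤ L) [(Q.subgroupOf L).Normal]
    (eL : L ⧸ Q.subgroupOf L ≃* Matrix.SpecialLinearGroup (Fin 2) (ZMod 5)) :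
    ∃ z, Z = zpowers z ∧ z ∈ J ∧ z ≠ 1 ∧ (centralizer (((pCore 3 (Cx z)).map (Cx z).subtype :
      Subgroup G) : Set G) ≤ (pCore 3 (Cx z)).map (Cx z).subtype →
      Nonempty (G ≃* Spor.McL) ∨ Nonempty (G ≃* MulAut Spor.McL)) := by
  have syl := IsSylowIn.of_sylow_top S
  have SZ : (S : Subgroup G) ≤ centralizer (Z : Set G) := le_centralizer_iff.1 (hZ ▸ inf_le_right)
  have NQ : normalizer (Z : Set G) ≤ normalizer (Q : Set G) :=
    hQ ▸ le_normalizer.trans (Core.normalizer_le_normalizer_map_pCore _)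
  have QS : Q ≤ S := (syl.of_le (SZ.trans (centralizer_le_normalizer _)) le_top).le_of_le_normalizer
    Qx.1.1 (hQ ▸ map_subtype_le _) NQ
  have ZQ : Z ≤ Q := hQ ▸ Core.le_map_pCore le_normalizer le_rfl (hZ ▸ S.isPGroup'.to_inf_left)
  obtain ⟨a1, a2⟩ := PGroup.IsExtraspecial.ambient Qx
  obtain ⟨z, z3, a3⟩ := exists_gen a2
  have a4 : Z = zpowers z := by
    have b1 : Z ≤ zpowers z := a3 ▸ le_inf ZQ (le_centralizer_iff.1 (QS.trans SZ))
    refine ((Nat.dvd_prime Nat.prime_three).1 (by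
      simpa only [Nat.card_zpowers, z3] using card_dvd_of_le b1)).elim (fun b => ?_)
      fun b => eq_of_le_of_card_ge b1 (by rw [b, Nat.card_zpowers, z3])
    have : Nontrivial S := Finite.one_lt_card_iff_nontrivial.1
      (lt_of_lt_of_le (by rw [cQ]; norm_num) (card_le_of_le QS))
    rw [hZ, ← Core.map_subtype_center, Core.card_map_subtype] at b
    exact absurd b (Finite.one_lt_card_iff_nontrivial.2 S.isPGroup'.center_nontrivial).ne'
  clear hZ
  subst a4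
  rw [cen_zp] at SZ
  have zz : z ^ 3 = 1 := z3 ▸ pow_orderOf_eq_one z
  have Jc' : ∀ x ∈ J, ∀ y ∈ J, x * y = y * x := fun x hx y hy =>
    congrArg Subtype.val (Jc.is_comm.comm ⟨x, hx⟩ ⟨y, hy⟩)
  have L3 : ∀ g ∈ Cx z, (∃ k, g ^ 3 ^ k = 1) → g ∈ L := fun g a b =>
    hL ▸ subset_closure ⟨Cx_le_norm z a, ord3 b⟩
  obtain ⟨θ, b1, b2, b3⟩ := exists_θ hJM (θ := eM.toMonoidHom.comp (QuotientGroup.mk' _))
    (eM.surjective.comp (QuotientGroup.mk'_surjective _))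
    fun x => (map_eq_one_iff _ eM.injective).trans (QuotientGroup.eq_one_iff x)
  obtain ⟨η, b4, b5⟩ := exists_η hQL (η := eL.toMonoidHom.comp (QuotientGroup.mk' _))
    (eL.surjective.comp (QuotientGroup.mk'_surjective _))
    fun x => (map_eq_one_iff _ eL.injective).trans (QuotientGroup.eq_one_iff x)
  refine ⟨z, rfl, ?_, fun e => by simp [e] at z3, fun hC => ?_⟩
  · have c1 : J ⊔ zpowers z ≤ S := sup_le hJS (ZQ.trans QS)
    have c2 := comm_sup Jc' fun a ha => (mem_Cx.1 (SZ (hJS ha))).symm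
    have c3 := PGroup.IsExtraspecial.card_le_of_isMulCommutative Qx (n := 2) cQ
      (A := (J ⊔ zpowers z).subgroupOf Q) ⟨⟨fun a b => Subtype.ext (Subtype.ext (c2 _ a.2 _ b.2))⟩⟩
    have c4 := card_mul_relIndex' (inf_le_left : (J ⊔ zpowers z) ⊓ Q ≤ _)
    have c5 := card_im (f := η) (fun x => ⟨fun a => (b5 _).1 ⟨x.2, a⟩, fun a => ((b5 _).2 a).2⟩)
      fun x hx => L3 x (SZ (c1 hx)) (isPGroup_iff_mem.1 syl.pgroup x (c1 hx))
    obtain ⟨k, c6⟩ := (((syl.pgroup.to_le c1).comap_subtype (K := L)).map η).exists_card_eq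
    have c7 := card_subgroup_dvd_card (qim η (J ⊔ zpowers z))
    rw [card_eq, show Nat.card (qim η (J ⊔ zpowers z)) = 3 ^ k from c6] at c7
    have c8 : k ≤ 1 := by
      by_contra a
      exact absurd ((pow_dvd_pow 3 (by omega : 2 ≤ k)).trans c7) (by norm_num)
    rw [← inf_subgroupOf_right, Core.card_subgroupOf_of_le inf_le_right] at c3
    rw [inf_relIndex_left, ← c5, show Nat.card (qim η (J ⊔ zpowers z)) = 3 ^ k from c6] at c4
    refine (eq_of_le_of_card_ge (le_sup_left : J ≤ J ⊔ zpowers z) ?_).ge (mem_sup_right (mem_zpowers z))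
    rw [cJ, ← c4]
    interval_cases k <;> omega
  rw [show (pCore 3 (Cx z)).map (Cx z).subtype = Q from le_antisymm
    (hQ ▸ Core.map_pCore_le_map_pCore (Cx_le_norm z)
      (cen_zp z ▸ Core.normalizer_le_normalizer_centralizer _))
    (Core.le_map_pCore (QS.trans SZ) ((Cx_le_norm z).trans NQ) Qx.1.1)] at hC
  obtain ⟨N, _, ⟨e⟩, c1, c2⟩ := Hyp.main (S := S) (θ := θ) (η := η) ⟨syl, z3, SZ, hJS, Jc', J3, cJ,
    hM ▸ (closure_le _).2 fun _ a => a.1, hM ▸ norm_cl, fun g a b => hM ▸ subset_closure ⟨a, ord3 b⟩,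
    b1, b2, b3, hL ▸ (closure_le _).2 fun g ⟨a, k, b⟩ => cen3 zz a (b ▸ pow_orderOf_eq_one g),
    hL ▸ norm_cl, L3, b4, b5, NQ, cQ, Q3,
    fun x hx y hy => (a1.trans a3).le (commutator_mem_commutator hx hy), ZQ (mem_zpowers z),
    fun g a => a3.le ⟨hC fun x hx => (a x hx).symm, fun x hx => (a x hx).symm⟩⟩
  exact concl e c1 c2

end CfsgLib.McLRec.Three
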