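import Mathlib
import Cfsg.Agent.Lib.McLRec.T10

/-!
The 3-local characterisation of the McLaughlin group: the version with generalized Fitting subgroups.
-/

set_option autoImplicit false
set_option maxHeartbeats 400000
set_option linter.unusedSectionVars false
set_option synthInstance.maxSize 4096

namespace CfsgLib.McLRec.Three

open Subgroup Cfsg CfsgLib.Tech CfsgLib.W2 CfsgLib.Rec3 TG

variable {G : Type*} [Group G] [Finite G]

/-- elements of order a power of three act as inner automorphisms on a normal subgroup `SL₂(5)` -/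
theorem mem_of_three {F : Subgroup G} [F.Normal] (hC : centralizer (F : Set G) ≤ F)
    (e : F ≃* FrobCompl.SL25) {g : G} {k : ℕ} (hg : g ^ 3 ^ k = 1) : g ∈ F := by
  obtain ⟨e'⟩ := equiv25
  let ε : S25 →* G := F.subtype.comp (e.trans e').symm.toMonoidHom
  have inj : Function.Injective ε := Subtype.val_injective.comp (e.trans e').symm.injective
  have a1 : ∀ s, ε s ∈ F := fun s => ((e.trans e').symm s).2
  have a2 : ∀ x ∈ F, ∃ s, ε s = x := fun x hx => ⟨(e.trans e') ⟨x, hx⟩, by simp [ε]⟩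
  clear_value ε
  have a3 : ∀ s, ∃ s', W2.Rel ε g s s' := fun s =>
    (a2 _ (Normal.conj_mem inferInstance _ (a1 s) g)).imp fun _ => Eq.symm
  obtain ⟨x, b1⟩ := a3 x0
  obtain ⟨w, b2⟩ := a3 w0
  have b3 := (b1.mul b2).mul (b1.mul b2)
  obtain ⟨l, c1, c2⟩ := (by decide +kernel : ∀ x : S25, x * x * x = 1 → x ≠ 1 → ∀ w : S25,
    w * w * w * w * w = 1 → x * w * (x * w) ≠ 1 → x * w * (x * w) * (x * w * (x * w)) = 1 →
    ∃ l, l * x * l⁻¹ = x0 ∧ (l * w * l⁻¹ = w0 ∨ l * w * l⁻¹ = tau w0)) x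
    (((b1.mul b1).mul b1).uniq inj W2.Rel.one (by decide +kernel))
    (fun a => absurd (b1.uniq' inj W2.Rel.one a) (by decide +kernel)) w
    (((((b2.mul b2).mul b2).mul b2).mul b2).uniq inj W2.Rel.one (by decide +kernel))
    (fun a => absurd (b3.uniq' inj W2.Rel.one a) (by decide +kernel))
    ((b3.mul b3).uniq inj W2.Rel.one (by decide +kernel))
  have k1 : ∀ α : S25 →* S25, α x0 = x0 → α w0 = l * w * l⁻¹ → ∀ s, W2.Rel ε (ε l * g) s (α s) :=
    fun α d1 d2 => ind_of_genB gen25 (by rw [map_one]; exact W2.Rel.one) fun s a y hy => by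
      simp only [List.mem_cons, List.not_mem_nil, or_false] at hy
      rw [map_mul]
      rcases hy with rfl | rfl
      exacts [a.mul (((W2.Rel.conj ε l x).comp b1).of_eq rfl (c1.trans d1.symm)),
        a.mul (((W2.Rel.conj ε l w).comp b2).of_eq rfl d2.symm)]
  have k2 : ∀ {y}, (∀ s, W2.Rel ε y s s) → y ∈ F := fun a => hC fun x hx => by
    obtain ⟨s, rfl⟩ := a2 x hx
    exact (a s).comm.symm
  refine (mul_mem_cancel_left (a1 l)).1 ?_
  rcases c2 with c | c
  · exact k2 (k1 (MonoidHom.id _) rfl c.symm)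
  have k3 := k1 tau (by decide +kernel) c.symm
  have k4 := k2 fun s => ((k3 _).comp (k3 s)).of_eq rfl ((by decide +kernel : ∀ s, tau (tau s) = s) s)
  refine mul_mem (a1 l) (mem_of_coprime_pow (a := 2) (b := 3 ^ k)
    (Nat.Coprime.pow_right k (by norm_num)) ?_ (hg ▸ one_mem _))
  simpa [pow_two, mul_assoc] using mul_mem (inv_mem (Normal.conj_mem inferInstance _ (a1 l) g))
    (mul_mem (inv_mem (a1 l)) k4)

theorem exists_pre {H W : Subgroup G} {X A : Type*} [Group X] [Group A] {f : H →* X}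
    (hs : Function.Surjective f) (hk : ∀ x, f x = 1 ↔ (x : G) ∈ W) {T : Subgroup X} (e : T ≃* A) :
    ∃ θ : qpre f T →* A, Function.Surjective θ ∧ ∀ x, θ x = 1 ↔ (x : G) ∈ W := by
  refine ⟨e.toMonoidHom.comp ((f.comp (inclusion (pre_le T))).codRestrict T fun x =>
    (mem_pre (x := inclusion (pre_le T) x)).1 x.2), e.surjective.comp fun a => ?_,
    fun x => (map_eq_one_iff _ e.injective).trans (Subtype.ext_iff.trans (hk _))⟩
  obtain ⟨x, hx⟩ := hs a
  exact ⟨⟨x, mem_pre.2 (hx ▸ a.2)⟩, Subtype.ext hx⟩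

theorem fstar_iso {z : G} (z3 : orderOf z = 3) (S : Sylow 3 (Cx z)) {J : Subgroup G}
    (hJS : J ≤ (S : Subgroup (Cx z)).map (Cx z).subtype) (hJ : IsElementaryAbelian 3 J)
    (cJ : Nat.card J = 3 ^ 4) (Qx : IsExtraspecial 3 (generalizedFittingSubgroup (Cx z)))
    (cQ : Nat.card (generalizedFittingSubgroup (Cx z)) = 3 ^ 5)
    [(generalizedFittingSubgroup (Cx z)).Normal]
    (Q3 : ∀ x ∈ generalizedFittingSubgroup (Cx z), x ^ 3 = 1)
    (eL : generalizedFittingSubgroup (Cx z ⧸ generalizedFittingSubgroup (Cx z)) ≃* FrobCompl.SL25)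
    [(J.subgroupOf (normalizer (J : Set G))).Normal]
    (eM : closure {x : normalizer (J : Set G) ⧸ J.subgroupOf (normalizer (J : Set G)) |
      ∃ k : ℕ, orderOf x = 3 ^ k} ≃* alternatingGroup (Fin 6)) :
    Spor.IsoMcL (generalizedFittingSubgroup G) := by
  have c0 := Comp.fstar_characteristic (G := Cx z)
  have c1 := Comp.centralizer_fstar_le (G := Cx z)
  have c2 : (⟨z, mem_Cx.2 rfl⟩ : Cx z) ∈ generalizedFittingSubgroup (Cx z) :=
    c1 fun x _ => Subtype.ext (mem_Cx.1 x.2)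
  generalize generalizedFittingSubgroup (Cx z) = Q at *
  have zz : z ^ 3 = 1 := z3 ▸ pow_orderOf_eq_one z
  have kQ : ∀ x : Cx z, QuotientGroup.mk' Q x = 1 ↔ (x : G) ∈ Q.map (Cx z).subtype := fun x =>
    (QuotientGroup.eq_one_iff x).trans (mem_map_iff_mem (subtype_injective _)).symm
  have kJ : ∀ x : normalizer (J : Set G), QuotientGroup.mk' (J.subgroupOf _) x = 1 ↔ (x : G) ∈ J :=
    fun x => QuotientGroup.eq_one_iff x
  obtain ⟨θ, a1, a2⟩ := exists_pre (QuotientGroup.mk'_surjective _) kJ eM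
  obtain ⟨θ, b1, b2, b3⟩ := exists_θ (le_pre kJ le_normalizer _) a1 a2
  obtain ⟨η, a3, a4⟩ := exists_pre (QuotientGroup.mk'_surjective _) kQ eL
  obtain ⟨η, b4, b5⟩ := exists_η (le_pre kQ (map_subtype_le _) _) a3 a4
  obtain ⟨c3, c4⟩ := PGroup.IsExtraspecial.ambient Qx
  have c5 : Q ⊓ centralizer (Q : Set (Cx z)) = zpowers ⟨z, mem_Cx.2 rfl⟩ :=
    (eq_of_le_of_card_ge (K := Q ⊓ centralizer (Q : Set (Cx z)))
      (zpowers_le.2 ⟨c2, fun x _ => Subtype.ext (mem_Cx.1 x.2)⟩) (by rw [c4, Nat.card_zpowers, ← orderOf_coe, z3])).symm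
  have c6 : ∀ x : Cx z, x ∈ Q ⊓ centralizer (Q : Set (Cx z)) → (x : G) ∈ zpowers z := fun x a =>
    let ⟨i, e⟩ := c5.le a; ⟨i, congrArg Subtype.val e⟩
  have CQ : ∀ g, (∀ x ∈ Q.map (Cx z).subtype, g * x = x * g) → g ∈ zpowers z := fun g a => by
    have a' : (⟨g, mem_Cx.2 (a z ⟨_, c2, rfl⟩)⟩ : Cx z) ∈ centralizer (Q : Set (Cx z)) :=
      fun x hx => Subtype.ext (a _ ⟨x, hx, rfl⟩).symm
    exact c6 _ ⟨c1 a', a'⟩
  have NZ : normalizer (zpowers z : Set G) ≤ normalizer (Cx z : Set G) :=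
    cen_zp z ▸ Core.normalizer_le_normalizer_centralizer _
  have syl := IsSylowIn.of_sylow_subgroup S
  have QS : Q.map (Cx z).subtype ≤ _ := map_mono ((Core.le_pCore Qx.1.1).trans (Core.pCore_le_sylow S))
  generalize (S : Subgroup (Cx z)).map (Cx z).subtype = P at hJS syl QS
  have := Characteristic.comap_quotient_mk (Comp.fstar_characteristic (G := Cx z ⧸ Q))
  obtain ⟨N, _, ⟨e⟩, d1, -⟩ := Hyp.main (S := P) (θ := θ) (η := η) ⟨sylow_of syl.pgroup le_top
      fun g _ a ⟨k, b⟩ => zpowers_le.1 (syl.le_of_normalizes (isPGroup_zpowers_of_pow b)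
        (zpowers_le.2 (cen3 zz (mem_normalizer_of_cj_le (by
          rw [cj_zpowers, zpowers_le]
          refine CQ _ fun x hx => mem_Cx.1 (Cx_comm.1 ?_)
          rw [← conj_mem_Cx (g := g⁻¹)]
          simpa [mul_assoc] using syl.le (conj_mem_of_mem_normalizer' a (QS hx)))) b)) (zpowers_le.2 a)),
    z3, syl.le, hJS, fun x hx y hy => congrArg Subtype.val (hJ.1.is_comm.comm ⟨x, hx⟩ ⟨y, hy⟩), hJ.2, cJ,
    pre_le _, fun g a => norm_pre (x := ⟨g, a⟩) (by
      simpa using norm_cl (H := ⊤) (mem_top (QuotientGroup.mk' (J.subgroupOf _) ⟨g, a⟩))),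
    fun g a ⟨k, b⟩ => (mem_pre (x := ⟨g, a⟩)).2 (subset_closure (ord3 ⟨k, by
      rw [← map_pow, show (⟨g, a⟩ : normalizer (J : Set G)) ^ 3 ^ k = 1 from Subtype.ext b, map_one]⟩)),
    b1, b2, b3, pre_le _, NZ.trans (Core.normalizer_le_normalizer_map_subtype_of_characteristic _),
    fun g a ⟨k, b⟩ => (mem_pre (x := ⟨g, a⟩)).2 (have := Comp.fstar_normal (G := Cx z ⧸ Q)
      mem_of_three Comp.centralizer_fstar_le eL (k := k) (by
        rw [← map_pow, show (⟨g, a⟩ : Cx z) ^ 3 ^ k = 1 from Subtype.ext b, map_one])), b4, b5,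
    NZ.trans (Core.normalizer_le_normalizer_map_subtype_of_characteristic _),
    (Core.card_map_subtype _).trans cQ, by
      rintro _ ⟨x, hx, rfl⟩; exact congrArg Subtype.val (Q3 x hx), by
      rintro _ ⟨x, hx, rfl⟩ _ ⟨y, hy, rfl⟩
      exact c6 _ (c3.le (commutator_mem_commutator hx hy)), ⟨_, c2, rfl⟩, CQ⟩
  rw [fstar_eq e d1]
  exact ⟨e⟩

end CfsgLib.McLRec.Three
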